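import Cfsg.Agent.Lib.Fi.Cls
import Cfsg.Agent.Lib.Fi.L22

/-! Classification of the subspaces `D_d ∩ D_k` at level 22 (generated). -/

set_option autoImplicit false
set_option maxRecDepth 100000
set_option Elab.async false

namespace CA.Fi

noncomputable def P22 : Cp := ⟨6, 4835740173635522568126464, [(([1, 2, 1], 3), ([3, 1], 2))], 126, R21, c22.ls, c22.mur, c22.x0⟩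

/-- the reference tuple -/
def ref22 : List Cw := [([], 0), ([], 3), ([], 7), ([5, 6, 1, 5, 2, 1], 0), ([], 4), ([], 6)]

variable {T : ℕ → Equiv.Perm ℕ} (h : Mdl S21 T)
include h

theorem lf22_0 : Goal S21 T P22 [([], 0), ([], 2), ([], 3), ([7, 6, 1, 5, 4, 3, 2, 1], 0), ([6, 7, 3], 2), ([3, 4, 2, 3, 7, 6, 1, 2, 3, 7, 4, 3, 2, 1], 0)] :=
  goal_of_leaf h _ [1, 2, 1, 4, 1, 5, 2, 1, 3, 1] [(1, [0, 1, 2, 4, 3, 1, 2, 1, 4, 1, 5, 2, 1, 3, 1, 2, 4, 1, 2, 4, 3]), (4, [2, 1, 4, 1, 3, 2, 1, 2, 4, 1, 5, 2, 1, 3, 1, 2]), (18, [0, 1, 2, 3, 1, 2, 1, 4, 1, 2, 3, 1, 2, 1, 5])] [] [] (by decide +kernel)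

theorem lf22_1 : Goal S21 T P22 [([], 0), ([], 2), ([], 3), ([7, 6, 1, 5, 4, 3, 2, 1], 0), ([6, 7, 3], 2), ([7, 6, 1, 2, 3, 7, 4, 3, 2, 1], 0)] :=
  goal_of_leaf h _ [1, 2, 1, 4, 1, 5, 2, 1, 3, 1] [(1, [0, 1, 2, 4, 3, 1, 2, 1, 4, 5, 2, 1, 3, 1, 2, 1, 4, 1, 5, 2, 3]), (4, [2, 1, 4, 1, 3, 2, 1, 2, 4, 1, 5, 2, 1, 3, 1, 2])] [([3, 7, 6, 5, 1, 2, 3, 7, 6, 2, 1, 5, 4, 3, 2, 1], 0), ([], 0), ([4, 3, 2], 1), ([6], 5), ([7, 1, 5, 4, 3, 2, 1], 0), ([4, 3, 7, 6, 5], 1), ([3], 2), ([5, 6, 7, 5, 6, 1, 5, 4, 3, 2, 1], 0)] [([], 1), ([3, 7, 3, 2, 1, 5, 6, 2, 3, 7, 4, 3, 2, 1], 0), ([5, 4, 3, 2], 1), ([6, 5, 4, 3, 2], 1), ([5, 6, 1, 2, 3, 7, 5, 6, 3, 2, 1, 5, 4, 3, 2, 1], 0), ([0, 1, 5, 6, 3, 2, 1, 5, 4, 3, 2, 1], 0), ([0, 1, 5,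 6, 2, 1, 5, 4, 3, 2, 1], 0), ([2, 1, 5, 6, 7, 4, 3, 2, 1], 0)] (by decide +kernel)

theorem lf22_2 : Goal S21 T P22 [([], 0), ([], 2), ([], 3), ([7, 6, 1, 5, 4, 3, 2, 1], 0), ([6, 7, 3], 2), ([5, 6, 3, 7, 4, 3], 2)] :=
  goal_of_leaf h _ [1, 2, 1, 4, 1, 5, 2, 1, 3, 1] [(4, [2, 1, 4, 1, 3, 2, 1, 2, 5, 2, 4, 1, 2, 3, 1, 2]), (12, [0, 1, 2, 4, 1, 2, 5, 2, 1, 3, 1, 2, 1, 4, 1, 5, 2, 1, 3, 2])] [([4, 3, 2, 1], 0), ([], 0), ([], 1), ([], 2), ([], 3), ([7, 3, 2, 1], 0), ([], 6), ([7, 2, 1, 5, 4, 3, 2, 1], 0)] [([], 1), ([], 2), ([], 3), ([], 4), ([4, 3, 2, 1], 0), ([2, 3, 7, 5, 4, 3, 2, 1], 0), ([], 6), ([5, 4, 3, 2], 1)] (by decide +kernel)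

theorem lf22_3 : Goal S21 T P22 [([], 0), ([], 2), ([], 3), ([7, 6, 1, 5, 4, 3, 2, 1], 0), ([6, 7, 3], 2), ([7, 6], 5)] :=
  goal_of_leaf h _ [1, 2, 1, 5, 2, 4, 1, 2, 3, 1] [(1, [0, 1, 2, 5, 2, 1, 4, 1, 3, 2, 1, 2, 5, 2, 4, 1, 2, 3, 1, 2]), (4, [2, 1, 5, 2, 4, 1, 3, 1, 2, 1, 5, 4, 1, 2, 1, 3, 1, 2])] [([7, 1, 5, 6, 2, 1, 5, 4, 3, 2, 1], 0), ([], 0), ([7, 3, 2], 1), ([], 5), ([7], 6), ([3, 7, 6, 5, 3, 2, 1], 0), ([], 2), ([3, 7, 6, 2, 1, 5, 4, 3, 2, 1], 0)] [([], 1), ([3, 7, 5, 4, 3, 2, 1], 0), ([], 6), ([5, 4, 3, 2], 1), ([0, 1, 5, 6, 1, 2, 3, 7, 4, 3, 2, 1], 0), ([], 3), ([2, 3, 4, 1, 2, 3, 7, 6, 5, 2, 1], 0), ([2, 3, 4, 1, 2, 3, 7, 6, 5, 1], 0)] (by decide +kernel)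

theorem lf22_4 : Goal S21 T P22 [([], 0), ([], 2), ([], 3), ([7, 6, 1, 5, 3, 2, 1], 0), ([7, 3], 2), ([3, 4, 2, 3, 7, 6, 1, 2, 3, 7, 4, 3, 2, 1], 0)] :=
  goal_of_leaf h _ [1, 2, 1, 4, 1, 5, 2, 1, 3, 1] [(1, [0, 1, 2, 4, 3, 1, 2, 1, 4, 1, 5, 2, 1, 3, 1, 2, 4, 1, 2, 4, 3]), (4, [2, 1, 4, 1, 3, 2, 1, 2, 4, 1, 5, 2, 1, 3, 1, 2]), (12, [0, 1, 2, 4, 5, 2, 1, 3, 1, 2, 1, 4, 1, 2, 3])] [] [] (by decide +kernel)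

theorem lf22_5 : Goal S21 T P22 [([], 0), ([], 2), ([], 3), ([7, 6, 1, 5, 3, 2, 1], 0), ([7, 3], 2), ([7, 6, 1, 2, 3, 7, 4, 3, 2, 1], 0)] :=
  goal_of_leaf h _ [1, 2, 1, 4, 1, 5, 2, 1, 3, 1] [(1, [0, 1, 2, 4, 3, 1, 2, 1, 4, 5, 2, 1, 4, 3, 2, 1, 2, 4, 5, 1, 2, 3]), (4, [2, 1, 4, 1, 3, 2, 1, 2, 4, 1, 5, 2, 1, 3, 1, 2])] [([5, 4, 3, 2, 1], 0), ([], 0), ([5], 1), ([], 2), ([], 3), ([4, 3, 2], 1), ([1, 2, 0, 1, 5, 6, 3, 2, 1, 5, 4, 3, 2, 1], 0), ([7, 2, 1, 5, 4, 3, 2, 1], 0)] [([], 1), ([5, 2, 1], 0), ([], 3), ([], 4), ([4, 3, 2, 1], 0), ([5, 1], 0), ([2, 1, 5, 6, 3, 2, 1, 5, 4, 3, 2, 1], 0), ([7, 5, 3, 2], 1)] (by decide +kernel)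

theorem lf22_6 : Goal S21 T P22 [([], 0), ([], 2), ([], 3), ([7, 6, 1, 5, 3, 2, 1], 0), ([7, 3], 2), ([5, 6, 3, 7, 4, 3], 2)] :=
  goal_of_leaf h _ [1, 2, 1, 4, 1, 5, 2, 1, 3, 1] [(1, [0, 1, 2, 5, 2, 1, 4, 1, 3, 2, 1, 2, 4, 1, 5, 2, 3, 1, 2]), (4, [2, 1, 4, 1, 3, 2, 1, 2, 4, 5, 2, 1, 2, 3, 1, 2])] [([5, 4, 3, 2, 1], 0), ([], 0), ([5], 1), ([], 2), ([], 3), ([6, 5, 4, 3, 2], 1), ([6, 5, 1, 2, 0, 1, 5, 6, 3, 2, 1, 5, 4, 3, 2, 1], 0), ([5, 6, 7, 4], 3)] [([], 1), ([1, 5, 6, 3, 2, 1, 5, 4, 3, 2, 1], 0), ([], 3), ([], 4), ([4, 3, 2, 1], 0), ([2, 1, 5, 6, 3, 2, 1, 5, 4, 3, 2, 1], 0), ([5, 1], 0), ([5, 1, 2, 3, 7, 6, 5, 4, 3, 2], 1)] (by decide +kernel)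

theorem lf22_7 : Goal S21 T P22 [([], 0), ([], 2), ([], 3), ([7, 6, 1, 5, 3, 2, 1], 0), ([7, 3], 2), ([7, 6], 5)] :=
  goal_of_leaf h _ [1, 2, 1, 4, 1, 5, 2, 1, 3, 1] [(4, [2, 1, 4, 1, 5, 2, 3, 1, 2, 1, 4, 5, 1, 2, 1, 3, 1, 2]), (26, [0, 4, 1, 2, 5, 2, 1, 3, 1, 2, 1, 4, 1, 2, 5, 2, 1, 3, 1, 2, 1])] [([4, 3, 2, 1], 0), ([], 0), ([], 1), ([], 2), ([], 3), ([7, 3, 2, 1], 0), ([], 6), ([2, 1, 5, 3, 2, 1], 0)] [([], 1), ([], 2), ([], 3), ([], 4), ([4, 3, 2, 1], 0), ([2, 3, 7, 4, 3, 2], 1), ([], 6), ([5, 4, 3, 2], 1)] (by decide +kernel)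

theorem cls22 : Goal S21 T P22 [] := by
  refine goal_of_ct h (kn := [[([], 0), ([], 2), ([], 3), ([7, 6, 1, 5, 4, 3, 2, 1], 0), ([6, 7, 3], 2), ([3, 4, 2, 3, 7, 6, 1, 2, 3, 7, 4, 3, 2, 1], 0)], [([], 0), ([], 2), ([], 3), ([7, 6, 1, 5, 4, 3, 2, 1], 0), ([6, 7, 3], 2), ([7, 6, 1, 2, 3, 7, 4, 3, 2, 1], 0)], [([], 0), ([], 2), ([], 3), ([7, 6, 1, 5, 4, 3, 2, 1], 0), ([6, 7, 3], 2), ([5, 6, 3, 7, 4, 3], 2)], [([], 0), ([], 2), ([], 3), ([7, 6, 1, 5, 4, 3, 2, 1], 0), ([6, 7, 3], 2), ([7, 6], 5)], [([], 0), ([], 2), ([], 3), ([7, 6, 1, 5, 3, 2, 1], 0), ([7, 3], 2), ([3, 4, 2, 3, 7, 6, 1, 2, 3, 7, 4, 3, 2, 1], 0)], [([], 0), ([], 2), ([], 3), ([7, 6, 1, 5, 3, 2, 1], 0), ([7, 3], 2), ([7, 6, 1, 2, 3, 7, 4, 3, 2, 1], 0)],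 [([], 0), ([], 2), ([], 3), ([7, 6, 1, 5, 3, 2, 1], 0), ([7, 3], 2), ([5, 6, 3, 7, 4, 3], 2)], [([], 0), ([], 2), ([], 3), ([7, 6, 1, 5, 3, 2, 1], 0), ([7, 3], 2), ([7, 6], 5)]]) ?_
    (.br ([], 0) [[0], [1], [2], [3], [4], [5], [6], [7]] [1, 0, 2, 5, 3, 6, 7, 1, 4, 3, 6, 2, 5, 1, 4, 0, 3, 5, 2, 6, 7, 1, 2, 3, 5, 6] (.br ([], 2) [[2], [3], [4], [5], [6], [7], [1, 5, 2, 1, 0, 1, 2, 5, 1]] [1, 0, 2, 5, 4, 1, 3, 5, 6, 4, 1, 5, 2, 0, 1, 6, 1, 4] (.br ([], 3) [[2], [4], [5], [6], [7], [1, 5, 2, 1, 0, 1, 2, 5, 1], [3, 7, 4, 3, 2, 3, 4, 7, 3]] [0, 1, 4, 3, 2, 5, 3, 2, 6, 3, 5] (.br ([3], 2) [] [] .nil (.br ([1, 5, 3, 2, 1], 0) [[5], [6], [7, 6, 3, 7, 4, 3, 2, 3, 4, 7, 3, 6, 7], [1, 2, 3, 7, 4, 3, 2, 1, 0, 1, 2, 3, 4, 7,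 3, 2, 1]] [1, 0, 2, 0, 3, 1] (.dead 0) (.br ([4], 3) [] [] (.dead 0) (.br ([7], 3) [[5], [6], [7, 6, 3, 7, 4, 3, 2, 3, 4, 7, 3, 6, 7], [1, 2, 3, 7, 4, 3, 2, 1, 0, 1, 2, 3, 4, 7, 3, 2, 1]] [1, 0, 2, 0, 3, 1] (.dead 0) (.br ([7, 1, 5, 4, 3, 2, 1], 0) [[5], [6], [7, 6, 3, 7, 4, 3, 2, 3, 4, 7, 3, 6, 7], [1, 2, 3, 7, 4, 3, 2, 1, 0, 1, 2, 3, 4, 7, 3, 2, 1]] [1, 0, 2, 0, 3, 1] (.dead 0) (.br ([7, 6, 1, 5, 3, 2, 1], 0) [[5], [6], [7, 6, 3, 7, 4, 3, 2, 3, 4, 7, 3, 6, 7]] [0, 1, 0, 2, 0, 1] (.br ([7, 3], 2) [[5, 6, 7, 6, 3, 7, 4, 3, 2, 3, 4, 7, 3, 6, 7, 1, 2, 3, 7, 4, 3, 2, 1, 0, 1, 2, 3, 4, 7, 3, 2, 1], [5, 7, 5, 6, 3, 7, 4, 3, 2, 3, 4, 7, 3, 6, 5, 7, 1, 2, 3, 7, 4, 3, 2, 1, 0, 1, 2, 3, 4, 7, 3, 2, 1, 6], [2, 3, 7, 6, 1, 5,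 3, 2, 1, 0, 1, 2, 3, 5, 1, 6, 7, 2, 3, 7, 6, 1, 5, 3, 2, 1, 0, 1, 2, 3, 5, 1, 6, 7]] [0, 1, 2, 2] (.br ([7, 6], 5) [] [] .done (.br ([5, 6, 3, 7, 4, 3], 2) [] [] .done (.br ([7, 6, 1, 2, 3, 7, 4, 3, 2, 1], 0) [] [] .done (.br ([3, 4, 2, 3, 7, 6, 1, 2, 3, 7, 4, 3, 2, 1], 0) [] [] .done .nil)))) .nil) (.br ([7, 6, 1, 5, 4, 3, 2, 1], 0) [[5], [6], [7, 6, 3, 7, 4, 3, 2, 3, 4, 7, 3, 6, 7]] [0, 1, 0, 2, 0, 1] (.br ([6, 7, 3], 2) [[5, 6, 7, 6, 3, 7, 4, 3, 2, 3, 4, 7, 3, 6, 7, 1, 2, 3, 7, 4, 3, 2, 1, 0, 1, 2, 3, 4, 7, 3, 2, 1], [5, 7, 5, 6, 3, 7, 4, 3, 2, 3, 4, 7, 3, 6, 5, 7, 1, 2, 3, 7, 4, 3, 2, 1, 0, 1, 2, 3, 4, 7, 3, 2, 1, 6], [2, 7, 6, 1, 5, 4, 3, 2, 1, 0, 1, 2, 3, 4, 5, 1, 6, 7, 3, 2, 7, 6, 1, 5, 4, 3, 2, 1, 0, 1, 2,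 3, 4, 5, 1, 6, 7, 3]] [0, 1, 2, 2] (.br ([7, 6], 5) [] [] .done (.br ([5, 6, 3, 7, 4, 3], 2) [] [] .done (.br ([7, 6, 1, 2, 3, 7, 4, 3, 2, 1], 0) [] [] .done (.br ([3, 4, 2, 3, 7, 6, 1, 2, 3, 7, 4, 3, 2, 1], 0) [] [] .done .nil)))) .nil) (.br ([7, 6, 1, 5, 0, 1, 2, 3, 7, 6, 5, 4, 3, 2, 1], 0) [] [] (.dead 0) (.br ([7, 6, 2, 3, 7, 5, 6, 1, 2, 3, 7, 4, 3, 2, 1], 0) [] [] (.dead 0) .nil))))))))) .nil) .nil) .nil) [] (by decide +kernel)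
  simp only [List.mem_cons, List.not_mem_nil, or_false, forall_eq_or_imp, forall_eq]
  exact ⟨lf22_0 h, lf22_1 h, lf22_2 h, lf22_3 h, lf22_4 h, lf22_5 h, lf22_6 h, lf22_7 h⟩

end CA.Fi
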