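import Cfsg.Agent.Lib.Fi.Cls
import Cfsg.Agent.Lib.Fi.L23

/-! Classification of the subspaces `D_d ∩ D_k` at level 23 (generated). -/

set_option autoImplicit false
set_option maxRecDepth 100000
set_option Elab.async false

namespace CA.Fi

noncomputable def P23 : Cp := ⟨8, 41541068645147066704634716096561152, [(([6, 1, 2, 3, 4], 5), ([1, 2, 3, 4, 5, 4, 3, 2, 1], 6))], 351, R22, c23.ls, c23.mur, c23.x0⟩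

/-- the reference tuple -/
def ref23 : List Cw := [([], 0), ([], 1), ([], 2), ([], 3), ([], 7), ([], 6), ([], 5), ([], 4)]

variable {T : ℕ → Equiv.Perm ℕ} (h : Mdl S22 T)
include h

theorem lf23_0 : Goal S22 T P23 [([], 8), ([], 0), ([], 1), ([], 2), ([], 3), ([7, 5, 6, 1, 5, 2, 1], 0), ([5, 4, 3, 2], 1), ([7, 2, 1, 5, 4, 3, 2, 1], 0)] :=
  goal_of_leaf h _ [3, 1, 4, 2, 3, 1, 2, 6, 1, 2, 3, 4, 5, 4, 3, 2, 1, 6, 1, 2] [(4, [4, 3, 2, 1, 6, 1, 2, 5, 4, 3, 2, 1, 6, 1, 2, 3, 4, 7, 3, 5, 4, 2, 3, 1, 5]), (694, [0, 1, 2, 3, 4, 6, 1, 2, 5, 4, 3, 2, 1, 6, 1, 2, 3, 4, 7, 3, 4, 2, 5, 4, 3, 1, 2, 4, 1, 3, 6, 1, 2])] [([], 0), ([], 1), ([], 2), ([], 3), ([9, 3, 2, 1], 0), ([9, 7, 5, 3, 2, 1], 0), ([8, 9, 6, 7, 3, 2, 1], 0), ([9, 7, 4, 3,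 2, 1], 0), ([8, 9, 4, 3, 2, 1], 0), ([7, 3, 2, 1], 0)] [([], 0), ([], 1), ([], 2), ([], 3), ([9, 7, 4, 3, 2, 1], 0), ([9, 5, 4, 3, 2, 1], 0), ([9, 8, 0, 9, 6, 1, 2, 3, 7, 4, 3, 2, 1], 0), ([9, 3, 2, 1], 0), ([8, 9, 7, 3, 2, 1], 0), ([4, 3, 2, 1], 0)] (by decide +kernel)

theorem lf23_1 : Goal S22 T P23 [([], 8), ([], 0), ([], 1), ([], 2), ([], 3), ([7, 5, 6, 1, 5, 2, 1], 0), ([7, 3, 2, 1], 0), ([7, 2, 1, 5, 4, 3, 2, 1], 0)] :=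
  goal_of_leaf h _ [3, 1, 4, 2, 3, 1, 2, 6, 1, 2, 3, 4, 5, 4, 3, 2, 1, 6, 1, 2] [(4, [4, 3, 2, 1, 6, 1, 2, 5, 4, 3, 2, 1, 6, 1, 2, 3, 4, 7, 3, 5, 4, 2, 3, 1, 5]), (694, [0, 1, 2, 3, 4, 5, 4, 3, 6, 1, 2, 3, 4, 7, 3, 4, 2, 1, 3, 2, 5, 4, 3, 2, 6, 1, 2, 3, 5, 4, 3, 2])] [([], 0), ([], 1), ([], 2), ([], 3), ([9, 3, 2, 1], 0), ([9, 7, 5, 3, 2, 1], 0), ([8, 9, 6, 7, 3, 2, 1], 0), ([9, 7, 4, 3, 2, 1], 0), ([8, 9, 4, 3, 2, 1], 0), ([7, 3, 2, 1], 0)] [([], 0), ([], 1), ([], 2), ([], 3), ([9, 7, 4, 3, 2, 1], 0), ([9, 5, 4, 3, 2, 1], 0), ([9, 8, 0, 9, 6, 1, 2, 3, 7, 4, 3, 2, 1], 0), ([9, 3, 2, 1], 0), ([8, 9, 7, 3, 2, 1], 0), ([4, 3, 2, 1], 0)] (by decide +kernel)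

theorem lf23_2 : Goal S22 T P23 [([], 8), ([], 0), ([], 1), ([], 2), ([], 3), ([5, 6, 1, 5, 2, 1], 0), ([7, 5, 3, 2], 1), ([2, 1, 5, 3, 2, 1], 0)] :=
  goal_of_leaf h _ [3, 1, 4, 2, 3, 1, 2, 6, 1, 2, 3, 4, 7, 3, 4, 2, 1, 3, 6] [(4, [4, 3, 2, 1, 6, 1, 2, 5, 4, 3, 2, 1, 6, 1, 2, 3, 4, 7, 3, 5, 4, 2, 3, 1, 5]), (707, [0, 5, 4, 3, 2, 1, 6, 1, 2, 3, 4, 7, 3, 2, 4, 1, 3, 5, 4, 3, 2, 1, 6, 1, 2, 3, 4, 7, 3])] [([], 0), ([], 1), ([], 2), ([], 3), ([], 4), ([], 5), ([], 6), ([], 7), ([], 8), ([], 9)] [([], 0), ([], 1), ([], 2), ([], 3), ([], 4), ([], 5), ([], 6), ([], 7), ([], 8), ([], 9)] (by decide +kernel)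

theorem lf23_3 : Goal S22 T P23 [([], 8), ([], 0), ([], 1), ([], 2), ([], 3), ([5, 6, 1, 5, 2, 1], 0), ([7, 3, 2, 1], 0), ([2, 1, 5, 3, 2, 1], 0)] :=
  goal_of_leaf h _ [3, 1, 4, 2, 3, 1, 2, 6, 1, 2, 3, 4, 7, 3, 4, 2, 1, 3, 6] [(4, [4, 3, 2, 1, 6, 1, 2, 5, 4, 3, 2, 1, 6, 1, 2, 3, 4, 7, 3, 5, 4, 2, 3, 1, 5]), (707, [0, 6, 1, 2, 3, 4, 5, 4, 3, 2, 6, 1, 2, 3, 4, 7, 3, 4, 2, 1, 3, 2, 5, 4, 6, 1, 2, 3, 2])] [([], 0), ([], 1), ([], 2), ([], 3), ([], 4), ([], 5), ([], 6), ([], 7), ([], 8), ([], 9)] [([], 0), ([], 1), ([], 2), ([], 3), ([], 4), ([], 5), ([], 6), ([], 7), ([], 8), ([], 9)] (by decide +kernel)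

theorem lf23_4 : Goal S22 T P23 [([], 8), ([], 0), ([], 1), ([], 2), ([], 3), ([], 7), ([6, 7, 5, 3, 2], 1), ([6, 7, 4], 3)] :=
  goal_of_leaf h _ [3, 1, 4, 5, 2, 3, 4, 1, 3, 2, 1, 5, 7, 3, 2, 1, 7] [(4, [4, 3, 5, 2, 1, 4, 3, 6, 1, 5, 2, 4, 3, 2, 1, 4, 5, 7, 3, 2, 4, 1, 5]), (694, [0, 1, 2, 3, 4, 5, 6, 5, 1, 4, 2, 3, 2, 7, 3, 4, 2, 1, 5, 3, 2, 3, 4, 1, 7, 3, 4, 5]), (700, [0, 3, 2, 4, 1, 5, 7, 3, 2, 4, 1, 5, 3, 2, 4, 6, 1, 5, 2, 3, 4, 3])] [] [] (by decide +kernel)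

theorem lf23_5 : Goal S22 T P23 [([], 8), ([], 0), ([], 1), ([], 2), ([], 3), ([], 7), ([6, 5, 4, 3, 2], 1), ([6, 7, 4], 3)] :=
  goal_of_leaf h _ [3, 1, 4, 5, 2, 3, 4, 1, 3, 2, 1, 5, 7, 3, 2, 1, 7] [(4, [4, 3, 5, 2, 1, 4, 3, 6, 1, 5, 2, 4, 3, 2, 1, 4, 5, 7, 3, 2, 4, 1, 5]), (694, [0, 1, 2, 3, 4, 5, 6, 5, 1, 4, 2, 3, 2, 7, 3, 4, 2, 1, 5, 3, 2, 3, 4, 1, 7, 3, 4, 5]), (700, [0, 3, 2, 4, 1, 5, 7, 3, 2, 4, 1, 5, 3, 2, 4, 6, 1, 5, 2, 3, 4, 5, 3, 2, 3])] [] [] (by decide +kernel)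

theorem cls23 : Goal S22 T P23 [] := by
  refine goal_of_ct h (kn := [[([], 8), ([], 0), ([], 1), ([], 2), ([], 3), ([7, 5, 6, 1, 5, 2, 1], 0), ([5, 4, 3, 2], 1), ([7, 2, 1, 5, 4, 3, 2, 1], 0)], [([], 8), ([], 0), ([], 1), ([], 2), ([], 3), ([7, 5, 6, 1, 5, 2, 1], 0), ([7, 3, 2, 1], 0), ([7, 2, 1, 5, 4, 3, 2, 1], 0)], [([], 8), ([], 0), ([], 1), ([], 2), ([], 3), ([5, 6, 1, 5, 2, 1], 0), ([7, 5, 3, 2], 1), ([2, 1, 5, 3, 2, 1], 0)], [([], 8), ([], 0), ([], 1), ([], 2), ([], 3), ([5, 6, 1, 5, 2, 1], 0), ([7, 3, 2, 1], 0), ([2, 1, 5, 3, 2, 1], 0)], [([], 8), ([], 0), ([], 1), ([], 2), ([], 3), ([], 7), ([6, 7, 5, 3, 2], 1), ([6, 7, 4], 3)], [([], 8), ([], 0), ([], 1), ([], 2), ([], 3), ([], 7), ([6, 5, 4, 3, 2], 1), ([6, 7, 4], 3)]])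 ?_
    (.br ([], 8) [[0], [1], [2], [3], [4], [5], [6], [7], [8], [9]] [9, 0, 8, 1, 2, 5, 9, 3, 6, 7, 1, 4, 0, 3, 6, 5, 1, 2, 7, 0, 6, 9, 1, 5, 3, 4, 7, 3, 6, 7, 1, 5, 0, 6] (.br ([], 0) [[0], [1], [2], [3], [4], [5], [6], [7]] [1, 0, 2, 5, 3, 6, 7, 1, 4, 3, 6, 2, 5, 1, 4, 0, 3, 5, 2, 6, 7, 1, 2, 3, 5, 6] (.br ([], 1) [[0], [2], [3], [4], [5], [6], [7], [1, 5, 2, 1, 0, 1, 2, 5, 1]] [0, 1, 4, 2, 5, 6, 3, 2, 5, 1, 4, 3, 2, 6, 7, 2, 5, 6, 3, 2] (.br ([], 2) [[3], [4], [6], [7], [2, 1, 5, 3, 2, 1, 0, 1, 2, 3, 5, 1, 2]] [0, 1, 3, 2, 0, 3, 4, 2, 3, 1, 0, 2, 1, 3, 4, 2, 1] (.br ([], 3) [[4], [6], [7], [5, 6, 1, 5, 2, 1, 0, 1, 2, 5, 1, 6, 5], [3, 2, 1, 5, 4, 3, 2, 1, 0, 1, 2, 3, 4, 5, 1, 2, 3]] [0, 2, 1, 3, 2, 1, 4] (.br ([], 4) [] []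 (.br ([4, 3, 2, 1], 0) [] [] .nil (.br ([7, 3, 2, 1], 0) [[6], [9, 8, 0, 9, 1, 2, 3, 7, 4, 3, 2, 1, 0, 1, 2, 3, 4, 7, 3, 2, 1, 9, 0, 8, 9]] [0, 1] (.dead 0) (.br ([5, 4, 3, 2], 1) [[6], [9, 8, 0, 9, 1, 2, 3, 7, 4, 3, 2, 1, 0, 1, 2, 3, 4, 7, 3, 2, 1, 9, 0, 8, 9]] [0, 1] (.dead 0) (.br ([7, 5, 3, 2], 1) [[6], [9, 8, 0, 9, 1, 2, 3, 7, 4, 3, 2, 1, 0, 1, 2, 3, 4, 7, 3, 2, 1, 9, 0, 8, 9]] [0, 1] (.dead 0) .nil)))) (.br ([], 7) [[6], [9, 8, 0, 9, 1, 2, 3, 7, 4, 3, 2, 1, 0, 1, 2, 3, 4, 7, 3, 2, 1, 9, 0, 8, 9]] [0, 1] (.br ([4, 3, 2, 1], 0) [] [] (.dead 0) (.br ([7, 3, 2, 1], 0) [] [] .nil (.br ([5, 4, 3, 2], 1) [] [] (.dead 0) (.br ([7, 5, 3, 2], 1) [] [] (.dead 0) (.br ([6, 5, 4, 3, 2], 1) [[9, 8, 0, 9, 1, 2, 3, 7, 4, 3, 2, 1, 0, 1, 2,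 3, 4, 7, 3, 2, 1, 9, 0, 8, 9]] [0] (.br ([6, 7, 4], 3) [] [] .done .nil) (.br ([6, 7, 5, 3, 2], 1) [[9, 8, 0, 9, 1, 2, 3, 7, 4, 3, 2, 1, 0, 1, 2, 3, 4, 7, 3, 2, 1, 9, 0, 8, 9]] [0] (.br ([6, 7, 4], 3) [] [] .done .nil) .nil)))))) (.br ([5, 6, 1, 5, 2, 1], 0) [[6], [9, 8, 0, 9, 1, 2, 3, 7, 4, 3, 2, 1, 0, 1, 2, 3, 4, 7, 3, 2, 1, 9, 0, 8, 9]] [1, 0] (.br ([4, 3, 2, 1], 0) [] [] (.dead 0) (.br ([7, 3, 2, 1], 0) [[6]] [0] (.br ([2, 1, 5, 3, 2, 1], 0) [] [] .done .nil) (.br ([7, 5, 3, 2], 1) [[6]] [0] (.br ([2, 1, 5, 3, 2, 1], 0) [] [] .done .nil) (.br ([0, 1, 5, 6, 2, 1, 5, 3, 2, 1], 0) [] [] .nil (.br ([5, 1, 2, 3, 7, 6, 5, 4, 3, 2], 1) [] [] (.dead 0) (.br ([0, 1, 2, 3, 7, 6, 3, 2, 1, 5, 4, 3, 2, 1], 0) [] [] (.dead 0) .nil))))))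 (.br ([7, 5, 6, 1, 5, 2, 1], 0) [[6], [9, 8, 0, 9, 1, 2, 3, 7, 4, 3, 2, 1, 0, 1, 2, 3, 4, 7, 3, 2, 1, 9, 0, 8, 9]] [0, 1] (.br ([4, 3, 2, 1], 0) [] [] (.dead 0) (.br ([7, 3, 2, 1], 0) [[9, 8, 0, 9, 6, 1, 2, 3, 7, 4, 3, 2, 1, 0, 1, 2, 3, 4, 7, 3, 2, 1, 6, 9, 0, 8, 9]] [0] (.br ([7, 2, 1, 5, 4, 3, 2, 1], 0) [] [] .done .nil) (.br ([6, 7, 3, 2, 1], 0) [] [] (.dead 0) (.br ([5, 4, 3, 2], 1) [[9, 8, 0, 9, 6, 1, 2, 3, 7, 4, 3, 2, 1, 0, 1, 2, 3, 4, 7, 3, 2, 1, 6, 9, 0, 8, 9]] [0] (.br ([7, 2, 1, 5, 4, 3, 2, 1], 0) [] [] .done .nil) (.br ([6, 5, 4, 3, 2], 1) [] [] (.dead 0) (.br ([6, 7, 5, 3, 2], 1) [] [] .nil .nil)))))) .nil)))) .nil) .nil) .nil) .nil) .nil) [] (by decide +kernel)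
  simp only [List.mem_cons, List.not_mem_nil, or_false, forall_eq_or_imp, forall_eq]
  exact ⟨lf23_0 h, lf23_1 h, lf23_2 h, lf23_3 h, lf23_4 h, lf23_5 h⟩

end CA.Fi
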