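import Cfsg.Agent.Lib.Fi.Cls
import Cfsg.Agent.Lib.Fi.L24

/-! Classification of the subspaces `D_d ∩ D_k` at level 24 (generated). -/

set_option autoImplicit false
set_option maxRecDepth 100000
set_option Elab.async false

namespace CA.Fi

noncomputable def P24 : Cp := ⟨9, 21778154560323628354752318573945445941248, [], 3240, R23, c24.ls, c24.mur, c24.x0⟩

/-- the reference tuple -/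
def ref24 : List Cw := [([], 0), ([], 1), ([], 2), ([], 0), ([], 5), ([], 3), ([], 9), ([], 6), ([], 8)]

variable {T : ℕ → Equiv.Perm ℕ} (h : Mdl S23 T)
include h

theorem lf24_0 : Goal S23 T P24 [([], 10), ([], 0), ([], 1), ([], 9), ([5, 2], 1), ([3], 2), ([], 8), ([6, 7], 3), ([8, 9, 3, 7, 4, 3, 2, 1], 0)] :=
  goal_of_leaf h _ [1, 2, 6, 3, 1, 6, 5, 7, 2, 3, 4, 1, 3, 2, 6, 5, 8, 6, 3, 4, 1, 2, 3, 6, 1, 5, 3, 4] [(2, [2, 1, 3, 7, 6, 4, 1, 3, 2, 6, 5, 1, 2, 3, 7, 1, 8, 6, 3, 1, 2, 4, 1, 5, 3, 6, 7, 2, 4, 1, 3, 4, 1, 5]), (3514, [0, 4, 1, 2, 3, 6, 1, 7, 5, 4, 1, 2, 3, 1, 6, 5, 2, 3, 7, 6, 4, 1, 5, 2, 3, 7, 6, 4, 1, 8, 6, 3, 5, 1, 2, 6, 4, 1, 5, 2, 3, 7, 4, 1, 2, 6])] [([], 0), ([], 1), ([3], 2), ([], 4), ([], 11), ([9, 5, 2, 1],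 0), ([], 6), ([9, 7, 3, 2, 1], 0), ([8, 9, 2, 1], 0), ([9], 8), ([10, 11, 9, 4, 3, 2, 1], 0), ([], 10)] [([], 0), ([], 1), ([8, 9, 1], 0), ([8, 9, 2, 1], 0), ([], 3), ([10, 11, 8, 9, 5, 4, 3, 2, 1], 0), ([], 6), ([10, 11, 7, 4], 3), ([10, 11, 9, 4, 3, 2, 1], 0), ([10, 11, 4, 3, 2, 1], 0), ([], 11), ([], 4)] (by decide +kernel)

theorem lf24_1 : Goal S23 T P24 [([], 10), ([], 0), ([], 1), ([], 9), ([5, 2], 1), ([3], 2), ([], 8), ([], 6), ([8, 9, 2, 1], 0)] :=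
  goal_of_leaf h _ [1, 2, 6, 3, 7, 1, 6, 5, 2, 3, 4, 1, 8, 6, 3, 2, 6, 5, 4, 7, 1, 2, 3, 5, 1, 4, 1, 3] [(4, [5, 2, 1, 3, 6, 4, 7, 1, 2, 3, 5, 1, 4, 1, 2, 3, 6, 7, 1, 8, 6, 3, 5, 1, 2, 6, 4, 1, 7, 3, 2, 5, 6, 2, 4, 1, 7, 2, 3, 6, 4, 1]), (3512, [0, 5, 2, 1, 3, 6, 4, 7, 1, 2, 3, 5, 1, 4, 1, 2, 3, 6, 7, 1, 8, 6, 3, 5, 1, 2, 6, 4, 1, 7, 3, 2, 5, 6, 2, 4, 1, 7, 2, 3, 6, 4, 1]), (3686, [0, 1, 7, 2, 3, 5, 2, 1, 6, 3, 4, 1, 7, 2, 3, 6, 1, 3, 5, 4, 1, 2, 3, 6, 7, 1, 5, 3, 8, 6, 2, 3, 4, 1])] [] [] (by decide +kernel)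

theorem lf24_2 : Goal S23 T P24 [([], 10), ([], 0), ([], 1), ([], 9), ([5, 2], 1), ([3], 2), ([6, 2, 1, 5, 4, 3, 2, 1], 0), ([6, 7], 3), ([8, 9, 3, 7, 4, 3, 2, 1], 0)] :=
  goal_of_leaf h _ [1, 2, 3, 1, 5, 7, 2, 4, 1, 3, 5, 2, 7, 1, 4, 1, 2, 3, 8, 5, 7, 1, 6, 3, 1, 2, 5, 1, 4, 1, 3] [(2, [2, 1, 3, 7, 4, 1, 3, 2, 5, 1, 2, 7, 4, 1, 8, 6, 3, 1, 2, 4, 1, 5, 3, 2, 7, 1, 4, 1, 2, 3, 5, 7]), (3514, [0, 4, 1, 2, 3, 7, 1, 5, 4, 1, 2, 3, 1, 5, 7, 3, 6, 3, 1, 2, 4, 1, 5, 3, 2, 7, 8, 1, 4, 1, 2, 6, 3, 1, 2, 5, 4, 1, 7, 3, 2, 1, 4])] [([], 0), ([], 1), ([3], 2), ([], 4), ([], 11), ([9, 5, 2, 1], 0), ([], 6), ([9, 7, 3, 2, 1], 0), ([8, 9, 2, 1], 0), ([9], 8), ([10, 11, 9, 4, 3, 2, 1], 0), ([], 10)] [([], 0), ([], 1), ([8, 9, 1], 0), ([8, 9,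 2, 1], 0), ([], 3), ([10, 11, 8, 9, 5, 4, 3, 2, 1], 0), ([], 6), ([10, 11, 7, 4], 3), ([10, 11, 9, 4, 3, 2, 1], 0), ([10, 11, 4, 3, 2, 1], 0), ([], 11), ([], 4)] (by decide +kernel)

theorem lf24_3 : Goal S23 T P24 [([], 10), ([], 0), ([], 1), ([], 9), ([5, 2], 1), ([3], 2), ([5, 6, 1, 5, 3, 2, 1], 0), ([], 6), ([8, 9, 2, 1], 0)] :=
  goal_of_leaf h _ [1, 2, 3, 7, 1, 5, 2, 4, 1, 7, 3, 5, 2, 8, 1, 4, 1, 2, 3, 7, 5, 1, 6, 3, 1, 2, 5, 1, 4, 1, 3] [(4, [5, 2, 1, 3, 4, 7, 1, 2, 6, 3, 1, 2, 5, 8, 4, 7, 1, 2, 6, 3, 1, 2, 4, 7, 1, 3, 5, 2, 1, 4, 1, 2, 7, 3, 5, 1]), (3512, [0, 5, 2, 1, 3, 4, 7, 1, 2, 6, 3, 1, 2, 5, 8, 4, 7, 1, 2, 6, 3, 1, 2, 4, 7, 1, 3, 5, 2, 1, 4, 1, 2, 7, 3, 5, 1]), (3686, [0, 1, 7, 2, 3, 5, 2, 1, 4, 1, 7, 3, 2, 1, 5,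 2, 4, 1, 3, 7, 2, 5, 1, 2, 6, 3, 1, 2, 8, 4, 7, 1, 2, 6, 3, 4, 1])] [] [] (by decide +kernel)

theorem cls24 : Goal S23 T P24 [] := by
  refine goal_of_ct h (kn := [[([], 10), ([], 0), ([], 1), ([], 9), ([5, 2], 1), ([3], 2), ([], 8), ([6, 7], 3), ([8, 9, 3, 7, 4, 3, 2, 1], 0)], [([], 10), ([], 0), ([], 1), ([], 9), ([5, 2], 1), ([3], 2), ([], 8), ([], 6), ([8, 9, 2, 1], 0)], [([], 10), ([], 0), ([], 1), ([], 9), ([5, 2], 1), ([3], 2), ([6, 2, 1, 5, 4, 3, 2, 1], 0), ([6, 7], 3), ([8, 9, 3, 7, 4, 3, 2, 1], 0)], [([], 10), ([], 0), ([], 1), ([], 9), ([5, 2], 1), ([3], 2), ([5, 6, 1, 5, 3, 2, 1], 0), ([], 6), ([8, 9, 2, 1], 0)]]) ?_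
    (.br ([], 10) [[0], [1], [2], [3], [4], [5], [6], [7], [8], [9], [10], [11]] [11, 4, 10, 3, 2, 7, 11, 1, 6, 5, 3, 0, 4, 1, 6, 9, 7, 8, 2, 3, 0, 5, 4, 11, 2, 1, 6, 7, 3, 5, 2, 6, 7, 1, 3, 4, 0, 9, 2, 3, 8] (.br ([], 0) [[0], [1], [2], [3], [4], [5], [6], [7], [9]] [1, 8, 0, 2, 5, 3, 6, 7, 1, 4, 3, 6, 2, 5, 1, 0, 4, 3, 7, 2, 1, 5, 6, 8, 2, 3, 7, 4, 5, 1, 0, 1, 8] (.br ([], 1) [[0], [2], [3], [4], [5], [6], [7], [8], [9, 1, 0, 1, 9]] [0, 1, 4, 2, 5, 6, 3, 2, 5, 1, 4, 3, 8, 7, 1, 2, 6, 4, 5, 3, 2, 4, 8, 1, 4, 2, 5, 3] (.br ([], 9) [[3], [4], [6], [7], [8], [9, 2, 1, 0, 1, 2, 9], [9, 5, 1, 0, 1, 5, 9]] [4, 5, 0, 1, 3, 2, 0, 6, 2, 4, 3, 0, 1, 5, 0, 4, 3, 1, 2, 0, 3, 6, 4, 5, 0, 3, 2] (.br ([5, 2], 1) [[3], [4], [6], [7], [8, 9, 2,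 1, 0, 1, 2, 9, 8]] [0, 2, 3, 1, 0, 2, 1, 4, 0, 3, 1, 2, 0] (.br ([3], 2) [[4], [7], [8, 9, 5, 1, 0, 1, 5, 9, 8], [3, 7, 6, 7, 8, 9, 7, 3, 2, 1, 0, 1, 2, 3, 7, 6, 5, 1, 0, 1, 5, 6, 9, 8]] [0, 1, 2, 3, 3] (.br ([5, 6, 1, 5, 3, 2, 1], 0) [[8, 9, 2, 1, 0, 1, 2, 9, 8]] [0] (.br ([], 6) [[8, 9, 3, 7, 4, 3, 2, 1, 0, 1, 2, 3, 4, 7, 3, 9, 8]] [0] (.br ([8, 9, 2, 1], 0) [] [] .done .nil) (.br ([4], 3) [[8, 9, 3, 7, 4, 3, 2, 1, 0, 1, 2, 3, 4, 7, 3, 9, 8]] [0] .nil (.br ([8, 9, 6, 7, 3, 2, 1], 0) [] [] .nil .nil))) (.br ([6, 2, 1, 5, 4, 3, 2, 1], 0) [[8, 9, 3, 7, 4, 3, 2, 1, 0, 1, 2, 3, 4, 7, 3, 9, 8]] [0] (.br ([4], 3) [[8, 9, 2, 1, 0, 1, 2, 9, 8]] [0] .nil (.br ([6, 7], 3) [[8, 9, 2, 1, 0, 1, 2, 9, 8]] [0] (.br ([8, 9, 3, 7, 4, 3, 2, 1],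 0) [] [] .done .nil) (.br ([8, 9, 6, 3, 7, 4, 3, 2, 1], 0) [] [] .nil .nil))) (.br ([], 8) [[8, 9, 2, 1, 0, 1, 2, 9, 8], [8, 9, 3, 7, 4, 3, 2, 1, 0, 1, 2, 3, 4, 7, 3, 9, 8]] [0, 1] (.br ([], 6) [] [] (.br ([8, 9, 2, 1], 0) [] [] .done .nil) (.br ([4], 3) [] [] .nil (.br ([7], 3) [] [] .nil (.br ([6, 7], 3) [] [] (.br ([8, 9, 3, 7, 4, 3, 2, 1], 0) [] [] .done .nil) .nil)))) .nil))) .nil) (.br ([2, 3, 7, 4, 3, 2], 1) [[3], [4], [6], [7], [8, 9, 2, 1, 0, 1, 2, 9, 8], [8, 9, 5, 1, 0, 1, 5, 9, 8]] [2, 3, 0, 1, 5, 2, 3, 4, 0, 3, 2] (.br ([6, 7, 3], 2) [[3], [4], [7], [8, 9, 2, 1, 0, 1, 2, 9, 8], [8, 9, 5, 1, 0, 1, 5, 9, 8]] [1, 0, 2, 4, 3, 0, 1] (.br ([], 8) [[3], [7], [8, 9, 2, 1, 0, 1, 2, 9, 8]] [2, 0, 1] (.br ([6, 7, 4], 3) [] [] .nil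 .nil) .nil) .nil) .nil)) .nil) .nil) .nil) .nil) [] (by decide +kernel)
  simp only [List.mem_cons, List.not_mem_nil, or_false, forall_eq_or_imp, forall_eq]
  exact ⟨lf24_0 h, lf24_1 h, lf24_2 h, lf24_3 h⟩

end CA.Fi
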