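import Cfsg.Agent.Lib.Fi.AutB
import Cfsg.Agent.Lib.Fi.St22
import Cfsg.Agent.Lib.Fi.D21

/-! Automorphism groups of the models of degree 693 and 3510 (data generated). -/

set_option autoImplicit false
set_option maxRecDepth 100000

namespace CA.Fs
open Subgroup Cfsg CA.Fi

/-- the model with the generating points as base -/
noncomputable def LP21 : LD := S21.ld [nat_lit 0, nat_lit 1, nat_lit 2, nat_lit 3, nat_lit 4, nat_lit 5, nat_lit 6, nat_lit 7]
/-- fixed point masks of the generators -/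
noncomputable def F21 (i : ℕ) : ℕ := S21.fixM [i]
theorem hF21 : ∀ i < S21.r, F21 i = S21.fixM [i] := fun _ _ => rfl
noncomputable def au21_A : List Cw := [([], nat_lit 1), ([], nat_lit 0), ([], nat_lit 6), ([], nat_lit 5), ([], nat_lit 3), ([], nat_lit 7), ([nat_lit 3, nat_lit 7, nat_lit 6, nat_lit 5], nat_lit 1)]
noncomputable def au21_DB : List (ℕ × ℕ) := S21.mkDB F21 au21_A
theorem au21_A_ok : allL (cOK S21.r) au21_A = true := by decide +kernel
noncomputable def ub21_v0 : Lv := ⟨(nat_lit 1, ([], nat_lit 1)), nat_lit 1, [], [], [], [], nat_lit 10, nat_lit 0, nat_lit 0, nat_lit 693⟩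
theorem ub21_v0_ok : LP21.candChk (fun q => q) S21.N [] au21_DB (ones S21.N) [] ub21_v0 (fun X => cntLe ub21_v0.K S21.N ub21_v0.c (difM X (nat_lit 0))) = true := by decide +kernel
noncomputable def ub21_v1 : Lv := ⟨(nat_lit 0, ([], nat_lit 0)), nat_lit 0, [], [nat_lit 0], [], [], nat_lit 10, nat_lit 0, nat_lit 0, nat_lit 512⟩
theorem ub21_v1_ok : LP21.candChk (fun q => q) S21.N [] au21_DB (ones S21.N) (ub21_v0.e :: []) ub21_v1 (fun X => cntLe ub21_v1.K S21.N ub21_v1.c (difM X (nat_lit 0))) = true := by decide +kernel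
noncomputable def ub21_v2 : Lv := ⟨(nat_lit 6, ([], nat_lit 6)), nat_lit 6, [], [nat_lit 0, nat_lit 1], [], [], nat_lit 10, nat_lit 0, nat_lit 0, nat_lit 45⟩
theorem ub21_v2_ok : LP21.candChk (fun q => q) S21.N [] au21_DB (ones S21.N) (ub21_v1.e :: ub21_v0.e :: []) ub21_v2 (fun X => cntLe ub21_v2.K S21.N ub21_v2.c (difM X (nat_lit 0))) = true := by decide +kernel
noncomputable def ub21_v3 : Lv := ⟨(nat_lit 5, ([], nat_lit 5)), nat_lit 5, [], [nat_lit 1, nat_lit 2, nat_lit 0], [], [], nat_lit 10, nat_lit 0, nat_lit 0, nat_lit 96⟩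
theorem ub21_v3_ok : LP21.candChk (fun q => q) S21.N [] au21_DB (ones S21.N) (ub21_v2.e :: ub21_v1.e :: ub21_v0.e :: []) ub21_v3 (fun X => cntLe ub21_v3.K S21.N ub21_v3.c (difM X (nat_lit 0))) = true := by decide +kernel
noncomputable def ub21_v4 : Lv := ⟨(nat_lit 3, ([], nat_lit 3)), nat_lit 3, [], [nat_lit 2, nat_lit 3, nat_lit 1, nat_lit 0], [], [], nat_lit 10, nat_lit 0, nat_lit 0, nat_lit 3⟩
theorem ub21_v4_ok : LP21.candChk (fun q => q) S21.N [] au21_DB (ones S21.N) (ub21_v3.e :: ub21_v2.e :: ub21_v1.e :: ub21_v0.e :: []) ub21_v4 (fun X => cntLe ub21_v4.K S21.N ub21_v4.c (difM X (nat_lit 0))) = true := by decide +kernel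
noncomputable def ub21_v5 : Lv := ⟨(nat_lit 7, ([], nat_lit 7)), nat_lit 7, [], [nat_lit 3, nat_lit 0, nat_lit 1, nat_lit 4, nat_lit 2], [], [], nat_lit 10, nat_lit 0, nat_lit 0, nat_lit 6⟩
theorem ub21_v5_ok : LP21.candChk (fun q => q) S21.N [] au21_DB (ones S21.N) (ub21_v4.e :: ub21_v3.e :: ub21_v2.e :: ub21_v1.e :: ub21_v0.e :: []) ub21_v5 (fun X => cntLe ub21_v5.K S21.N ub21_v5.c (difM X (nat_lit 0))) = true := by decide +kernel
noncomputable def ub21_v6 : Lv := ⟨(nat_lit 2, ([], nat_lit 2)), nat_lit 2, [(nat_lit 1, nat_lit 3, nat_lit 0, nat_lit 79, ([nat_lit 7], nat_lit 6)), (nat_lit 1, nat_lit 6, nat_lit 3, nat_lit 12, ([nat_lit 5], nat_lit 1)), (nat_lit 1, nat_lit 0, nat_lit 1, nat_lit 31, ([nat_lit 7, nat_lit 6, nat_lit 5], nat_lit 1)), (nat_lit 1, nat_lit 0, nat_lit 4, nat_lit 50, ([nat_lit 3, nat_lit 7, nat_lit 6, nat_lit 5], nat_lit 1))], [nat_lit 3, nat_lit 2, nat_lit 5, nat_lit 1, nat_lit 0, nat_lit 6], [nat_lit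 0], [], nat_lit 10, nat_lit 0, nat_lit 0, nat_lit 2⟩
theorem ub21_v6_ok : LP21.candChk (fun q => q) S21.N [] au21_DB (ones S21.N) (ub21_v5.e :: ub21_v4.e :: ub21_v3.e :: ub21_v2.e :: ub21_v1.e :: ub21_v0.e :: []) ub21_v6 (fun X => cntLe ub21_v6.K S21.N ub21_v6.c (difM X (nat_lit 0))) = true := by decide +kernel
noncomputable def ub21_v7 : Lv := ⟨(nat_lit 4, ([], nat_lit 4)), nat_lit 4, [(nat_lit 1, nat_lit 4, nat_lit 1, nat_lit 79, ([nat_lit 7], nat_lit 6)), (nat_lit 1, nat_lit 0, nat_lit 3, nat_lit 108, ([nat_lit 6, nat_lit 7], nat_lit 3)), (nat_lit 1, nat_lit 8, nat_lit 7, nat_lit 8, ([nat_lit 1], nat_lit 0)), (nat_lit 1, nat_lit 0, nat_lit 6, nat_lit 10, ([nat_lit 5, nat_lit 1], nat_lit 0)), (nat_lit 1, nat_lit 0, nat_lit 2, nat_lit 40, ([nat_lit 3, nat_lit 7, nat_lit 6, nat_lit 5, nat_lit 1], nat_lit 0))], [nat_lit 5, nat_lit 2, nat_lit 3, nat_lit 0, nat_lit 4], [nat_lit 40], [], nat_lit 10, nat_lit 0, nat_lit 0, nat_lit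 1⟩
theorem ub21_v7_ok : LP21.candChk (fun q => q) S21.N [] au21_DB (ones S21.N) (ub21_v6.e :: ub21_v5.e :: ub21_v4.e :: ub21_v3.e :: ub21_v2.e :: ub21_v1.e :: ub21_v0.e :: []) ub21_v7 (fun X => cntLe ub21_v7.K S21.N ub21_v7.c (difM X (nat_lit 0))) = true := by decide +kernel
theorem ub21_fin : LP21.finChk [] (ub21_v7.e :: ub21_v6.e :: ub21_v5.e :: ub21_v4.e :: ub21_v3.e :: ub21_v2.e :: ub21_v1.e :: ub21_v0.e :: []) [] = true := by decide +kernel

theorem lmP21 {G : Type*} [Group G] {D : Set G} {t : ℕ → G} (h : Model S21 D t) :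
    LM LP21 (Model.g S21 t) t := h.toLM (by decide +kernel)

theorem lmA21 {G : Type*} [Group G] {D : Set G} {t : ℕ → G} (h : Model S21 D t) :
    LM LP21 (fun i => MulAut.conj (Model.g S21 t i)) (fun p => MulAut.conj (t p)) :=
  (lmP21 h).toAut h.kg (by decide +kernel)

theorem card_aut21 {G : Type*} [Group G] [Finite G] {D : Set G} {t : ℕ → G} (h : Model S21 D t)
    (hD : ∀ s : MulAut G, ∀ x ∈ D, s x ∈ D) : Nat.card (MulAut G) ≤ 55180984320 := by
  have lm := lmA21 h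
  have cx := h.cxA hD LP21.bs hF21 au21_A_ok
  have hZ := le_CZ_nil (g := fun i => MulAut.conj (Model.g S21 t i)) ⊤
  have u8 := lm.ubFin (H := ⊤) _ ub21_fin
  have u7 := cx.ub hZ le_top ub21_v7 Ex.zero ub21_v7_ok u8
  have u6 := cx.ub hZ le_top ub21_v6 Ex.zero ub21_v6_ok u7
  have u5 := cx.ub hZ le_top ub21_v5 Ex.zero ub21_v5_ok u6
  have u4 := cx.ub hZ le_top ub21_v4 Ex.zero ub21_v4_ok u5
  have u3 := cx.ub hZ le_top ub21_v3 Ex.zero ub21_v3_ok u4
  have u2 := cx.ub hZ le_top ub21_v2 Ex.zero ub21_v2_ok u3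
  have u1 := cx.ub hZ le_top ub21_v1 Ex.zero ub21_v1_ok u2
  have u0 := cx.ub hZ le_top ub21_v0 Ex.zero ub21_v0_ok u1
  exact card_top.symm.trans_le (u0.nil.trans (by decide +kernel))

/-- the model with the generating points as base -/
noncomputable def LP22 : LD := S22.ld [nat_lit 0, nat_lit 1, nat_lit 2, nat_lit 3, nat_lit 4, nat_lit 5, nat_lit 6, nat_lit 7, nat_lit 693, nat_lit 694]
noncomputable def au22_A : List Cw := [([], nat_lit 6), ([], nat_lit 8), ([], nat_lit 9), ([], nat_lit 7), ([], nat_lit 5), ([], nat_lit 3), ([], nat_lit 0), ([], nat_lit 4)]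
noncomputable def au22_DB : List (ℕ × ℕ) := S22.mkDB F22 au22_A
theorem au22_A_ok : allL (cOK S22.r) au22_A = true := by decide +kernel
noncomputable def ub22_v0 : Lv := ⟨(nat_lit 6, ([], nat_lit 6)), nat_lit 6, [], [], [], [], nat_lit 12, nat_lit 0, nat_lit 0, nat_lit 3510⟩
theorem ub22_v0_ok : LP22.candChk (fun q => q) S22.N [] au22_DB (ones S22.N) [] ub22_v0 (fun X => cntLe ub22_v0.K S22.N ub22_v0.c (difM X (nat_lit 0))) = true := by decide +kernel
noncomputable def ub22_v1 : Lv := ⟨(nat_lit 693, ([], nat_lit 8)), nat_lit 693, [], [nat_lit 0], [nat_lit 6], [], nat_lit 12, nat_lit 0, nat_lit 0, nat_lit 693⟩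
theorem ub22_v1_ok : LP22.candChk (fun q => q) S22.N [] au22_DB (ones S22.N) (ub22_v0.e :: []) ub22_v1 (fun X => cntLe ub22_v1.K S22.N ub22_v1.c (difM X (nat_lit 0))) = true := by decide +kernel
noncomputable def ub22_v2 : Lv := ⟨(nat_lit 694, ([], nat_lit 9)), nat_lit 694, [], [nat_lit 0, nat_lit 1], [], [], nat_lit 12, nat_lit 0, nat_lit 0, nat_lit 512⟩
theorem ub22_v2_ok : LP22.candChk (fun q => q) S22.N [] au22_DB (ones S22.N) (ub22_v1.e :: ub22_v0.e :: []) ub22_v2 (fun X => cntLe ub22_v2.K S22.N ub22_v2.c (difM X (nat_lit 0))) = true := by decide +kernel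
noncomputable def ub22_v3 : Lv := ⟨(nat_lit 7, ([], nat_lit 7)), nat_lit 7, [], [nat_lit 1, nat_lit 2, nat_lit 0], [], [], nat_lit 12, nat_lit 0, nat_lit 0, nat_lit 80⟩
theorem ub22_v3_ok : LP22.candChk (fun q => q) S22.N [] au22_DB (ones S22.N) (ub22_v2.e :: ub22_v1.e :: ub22_v0.e :: []) ub22_v3 (fun X => cntLe ub22_v3.K S22.N ub22_v3.c (difM X (nat_lit 0))) = true := by decide +kernel
noncomputable def ub22_v4 : Lv := ⟨(nat_lit 5, ([], nat_lit 5)), nat_lit 5, [], [nat_lit 2, nat_lit 1, nat_lit 3, nat_lit 0], [nat_lit 7], [], nat_lit 12, nat_lit 0, nat_lit 0, nat_lit 27⟩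
theorem ub22_v4_ok : LP22.candChk (fun q => q) S22.N [] au22_DB (ones S22.N) (ub22_v3.e :: ub22_v2.e :: ub22_v1.e :: ub22_v0.e :: []) ub22_v4 (fun X => cntLe ub22_v4.K S22.N ub22_v4.c (difM X (nat_lit 0))) = true := by decide +kernel
noncomputable def ub22_v5 : Lv := ⟨(nat_lit 3, ([], nat_lit 3)), nat_lit 3, [], [nat_lit 2, nat_lit 1, nat_lit 0, nat_lit 4, nat_lit 3], [], [], nat_lit 12, nat_lit 0, nat_lit 0, nat_lit 12⟩
theorem ub22_v5_ok : LP22.candChk (fun q => q) S22.N [] au22_DB (ones S22.N) (ub22_v4.e :: ub22_v3.e :: ub22_v2.e :: ub22_v1.e :: ub22_v0.e :: []) ub22_v5 (fun X => cntLe ub22_v5.K S22.N ub22_v5.c (difM X (nat_lit 0))) = true := by decide +kernel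
noncomputable def ub22_v6 : Lv := ⟨(nat_lit 0, ([], nat_lit 0)), nat_lit 0, [], [nat_lit 1, nat_lit 4, nat_lit 0, nat_lit 5, nat_lit 3, nat_lit 2], [nat_lit 693], [], nat_lit 12, nat_lit 0, nat_lit 0, nat_lit 2⟩
theorem ub22_v6_ok : LP22.candChk (fun q => q) S22.N [] au22_DB (ones S22.N) (ub22_v5.e :: ub22_v4.e :: ub22_v3.e :: ub22_v2.e :: ub22_v1.e :: ub22_v0.e :: []) ub22_v6 (fun X => cntLe ub22_v6.K S22.N ub22_v6.c (difM X (nat_lit 0))) = true := by decide +kernel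
noncomputable def ub22_v7 : Lv := ⟨(nat_lit 4, ([], nat_lit 4)), nat_lit 4, [], [nat_lit 2, nat_lit 1, nat_lit 6, nat_lit 5, nat_lit 3, nat_lit 4, nat_lit 0], [], [], nat_lit 12, nat_lit 0, nat_lit 0, nat_lit 2⟩
theorem ub22_v7_ok : LP22.candChk (fun q => q) S22.N [] au22_DB (ones S22.N) (ub22_v6.e :: ub22_v5.e :: ub22_v4.e :: ub22_v3.e :: ub22_v2.e :: ub22_v1.e :: ub22_v0.e :: []) ub22_v7 (fun X => cntLe ub22_v7.K S22.N ub22_v7.c (difM X (nat_lit 0))) = true := by decide +kernel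
noncomputable def ub22_v8 : Lv := ⟨(nat_lit 1, ([], nat_lit 1)), nat_lit 1, [], [nat_lit 2, nat_lit 1, nat_lit 5, nat_lit 0, nat_lit 7, nat_lit 3], [], [], nat_lit 12, nat_lit 0, nat_lit 0, nat_lit 1⟩
theorem ub22_v8_ok : LP22.candChk (fun q => q) S22.N [] au22_DB (ones S22.N) (ub22_v7.e :: ub22_v6.e :: ub22_v5.e :: ub22_v4.e :: ub22_v3.e :: ub22_v2.e :: ub22_v1.e :: ub22_v0.e :: []) ub22_v8 (fun X => cntLe ub22_v8.K S22.N ub22_v8.c (difM X (nat_lit 0))) = true := by decide +kernel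
noncomputable def ub22_v9 : Lv := ⟨(nat_lit 2, ([], nat_lit 2)), nat_lit 2, [], [nat_lit 7, nat_lit 6, nat_lit 2, nat_lit 1, nat_lit 4, nat_lit 0], [nat_lit 4], [], nat_lit 12, nat_lit 0, nat_lit 0, nat_lit 1⟩
theorem ub22_v9_ok : LP22.candChk (fun q => q) S22.N [] au22_DB (ones S22.N) (ub22_v8.e :: ub22_v7.e :: ub22_v6.e :: ub22_v5.e :: ub22_v4.e :: ub22_v3.e :: ub22_v2.e :: ub22_v1.e :: ub22_v0.e :: []) ub22_v9 (fun X => cntLe ub22_v9.K S22.N ub22_v9.c (difM X (nat_lit 0))) = true := by decide +kernel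
theorem ub22_fin : LP22.finChk [] (ub22_v9.e :: ub22_v8.e :: ub22_v7.e :: ub22_v6.e :: ub22_v5.e :: ub22_v4.e :: ub22_v3.e :: ub22_v2.e :: ub22_v1.e :: ub22_v0.e :: []) [] = true := by decide +kernel

theorem lmP22 {G : Type*} [Group G] {D : Set G} {t : ℕ → G} (h : Model S22 D t) :
    LM LP22 (Model.g S22 t) t := h.toLM (by decide +kernel)

theorem lmA22 {G : Type*} [Group G] {D : Set G} {t : ℕ → G} (h : Model S22 D t) :
    LM LP22 (fun i => MulAut.conj (Model.g S22 t i)) (fun p => MulAut.conj (t p)) :=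
  (lmP22 h).toAut h.kg (by decide +kernel)

theorem card_aut22 {G : Type*} [Group G] [Finite G] {D : Set G} {t : ℕ → G} (h : Model S22 D t)
    (hD : ∀ s : MulAut G, ∀ x ∈ D, s x ∈ D) : Nat.card (MulAut G) ≤ 129123503308800 := by
  have lm := lmA22 h
  have cx := h.cxA hD LP22.bs hF22 au22_A_ok
  have hZ := le_CZ_nil (g := fun i => MulAut.conj (Model.g S22 t i)) ⊤
  have u10 := lm.ubFin (H := ⊤) _ ub22_fin
  have u9 := cx.ub hZ le_top ub22_v9 Ex.zero ub22_v9_ok u10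
  have u8 := cx.ub hZ le_top ub22_v8 Ex.zero ub22_v8_ok u9
  have u7 := cx.ub hZ le_top ub22_v7 Ex.zero ub22_v7_ok u8
  have u6 := cx.ub hZ le_top ub22_v6 Ex.zero ub22_v6_ok u7
  have u5 := cx.ub hZ le_top ub22_v5 Ex.zero ub22_v5_ok u6
  have u4 := cx.ub hZ le_top ub22_v4 Ex.zero ub22_v4_ok u5
  have u3 := cx.ub hZ le_top ub22_v3 Ex.zero ub22_v3_ok u4
  have u2 := cx.ub hZ le_top ub22_v2 Ex.zero ub22_v2_ok u3
  have u1 := cx.ub hZ le_top ub22_v1 Ex.zero ub22_v1_ok u2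
  have u0 := cx.ub hZ le_top ub22_v0 Ex.zero ub22_v0_ok u1
  exact card_top.symm.trans_le (u0.nil.trans (by decide +kernel))

/-- the outer automorphism -/
noncomputable def pi22_T : ℕ := (cat (nat_lit 16384) [nat_lit 0x245a04125f21b2320eb3740ea0ec8711b707d23522e0ed1aa19b07408c08e0754ee1200791a71991100370f803d1840ee38eb4430d96997943849bb67967394c2e96b46e4ac4aa83e982845363b3f369b9b436b3bb4e46646246345f5a8bc6b3966359e5fdcfa5f15f2658b5548f5fca8ec30c1fc23ba7b3ab91b17b3db16b2f662b906558886615c49298198538be7ff80e8ba5cd4455fa80b53f80f5db4a449f9849899868b195a8c080190a9158a280d5a467960060961e5aa4353936055b249a13a32a16e345a41341a427d82c87ed2f17e4340a4b7d97d132f348a13aea344aec04704b0e20230d414f0260bc0bd2e5ae23273b8a473e2a583de5273d65263233bb6d9a0e3284ebaedc5fa447444ea3c37f073f52e4d43b934204e17c17b0271cf14c3d405250c05128220a0282682670a70cd0a871e16f0a91f11e216304a0cf04d17416102514713c33fab2343af84123fcc6faf5afb5289d54109d69d93bac58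c6c51b3d9c5451951ac3bc3d518c3c71a55dc5255471855caf7b01afea53ae9a5c98e78baa6a2a7a06ac6ab7c471d7307486b44f14017266c256c7f37f97f674b7817d073873252f57551e4d83fb5785692fe11d31830e95d91a95b2d69773198fb95c31289138db9930cc0102d12813001710310130830bbbf361bbb37b8b8473b1346c83c39e83d88c3625c3bbdb93bba9687fe8b56195a244439269e5a361c47243438b0301c401818c07c5f503225323621906e11e06f1b81a802f1211382b818538cbffc214af3a0b63c254adb62b64376bc1465c1ec1b4abb14491c1d88a65796d9739708bd64c9598a78a062461a6766075a949e67a6736a16a468768960e4a84694994b12e97d22ee2f2792a4e2f0a55a4534da3533eafaab301d14e00f14b33dabdaeb334a503e198c40e98d3596d8a2ea4d7db6aa75174652b4d740059a58858a5344233e53fa01f1cd1ce0a60502022640461701f22ba17637e34faf0414af4af22c2ada3dbae554eae8a2c7a27de7e158b7ce73659f57052056857959d36559452240b4162d72d99533179208b692139c31d97b96a69701218a18b31495f37d9553ae7fd8c68c468f4c26866224d04bf4754984ce4c74773ac3a503121706c1ba2482bd1bb3353a29632c9965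3304c39578a569232b4d260c4a54b22ef3253244a92e72cb2f4a21a543587e87e659242842f35d01e1cc3517d44257cc74f58f42e5324214182f92f841930704f2632c02043022d27d72ff4317342fc2fb57230a3092db9819783206953b44c93b13263b50062162eb68c3b76203222dc4b42e42e32c62562e02df2de6782e62f77ee35f59636042a2d52d42623012cc57a2cf2ce2cd2d132169b3324cb2c72e22c32c42c53785973042bf2be3372bc2bb3802b93e72b72b629829528728c23f2aa2a925d2a225829d2b02af2992a129a2a029f29e2ad2a72a52a42a32ab1a62452a62a82b527b2772b427227026928a27f1ec2732652b226a29120c2852b328428828626c48d8eb64729027d27e27a29727c9069032968f98e890b28e29493e2938f79168f628364d28b29248a4891f028d3843052d323023355225a2ae55923b25e7882ac7842e12212203f221a78723e790a9179a1c577f24122233821c21829ba8f21daac24aaa72b1250237a9525ba8277ca8123d3f154876a26055077726177a547768aa3a7f775a9378f78e7d67797e07672492552547b178d2432475512523f024633b2ec1e664f65490791b20e1f621065e28965b48c6528ea6456449013031d33851d064a6a36911f891891d975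92e1fd1f320f6418e41f7381482266bdfbf7bdd28fbe7bd8bf3bd48fe215be463f8e148163363d64e8fc63e8df632beebd093a8f865193c8de2036676642014933883893151ac79379579da9aab424c3f85627a755755679876d7827e233633918e3ec54a59c593ab7aafab8b06a86a8ccb8a991cbcb95457643eb53c29ccbccbacb2cb5cafcb7cb4acba7ba9854476253b776a79a77761ca17b47af5617b67b01b955e3f6352353a6da8aa897583e6536925922926bc5bedc02c0349649566a8ef65992b37f98047c6356a56983824844d1c05bdebdcbce8f1be9bdabd98ccbec48063047bbe1bf6bf9be6bf4bd3bd6bd28dc62f9438db9519418dabaa6654b83a86664923a69099378e54796298d18f08d06a99139108ed9146274786434d364b3e8abeac1abfa57a9cac5aba41da68a90a7da94a7a7c958141e5647ba7eb7707a4a693e953e5a03ee430ab6ab1a87b077807eca97aa4aa0a84aa575553aaaeaa8ad0acdcb3a66760ad37c5ad57b357c41b55f41a7ac78a77e7a976c76675b76e53875c7a678c7fb5a10f2786a8875753554654c54f54d9339249288fd90093091f4bb68291c8fa8e392d9199178dd94593b9429526804b966e8ce6388d347e639487be390c976699905bd78cb625940966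bd18ca67b94767f4b54b666064964065d63164663467065a63762c63b62d90e6a60ac8e962648348648838779f79479777879c7917b9584756a9277b7637bc7997b2a787b57c77b707f7c857e75a54175e54208ba9e7e3088a80754ace0847c657b08157d09255b5493f556755853d7837695655405430737fa0715853ed3ef06d33a06b65665066d6536686696289028e066b93d68167d05367e62b62e05997405768305567c05d49048e38630649747d8e74bc47f0490484bd383045043044555553563560580537a7e58203357f03853903603558303a3f333c3f93ea02b41f02c02e02902a48b4944b747a0204ba02202102438a3163a901a01b01c0193f741c0160130140153540110103a700e00d00c00b00a0090080042ed005007003002001000, nat_lit 0xab9c410e24044f11211522cac6a05114c6b08a9bd13385d1c71ad19c116c6723c12c22909c24e12e24450a9eb1af7531881870f011a1b0a401139da23a23808722b03c12d9d719d12b19709619670c6d399f7159ee72c72b999998189996a2699212212f98f10ac47991ca3a33a39a5fa60c579de452a1a5d184c4ae1349583b031e454a178bb3a16853b23996214c69c6a095ce4b06a23af4a161b4cd4cfa859e076f9db5beb0da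d1a61b0960ab083adb0ba627b8ad78a4acc39a88e37281c44e5d95b7ad6a6bc73c6ebab96431f5de9ae9ff7a85e9c4da5bb04ce6a52aff60baf94c187079bac3ab04a6ae1ac25ea5e5a49af66429e7aa1afd688b0285f9e1a1eac95e0861b0e908b7f9e285bb7b85885a84885984e75f9e5a729e49e3a8db77b2d7aaa068b99ef9ed9ec9f8a00a3f7bda5d84961da3da8346a613a7c46b46d6d772d5c09d09d1837b599465c1ade8335f87859b1a4aaabaa97c25ba7f85bd825606a9dc51b10675ce260d820b036085e75e85d59c7c6a89fa1fae084d5b8aca5d4b25b225bc8148105d25b45c8774a745b57fc806816b26a6fa6e815a6c7c15bb5b9a6aa645d3a6745139d39fb238294e882c8664e78604e98695242f6175b27897cfc8943578925302f54290ca1fa0583cfb3c8743ce8657433d087252935653140652c0c3331a22333bb671157135058642d42642b4e53cba5632eae334e7cb35e0d6154b1f5f0b3e898b1887f884cfd8960bf9cd0d988d1560d71530c4bb22710601d50d81d8b30912149b1d87a8780e9bf0b700e4b981f90dd86f1776c64f90e76f31811830e857718235a35c0e3b961fb0e021142c0dc1fc0db26e4e113e141938867140b540ae82e0cb2744e214a9fa2122790c8b4d2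780632050e56fa1e70e61de4270df2761d726f26d8305ec85184f1691441798a813f8462812080ab27504cbae1481f40de83f1e30621dc1d40da15815515285280980a8088868050d08041451438020d28001650c60c1b28bdb84234b89534a74eb5084a4e487c4f63cd875a514f39e64137df35b40474558e5914e686a6b556b73e56d7f459b5998ee3ca84332da307204e08473c99af6c5701b526c16d0b5c94d97e9488c597c73397a424bca66ca2d94440c71c3d26c04fc6cb8d5b7394abcfc74af17d594b702b348bf65c935b7293470ec188bc97172f96c54ba1292c5747067047058b098377d91198796f7896f86fc9fc985a016f4a9bc449f79f49f29f56de6ee6c36e94f78d98f36c48f29f19aca596718c19dd9f38a18ec52373b8a68c76df6ef8e252540d40f83a83b6d6b5d9cfad9b606d29ca7246c88f56cd90db389886cc6c998a6ce6cf6bc9bf72e7c3c197319b770d6f5b53a2bba86e34f86c76bb99b9979a56d16b86b99a44ed4f44df6af4ef8d78d88d66bf99c8d48d26ba8cf4e38cd4f540534c99d0f407243f9c170943e6f98ab4406fb60f49d6122da4ca117125c4172131c71f31b61f4c80891bc36f2248b73707006163986174c54cc3002268803136843b64c443bb7a36db813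1195468b12a09109408310744a8239c3995710716c439df09971b12609fa3209319009519310509721f18f1925e45b6100aaa9e80fda1d1c20f67071235f73715df44d0a55d81c80a1a1124d0981bf0a35da1c90a41ca3b30a024f22822721e0f54500ff8642592510f19c82570781bd43c11824b0fe86823909b22f2250a223119822a9a06e56e66e4124a3e0f91be0fc6dd23407722d2230fb6db1a909a19a1951099f008d6b10f70fa08f6ae1860ef09d111086a8b6e03967223108c36945ae43d70ab31447b6d3958b44a096e69068e5ab49c8ad67767484469d69f43a6e136cb352fd8934398214488738249d3a71a705665ff5b15dc4435c9832adb7507e98a37e748544988b7bb45d5f44595e17bfa73b6eaddc249617c0b5687781fa76b1174a7f7b857a586d86b86cb4f87e89d7dd648b435fb8627f28ff7f586365f5d781e85e927b1ab2bb7c840856b2c5c65cf5b38545d65cb77277377181ab2a73775284185776b6107655d04a739b9d4839b57b5ba7583481389a82782882f82b887b1282a83181892a89e85085544289b8898075b05cc8268178038118125a55ac8af4465af5a775d60480c7595ad44c44b397142b1e6010ad1723bf1ffa463c05e37393ff73a5982ca5950c91713555f62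f374d59032c1fe74234974158d2ea7ca58c3bda033be347a4f7d30560e105f0d50be05c05e0540c03c24dd2dd73d3c69ba73c3c1b2084b0b45fe0d306888f06117a0650661d214d1501d15144ff4fb0bb6f720d0b887b20b0b317850e3d106a4fd2130672091d60692141df26b3cc1392000ba6ff2800b620720613ba071f50b91e41dd1e0b290b05ca0ce0d10b25c71730b51e11db0b716215705a0af0b105b5a614606413d0aa0c53c8602346a4c2e87e54da9dc3fda433c7403afc7da7dc57656a9d87ef5736dc7f13bc9b8329a15a374db9b53c59be4d66b0b5f6236a74dc72966f51250b6fd4f0ac09c97a36963f4719c5d50f51094fc71c6daee8f4c53a0ba1c9b39b4c56a0a7ae6a0c3f7179fd7a1a2055a7274ec796a2979e6f66e89b29a99909a3a5a6da6eba484f26bd6e763a7259a16366ec56f4fa40ab619cc9d2b0fa3c9c09a69949c29939aba287ad99e9a26ea4d57286be6b374c6ad6b67404d93c45176b262a6b74de3fe4020f311f36b5133661b68aa3918a969c2c12d869a3641b531a8b269330f8b368d68a36e38fb87390b8c95e07009e03403b12903e0390900801040822d036743392361543786e6112fa96036a5c5b468ac4418ae61443236807b72a0761270401c319103f10218d45c45807e5dd25c07a1c11c004,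 nat_lit 0xdb3db0db5d53d5edb4d36d1cd14d46d54d6ad6cd59d8ada1d92d78c9bd94da6d99d93d7ed82d7cd8cd84da0cddccfd8fc60da2d9fda5d8dcd2d96d7dd91d9bcc6da7c4fceacbdccecbed9acdbd9dd7fcdad81d9ed8ed9cce8caecf1da4c64cdcc9cce0cf6cd5cc4d5ad15d3fd26da9d2ddaab47d48d2ed19d33d32d28d29ba1d0dd4bdb1d10d2fc0cd70da8d39d38d0fd31dabdb2d49d4fbfbd51d37d00d3ed5fd17d52d68d04dacd2bd01d1ad24d06c26d6ed4cc08c09bf8bfad58d57d4edafb45d12d65d64d55d25d5cd67d6bd23d45d21d62d63c3ad6dd30d42d2cd0ed2ac22be8b36beadaed07d43d66be0d4ac06d6fdadc04d34c07d5dd56d22d60c20bc4c35c2db48d1bd41ba3d47c0bc11d44d4dc37bfe94997dc14511cc5c61ca7d73c99c5ac76c81d79c94c92c63c7fc7ccaad88c80d7bc7ba18c59c98b0a9b9c7ad74c4bcc9d98d76d83d80cbfc68c86c85d72c8ec8ad90c96cbbd97d86ca6ad2c5bc82cdec83abcd8bcf9d71c8cc8bc5cc65cd9d85d871a5cd01a41ab1ae1a0c701a219f10b1a3c89c451a1d7ac77c9ac91cebc95c88cf7ccdacfca2a63ca4194c69c4cc7ec48d75da3caccf5ce4c4ecd1ca9cf0aefcefcabab9abbcd4aadcc3cc2cd3cb1ca8c5ecd7cd6c75cc8c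cacf2ce9cedc9ec72cecce7ce1adcb0ccadcf3c84882a25c7d5efcb6471a245ee467a9f9b0ca0cd8a96c50cc0d77ceeab5cf8d954a2c875f3cc1ccbcf4ce5468a5e5e6b004645eb45b9bcc66d89c97a1bc9fcdfac7ac8c9da65b05cb085c7beadf7eaac45e2ad846045e461d27bb7bb5cffba4d0ab9fb40b86b89509b8852ad09b9cb9ab4ab8eb82bc0d403df712507d203e3d0c5083d83d3bb43d7c17822876c1ab9ebf5cfbbb1bb0d02b32b2eb97b80d5bd03bebd3cd3dd11d1616dd1317d17e420b8d3e4cfeb95b92d50d3a15ed3b1ee15fc1515c1e9b42b8a932b411da17f164c0ad1d168d1f1eb15db941e50ccb49160d181ef16c1ed16b8c81671661ea0c715ab651e815b1590c21d988316ab79b1bbac890bc7b6fbc9516180d0bba0ba23dac27417b9d409b8f415407b4bbb3c39962c38c1cbb893fc13c12bad8e6bafbcba23151ae781b506b33b83c36d05bc2d61bc3c34c16bbec2c51fc2b42292fc0e91ebfdbe5408bfc5044febbcc29c00587b75bf1c31c2f589c32708b68ba5c287cdc0d9f9b69ae66f09f67cfbcdb6b9eab6ab8bb21885879b1c931bc8714747b19b78b76b7eb8452db15bd53dc3e03dd5c2835603b5a8388996d4b5e9cead46d570f50d90f81d89cb248c270351c904b37b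b9c2abe2d08d6956ed355336febf2befc3352194e50297251d50551582db4cd1e73587dba6c10749939500c0f9e96ed6f16e263c8c997f99a9a8b5198b9a7b746729506a8936b71bcc6f2b6c94c503501b663d54116ca70b9bb5bf9fba3bc78a34ce3a38a361191b1c46a199b6a02456c55a16455a0461846f3aba14474457a0847037aae437988137cc935ed4a34be3a34c0453373ba9b7d375af39564b3a0d9adc429cb713c79723377836c3ea31a27106b58108ccca3a10dca508510ca2f19e9aa9fec49c4aaa2132c40a10a0c1365f91351373a4cc7c8f131c901b21b411cc621c63aa47611ba0f1b310fc8d2429c57])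
noncomputable def pi22 (q : ℕ) : ℕ := pk pi22_T (nat_lit 12) (nat_lit 4095) q
theorem pi22_inv : invChk pi22 LP22.n = true := by decide +kernel
noncomputable def pi22_A : List Cw := [([], nat_lit 0), ([], nat_lit 1), ([], nat_lit 2), ([], nat_lit 3), ([], nat_lit 7), ([], nat_lit 5), ([nat_lit 8, nat_lit 9, nat_lit 6, nat_lit 7, nat_lit 3, nat_lit 2, nat_lit 1], nat_lit 0), ([], nat_lit 4), ([nat_lit 9, nat_lit 8, nat_lit 0, nat_lit 9, nat_lit 1, nat_lit 2, nat_lit 3, nat_lit 7, nat_lit 4, nat_lit 3, nat_lit 2, nat_lit 1], nat_lit 0), ([], nat_lit 9)]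
theorem pi22_a0 : allL (LP22.autChk pi22 pi22_A) [nat_lit 0, nat_lit 1, nat_lit 2, nat_lit 3, nat_lit 4, nat_lit 5] = true := by decide +kernel
theorem pi22_a1 : allL (LP22.autChk pi22 pi22_A) [nat_lit 6] = true := by decide +kernel
theorem pi22_a2 : allL (LP22.autChk pi22 pi22_A) [nat_lit 7, nat_lit 8, nat_lit 9] = true := by decide +kernel
theorem pi22_a : ∀ i < LP22.r, LP22.autChk pi22 pi22_A i = true := allL_cover [[nat_lit 0, nat_lit 1, nat_lit 2, nat_lit 3, nat_lit 4, nat_lit 5], [nat_lit 6], [nat_lit 7, nat_lit 8, nat_lit 9]] (by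
  simp only [List.forall_mem_cons]
  exact ⟨pi22_a0, pi22_a1, pi22_a2, by simp⟩) (by decide +kernel)

/-- the model of the automorphism group -/
noncomputable def LA22 : LD := LP22.ext pi22

theorem exists_out22 {G : Type*} [Group G] [Finite G] {D : Set G} {t : ℕ → G} (h : Model S22 D t)
    (hG : Nat.card G = 64561751654400) : ∃ s : MulAut G, s * s = 1 ∧ (∀ p < 3510, s (t p) = t (pi22 p)) ∧
      s ∉ (MulAut.conj : G →* MulAut G).range ∧
      LM LA22 (gx 10 (fun i => MulAut.conj (Model.g S22 t i)) s) (fun p => MulAut.conj (t p)) := by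
  obtain ⟨s, h1, h2⟩ := (lmP22 h).aut rfl (h.tr _) h.kg pi22_inv pi22_a
  refine ⟨s, h1, h2, ?_, (lmA22 h).ext (fun p hp => blt_iff.1 (an_iff.1 (allN_iff.1 pi22_inv p hp)).1)
    fun p hp => by rw [aut_conj, h2 p hp]⟩
  rintro ⟨x, rfl⟩
  refine nc22 h hG ⟨x, fun e he => ?_⟩
  have : allL (fun e : ℕ × ℕ => an (blt e.1 (nat_lit 3510)) (Nat.beq (pi22 e.1) e.2)) nc22L = true := by
    decide +kernel
  have := allL_iff.1 this e he
  rw [an_iff, blt_iff, beq_iff] at this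
  rw [← this.2]
  exact h2 _ this.1

end CA.Fs
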