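import Cfsg.Agent.Lib.Fi.Om8

/-! The outer involutions of `Aut(M(22))` (data generated). -/

set_option autoImplicit false
set_option linter.unusedSectionVars false
set_option maxRecDepth 100000

namespace CA.Fs
open Subgroup Cfsg CA CA.Fi CA.Ex2

noncomputable def o_b : List ℕ := [nat_lit 7, nat_lit 4, nat_lit 3, nat_lit 4, nat_lit 7]
noncomputable def o_s : List ℕ := 10 :: 3 :: o_b
noncomputable def oa_sg_T : ℕ := (nat_lit 0xd8bd63d45d3cd30d2cd2bd28d25d23d1fd1dd03cedcecce1cd4cd3cc8cc6cc0cadcacca8c9ec9ac90c8fc8ec8ac88c84c83c7fc7ec7dc7cc7ac77c75c72c6bc67c65c4ac34c32c31c29c28c0ec0dc0bc09bfdbfcbf1beabe8be2bc8bc3bc2bbcba5ba2ba0b9fb98b97b96b95b92b8fb8eb8bb8ab89b86b84b83b82b80b75b70b6fb68b5bb59b58b54b4db49b0eb04b02affafdaf6ad9ad4ac9ac7ac3ac2abbab9ab0aa1a9fa9da96a5da5ba52a49a2da1ea1da1aa19a17a16a11a10a0fa0ca09a08a06a05a04a02a009ff9fe9fb9e89e79e19de9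d29cf9ce9cd9c89bd98798598397196f96c94693593493192f92c91e91190f90d9048c18bf8bc8b08a388e88b87c87b87a87887587487286f86a86986786686586084a83983783682e7f77f57f27ed7dd7aa7a87a57a379b78574a73d72972071c71970a7097077006fb6f96d66d46a069a67766365c6586156115ff5fd5f75f45e35c059557657355d52852752651851451250e4ca4ad4ac4aa49146e46c45f45c4103de3d437e36033533233032632532232130a3073043023012fc2f92f72ef2eb2e72e42e22df2db2d72d42d22ce2cb2c92c62c02bc2b92b72b62b42b02af2ae2ad2ac2ab2aa2a92a229d29729629529129028a28928828628528428327f27e27d27c27b27a27726c26126025e25d25b25a25825023e23d23b23723323021520c1e60f20ac09208b08808107f07306b05d05905304404303800c00a008007005004003001000)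
noncomputable def oa_sg (q : ℕ) : ℕ := pk oa_sg_T (nat_lit 12) (nat_lit 4095) q
theorem oa_sg_vw : viewChk (nat_lit 3510) oa_sg (nat_lit 360) = true := by decide +kernel
theorem oa_fx : LA22.fxChk oa_sg (nat_lit 360) o_s = true := by decide +kernel
noncomputable def oac_DB0 : List (ℕ × ℕ) := [(nat_lit 0, (nat_lit 0xc0180008000001804000c00008400800800468ef7189ca77fc000000000000b6de3d)), (nat_lit 3, (nat_lit 0x1001000000000048040008000084208022a4995dafaaaa2a58f000000000000dda3d7)), (nat_lit 5, (nat_lit 0x100000008000006000000c00030402806c60f18991e7e3d9883000000000000b6de3d)), (nat_lit 1, (nat_lit 0x40080000000004804000000020403204eb2d45c428ed1cd5b90000000000002fdeae)), (nat_lit 694, (nat_lit 0x4000000000020001004258afe7ffd1b6b7ff1000000000000c18d3e)), (nat_lit 4, (nat_lit 0x40000008000001800000a00018423206ae88b80e2fc18418df000000000000fb21fb))]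
theorem oac_DB0_ok : allZ (LA22.rowChk oa_sg (nat_lit 360)) [([], nat_lit 0), ([], nat_lit 3), ([], nat_lit 5), ([], nat_lit 1), ([], nat_lit 9), ([], nat_lit 4)] oac_DB0 = true := by decide +kernel
noncomputable def oac_DB : List (ℕ × ℕ) := oac_DB0
noncomputable def oa_V : List (List ℕ) := []
noncomputable def oaL_W : List (List ℕ) := [[nat_lit 0], [nat_lit 6, nat_lit 5, nat_lit 1, nat_lit 2, nat_lit 3, nat_lit 7, nat_lit 6, nat_lit 1, nat_lit 5, nat_lit 4, nat_lit 3, nat_lit 2, nat_lit 1, nat_lit 0, nat_lit 1, nat_lit 2, nat_lit 3, nat_lit 4, nat_lit 5, nat_lit 1, nat_lit 6, nat_lit 7, nat_lit 3, nat_lit 2, nat_lit 1, nat_lit 5, nat_lit 6], [nat_lit 6, nat_lit 7, nat_lit 3, nat_lit 2, nat_lit 1, nat_lit 5, nat_lit 6, nat_lit 3, nat_lit 7, nat_lit 4, nat_lit 3, nat_lit 2, nat_lit 1, nat_lit 0, nat_lit 1, nat_lit 2, nat_lit 3, nat_lit 4, nat_lit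 7, nat_lit 3, nat_lit 6, nat_lit 5, nat_lit 1, nat_lit 2, nat_lit 3, nat_lit 7, nat_lit 6], [nat_lit 9, nat_lit 6, nat_lit 5, nat_lit 1, nat_lit 2, nat_lit 3, nat_lit 7, nat_lit 6, nat_lit 2, nat_lit 1, nat_lit 5, nat_lit 4, nat_lit 3, nat_lit 2, nat_lit 1, nat_lit 0, nat_lit 1, nat_lit 2, nat_lit 3, nat_lit 4, nat_lit 5, nat_lit 1, nat_lit 2, nat_lit 6, nat_lit 7, nat_lit 3, nat_lit 2, nat_lit 1, nat_lit 5, nat_lit 6, nat_lit 9], [nat_lit 0, nat_lit 9, nat_lit 6, nat_lit 3, nat_lit 7, nat_lit 3, nat_lit 2, nat_lit 1, nat_lit 5, nat_lit 6, nat_lit 3, nat_lit 7, nat_lit 5, nat_lit 4, nat_lit 3, nat_lit 2, nat_lit 1, nat_lit 0, nat_lit 1, nat_lit 2, nat_lit 3, nat_lit 4, nat_lit 5, nat_lit 7, nat_lit 3, nat_lit 6, nat_lit 5, nat_lit 1, nat_lit 2, nat_lit 3, nat_lit 7, nat_lit 3, nat_lit 6, nat_lit 9, nat_lit 0], [nat_lit 1, nat_lit 0, nat_lit 9,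 nat_lit 6, nat_lit 2, nat_lit 3, nat_lit 7, nat_lit 1, nat_lit 5, nat_lit 6, nat_lit 3, nat_lit 2, nat_lit 1, nat_lit 5, nat_lit 4, nat_lit 3, nat_lit 2, nat_lit 1, nat_lit 0, nat_lit 1, nat_lit 2, nat_lit 3, nat_lit 4, nat_lit 5, nat_lit 1, nat_lit 2, nat_lit 3, nat_lit 6, nat_lit 5, nat_lit 1, nat_lit 7, nat_lit 3, nat_lit 2, nat_lit 6, nat_lit 9, nat_lit 0, nat_lit 1], [nat_lit 8, nat_lit 9, nat_lit 0, nat_lit 1, nat_lit 5, nat_lit 6, nat_lit 7, nat_lit 4, nat_lit 3, nat_lit 2, nat_lit 1, nat_lit 2, nat_lit 3, nat_lit 4, nat_lit 7, nat_lit 6, nat_lit 5, nat_lit 1, nat_lit 0, nat_lit 9, nat_lit 8], [nat_lit 9, nat_lit 5, nat_lit 6, nat_lit 5, nat_lit 1, nat_lit 2, nat_lit 3, nat_lit 7, nat_lit 6, nat_lit 1, nat_lit 5, nat_lit 4, nat_lit 3, nat_lit 2, nat_lit 1, nat_lit 0, nat_lit 1, nat_lit 2, nat_lit 3, nat_lit 4, nat_lit 5, nat_lit 1, nat_lit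 6, nat_lit 7, nat_lit 3, nat_lit 2, nat_lit 1, nat_lit 5, nat_lit 6, nat_lit 5, nat_lit 9], [nat_lit 8, nat_lit 9, nat_lit 7, nat_lit 6, nat_lit 5, nat_lit 1, nat_lit 0, nat_lit 1, nat_lit 5, nat_lit 6, nat_lit 7, nat_lit 9, nat_lit 8]] ++ oa_V
noncomputable def oaL_T : List ℕ := [(nat_lit 0xb256aaf67a951e9746a0d569b4ca8d9a7139b2ceabd3298d8eb72a9accebb5cb0c924b2bb1582451b8d466bf1297c36432094d5ab15983c1a9f02a7552a7099fbf9fafca454276f579406934a78d167b3c77bb9dae6a250e84e270b91c0dd6f501b8da87c3a7cd67534e60d49bcd99f0481cd24ccd664ba5b2c63b198ac861b0a50c079c9e46bc8fc7a3abb5d42d72b45b471651658c622f1557c4e2911574415ad86bc3155088529d52a882b3a00ff5228d44f87dbe9f29f7bbd93cf45faf938f0763add2984bb9d2ce84a395c6936fb6db29255b55a2d06929920cb653251a8c6230514bd4da210eb85bad508b3582b106a547a0542a03fa74f89a4c9e8f29548a091c74459f8fa893da190a6f3b9d8ea80399c8e2703c1b8da6c34998d668339a8ba5c31960ae602f978ca642d94cb26230958aa542d148a250279389a4c2592890492311c6e301d8f0683a1c8a86442219007e25228984241100f43c440e09c50220d8f8482d170d870290c8b06a330d0c4302f1587c461d0b84c2a140b048220d07838200c058281207040040a04018080c00),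 (nat_lit 0x74979427c4d92d10532a15e1e7247d69b73c4fbc68954a9d4aa2ee7a53a9b4c51b5a9348a3bf1cb55a1d0a83409fb7945589d9fccc8e569b5327436438a29c25245005a2d994e65f34a08ce85459bdb46a43176084c309b89aab2ca2a06622e2fd24c9aecc8c8792b429f7087b41a0b1d8abf603007fbae054684be9f2f87bc1deb4f59b7eacf074541daec7f3aaceef6e39a8a9e71b89c2e0794f940e7acc8584cc67d29aabe291dc92636baf0fad83026a20755e9a0e08d3b3653a87893518ece2720d12712aab0fc7a799e14c7b35a066eb68c13d2aa853ac54aa4a5cf6caddabb918330b1b2a6a984ba59529449c465c50adce1885891c5973616047e48485d4995d2d9d2d59b64582d218b26930d913494d7170c59146a6d3357c824ec692ce6550d6845236cb9459a3d1395cb22e8caf42d6f5fb034e6290552ee331cb14bda284238381a090581c2c0a040300c391d8e87838170d86a2c198bc6230190dc5a34158a8520f0805c24110a04c2a050200c0001010683218131044223110944827141188a3e21900883f210f4401f0f06c381d), (nat_lit 0xb392cc67d46979e6654d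1a8e8833cd6ab346abd59dd00a9aa12744a7a9d2cffa5d2a9308a3d628b507850928d59fb767afc719dcbace3b2757d0f45a24ce7026b60fc614394cf456312f4a27b3613e065753199b2552d204948a302adb469249e1aec89a2e4d68f2fc2a134883b8930c290c09f354a63f9fb3c7dbea02e076bd9eaf4b0a55e34377d55eeec75ba9d2e873b99cae49dc19c2f854a827cdc6dc563b2e88b5a8099271fcb8a1494e0f8912c950eb1041141389b56c10da5b594d64c8e291ca1cac261c50073442fd0c85321b986b88b1bdbf52a747d4aa451a89a0de4fa7a6cc56257da9054bd35e541a8b3d9868862f2c64899c6264b395ac56058ae31e34b5694b6c8cd924a6b7129d4dd935d5a2e96d30552b9832386d7a289098c7ac0afb2c9e591785d8a72d16046d9684904a238ca952ee4ac69134e5eb7b3466268c238302c0f050401a0b0303810341d8e85838178d86a3c198b862301b8c85a39158a85209038100403000040a150b84428130906832180f914401d0e06c3c42220f882462010c503d138fc4226120944423), (nat_lit 0xb384cfc6c491917e124313818ab42bdeb2feabd5aab3fa991c32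f6190ea9b4ca5d2a93487fd1a8b44755086c29aa4f940eb199b97b0e881853a713e238129140a7098be82160de7d43c0cd08f2b1ccba072a368b680369fcee724681904d96c22137371f4e0961445be07238773b20b2b9340a0300a3d61fafc1e3e8570aad541ea2f10a79e2f077c1ddb069e50dd2e873a61cadf71b892ce07237944dc6dc7a291365b59aa5a08134e0553010cbe5c6b8455a0d3319c92590b1893269b0cb2720b2b82014743183942170a8140600009299246ae01152a8538794aa451b756b3d4fbca6b2e8889182e64bb852a9449d8e600f924ca2e65858f4811293d7eb6021fc565f1c8d59651330e89846208c9048ab89146268d194cea37640e10981256331d19625bb0a6ccf6688a42cc8eb51892a5dc8da11f1289c88280fd79a52d86ab98a1ba92b0ea51671a8ec8941c3d14fb1dd3a13081bd046a349dd3c62307a0b85a2c7c8aa8050291e8a69a3c979e67827a98f66b2406aa2185a30d670cb358194d3482d9915d5e2e662ba9045964aa58a115eb0), (nat_lit 0x23971346f6c02106113195516f34cbc46d587555aab54a9d4a88934bbf05f4c9fd2a92f26b51a8b51a1d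0a8340a5cfa7aa76f1ccea9d6cb38206b3a208b20e48a34b6802d1880272299482b0332140f61633298ec6a439c5360402a489003030302eb186b4e1e074442a12950c41a0a23920a603007f8edfb4e52be9f22c7bbd9eaf4ae522b4f0733b9dae575d5dd2e815bbdd83050389c2396fcedbadc6da326f630fd1daa798704c960a55cd8d04d3382cba864493d7e4a0a000047e6290976125e9589c0f06a04c2772fa722058360243a44679f552a89e479f6a4518c486e34fa7a70b28cd96b698a78de1094a845a5e7c1386e5cdaae8998f0b8db210885b0cc96d2c0e301549090889a8465a47673339d4a2343eb20a04aaf9a47048cd65c7c3d23afca96a21598f5936696cae62b022aeabc4093c984122632e5984168b107f15b39e0aeac50af89854249c0bc3c7f0e9c0384b5646a34198c944e4a68b85af8738aa046e47a28da69821e8c0516b9955a7f47068330788c824ac3692f2c1355c4c16f12653415d628644e2f188a30652c2), (nat_lit 0x8245439641458ac2c1afd7a175cada49425931175369c3a9842a8b33970d2770885d0e4b2da44280f3f1540800011b016ce0190a728c9bca26b2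a2231a633097a123d1695cd2533693c9971241fc8a43208fcb5a71c8dc6a33185e4b2ccae89c4a223b6fbee1b0cae9f0d0da3804c15676e1fc9c0e082280e48872f5b251280302c717415900660282112822d1aca4f32f0489e494298cd4ac878240d0300c21f2371d298de438eb4974d067cf19acb6632992c863cc87c3d61b0ac0c00c289f5175db4573255bad96ab4102c84c2457c5054e05408ca6ab39358ec0d3dafab28d40a0d2b54aa8a53099269b93a864456a8c901a8c94138a83f9da93a4a51c72e4f3b13ef18150c8f0a518cc6c19a6296a63918a9de9076aa58693e753869b09a7bc078307155ea42e1639ead4ea3baeb02f16bca841a54ba5f0f772c052e38a40adc8fc3e9188b336a4e8824091b1588658835ce84c6c1e51e6d3d238e6642c180ae5f252b5356313ac44ab05508842b30f8783b650d950f0bfa53d6a3458339a96ffa240148f69ec15bcee7eb75df419dcfdb740), (nat_lit 0x663d064ff71c154831723c85a387bb0188c21e91a4e26892c586bb55328502565c6e2240678797124963462d31214762a224211dec9f77b85aa2b518da80d61e25a01431d3b12a33aa8e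5b94471261c02c83aa27ca7a53f152f1835067a2f14d4e931087c39db097d09e18b68fc5ec4110a06c7f2db22d59b1a57c2d781dadce4416679d7a30c59bb421b2a0fb1888416a348875fb1c8e6d216389039254636826096bcc26ae71739a84eea3b39fb67a5d3832186fba9e159a8d612f5a5f99caef9a806861454f421fc34150eea4377da802cac0753e331e8e29843619988cc4ae9c2dd3a614da69332260cba523e22a49223547818b0db45a29128843998d33b4192802803f810047c291a8d6783b9d8ea74269c816703780cda603c9e90a685f218ca6427285386c2f93cba5c2d968b28d5e958a855299eca2502f18ce64c25a0892489d55926e972cfdd14880a52af2f594ae4d5c584c920b494596c0b98a34ebb209a2ce274d8555298de514f14af575d19f0dd812e992c80bab42b036c84a081007aac1a0c38829b00803a380a7e371f50200), (nat_lit 0x742390a5d38b38ee734521dae113f0ceb3587ed586f0818d4aa2327b41a9b4ca5b9e9300a3d1a8a2ea1d09f1401c4fa7b3c7bbccfa5e30c401a926d04d22093c144f276351e8a6bd27159b0a181848d85b031f00e14568557e9a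07151165234134e936678881680410da13547a53a0a4291a7e03487fbfaaefc7d8edf3419dd3c61079d3c9e2f0748bdc63a75ba9df67a5399cae476a9dc2946fb79bad66dccc4f25aeb71aa1631220a07b87d88cc67062acda9d2f9701eac2d040ea578c906504b3480c029b002351e653f92810630501636c46500952a8710fc34a451a8a48a08127990445c4608a984ba592ae049cd262495ad996c178ad7c38d2af0f6ca040f42c410c59d6e731e684aa5b2fb0cb18311b0092c628128859321204ad77136633568435834e6e3e63ce2c8c69030c8c26604983b1694c525cd10dc9e24235e2c9201f23965329c324117c6b531810c3c7d3b0733faac286a34ad542a6f5775105a2c158a852706c960de7226438dc812420caa8927a94321846352351c9948ab8c262c5e6acb86abe60b18ec7d5c845d2a972b7), (nat_lit 0x88c29fedc9f8b528960c521e03b18b4e6127664da561c68cbc3cc79a471784359aa87b5e142d5621b422e83a1fb1c988cb610c19e5095455a054f730bd5359a93dc58a5aabec6a9fac4f864d55238c8ee7498ddd54e15a55d62a7025dc2341c06acf108799e023376d9a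70cd684e98b0481cd61ad4b2b0c4490950fd9ec197101888c0a4e5975d5811616448cc755e26904cc48b7910fa2b175c894836413b69b25f6b8824900ad28aa7077cb3a1157788654e9ea80e60af57f0e9f0a05faf81b4d18509be3c724f28c36a58a68aef748b95a6955d2a633764846592311b4942c0943213a104da6826428b58235618f9ad22fc479951af445a28cc880b2190b4341848ba623f940fa6a0b9e8f27807134aa58399c8d07037944c06c491f15871872251c6405200c26d6c179025c01168b2742b958ea5429948dc7e02938ec4c25928924890cf5dceca6261baf67d38a92b8ae3098d138f2d2531486496b6bb992bac52d8dc6165476dba1bce551bf676d6a05468354a2449955f3da1c2af34ca094c9c079dd7a0c0598c1208038189e040196c0200)]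
noncomputable def oaL : LD := ⟨nat_lit 360, nat_lit 9, nat_lit 0, fun i p => pk (nth (nat_lit 0) oaL_T i) (nat_lit 9) (nat_lit 511) p, nth (nat_lit 0) [], []⟩
theorem oaL_s0 : allL (L22.subChk oa_sg oaL_W oaL) [nat_lit 0, nat_lit 1, nat_lit 2, nat_lit 3, nat_lit 4, nat_lit 5, nat_lit 6, nat_lit 7, nat_lit 8] = true := by decide +kernel
theorem oaL_s : ∀ i < oaL.r, L22.subChk oa_sg oaL_W oaL i = true := allL_cover [[nat_lit 0, nat_lit 1, nat_lit 2, nat_lit 3, nat_lit 4, nat_lit 5, nat_lit 6, nat_lit 7, nat_lit 8]] (by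
  simp only [List.forall_mem_cons]
  exact ⟨oaL_s0, by simp⟩) (by decide +kernel)
theorem oaL_p : L22.subPt oa_sg oaL_W [] oaL = true := by decide +kernel
noncomputable def oa_t_T : ℕ := (nat_lit 0x51be3f2a9c4794a7c3dce408c907c224610a3448533501c2cb8d79e4b434022086d193725d11a844620f48cdf0ca2a58aa3d4c126622c20e56e392874b50d410501a56a10c89d146d4582ec247385a2cb2cc3c5f2702c5c189c4fa5248068eb202cf556ba85c5028802423b388fa8e35ab22e303c9eb5827199a3190ecf210450d097442a5c6e55a793add3b480bee6723391a47144bc7e499fb94ba909b2e9da225431c171c704cd810e6c539825539341013218c32522c03a86628154d5137280ad01484c69cec66a053879b6610e14cd5518015024951c23e344024446b6088d8aac35da62f6a60189b7132cd57acd6e637c3f547435a990cf01589fdde4faad992307ab8d9ed67833ecd6f7af9d696bf102b049585c549fd60772210b4d5b3e86837a82252e65acbc6c764a488dd35aae26976f4822f8d0f9132ca075ea4199e42515b48c06d0f9f524522b9e1b2184c0258ade3ccfa44e73812a8a5e21b548a6c3bb3074c3268c0b73a39b285b15a0a9a4c0e712ba2039513b12cb4421fac42175af204ff799a60a27781d29f65582e5f94a)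
noncomputable def oa_t (q : ℕ) : ℕ := pk oa_t_T (nat_lit 9) (nat_lit 511) q
noncomputable def oa_U : List (List ℕ) := [[nat_lit 0], [nat_lit 1], [nat_lit 2], [nat_lit 3], [nat_lit 4], [nat_lit 5], [nat_lit 6], [nat_lit 7], [nat_lit 8]]
theorem oa_h0 : allL (oaL.homChk A360 oa_t oa_U) [nat_lit 0, nat_lit 1, nat_lit 2, nat_lit 3, nat_lit 4, nat_lit 5, nat_lit 6, nat_lit 7, nat_lit 8] = true := by decide +kernel
theorem oa_h : ∀ i < oaL.r, oaL.homChk A360 oa_t oa_U i = true := allL_cover [[nat_lit 0, nat_lit 1, nat_lit 2, nat_lit 3, nat_lit 4, nat_lit 5, nat_lit 6, nat_lit 7, nat_lit 8]] (by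
  simp only [List.forall_mem_cons]
  exact ⟨oa_h0, by simp⟩) (by decide +kernel)
theorem oa_b : oaL.bsChk A360 oa_t [nat_lit 0, nat_lit 24, nat_lit 25, nat_lit 147, nat_lit 246, nat_lit 274, nat_lit 117, nat_lit 151, nat_lit 84] = true := by decide +kernel
theorem oa_q : an (qtChk A360.r oaL_W oa_U oa_V) (allL (fun w => an (wOK 10 w) (LA22.cmW o_s w)) oaL_W) = true := by decide +kernel
noncomputable def ob_sg_T : ℕ := (nat_lit 0xb5bad99d29cd9468a38367ed7a37206d46636586115f75c057355d52651450e4ca4ad4aa49146c45c4103de3d437e3353303253213073022fc2eb2e42df2d42ce2cb2bc2b92b72b60f20ac08b08808107306b05903800c00a008005003001000)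
noncomputable def ob_sg (q : ℕ) : ℕ := pk ob_sg_T (nat_lit 12) (nat_lit 4095) q
theorem ob_sg_vw : viewChk (nat_lit 3510) ob_sg (nat_lit 64) = true := by decide +kernel
theorem ob_fx : LA22.fxChk ob_sg (nat_lit 64) (o_s ++ [3]) = true := by decide +kernel
noncomputable def obc_DB0 : List (ℕ × ℕ) := [(nat_lit 0, (nat_lit 6863493376943893133)), (nat_lit 5, (nat_lit 11918113990109276813)), (nat_lit 1, (nat_lit 4115619404056174246)), (nat_lit 694, (nat_lit 2310755619498477134))]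
theorem obc_DB0_ok : allZ (LA22.rowChk ob_sg (nat_lit 64)) [([], nat_lit 0), ([], nat_lit 5), ([], nat_lit 1), ([], nat_lit 9)] obc_DB0 = true := by decide +kernel
noncomputable def obc_DB : List (ℕ × ℕ) := obc_DB0
noncomputable def ob_sh_T : ℕ := (nat_lit 0xb5bad99d29cd9468a38367ed7a37206d46636586115f75c057355d52651450e4ca4ad4aa49146c45c4103de3d437e3353303253213073022fc2eb2e42df2d42ce2cb2bc2b92b72b60f20ac08b08808107306b05903800c00a008005001000)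
noncomputable def ob_sh (q : ℕ) : ℕ := pk ob_sh_T (nat_lit 12) (nat_lit 4095) q
theorem ob_sh_vw : viewChk (nat_lit 3510) ob_sh (nat_lit 63) = true := by decide +kernel
noncomputable def ob_V : List (List ℕ) := [[nat_lit 3]]
noncomputable def obL_W : List (List ℕ) := [[nat_lit 0], [nat_lit 1], [nat_lit 5, nat_lit 1, nat_lit 5], [nat_lit 9, nat_lit 0, nat_lit 9], [nat_lit 2, nat_lit 3, nat_lit 7, nat_lit 4, nat_lit 3, nat_lit 2, nat_lit 1, nat_lit 2, nat_lit 3, nat_lit 4, nat_lit 7, nat_lit 3, nat_lit 2], [nat_lit 8, nat_lit 9, nat_lit 1, nat_lit 2, nat_lit 3, nat_lit 7, nat_lit 6, nat_lit 5, nat_lit 4, nat_lit 3, nat_lit 2, nat_lit 1, nat_lit 0, nat_lit 1, nat_lit 2, nat_lit 3, nat_lit 4, nat_lit 5, nat_lit 6, nat_lit 7, nat_lit 3, nat_lit 2, nat_lit 1, nat_lit 9, nat_lit 8], [nat_lit 8, nat_lit 9, nat_lit 2, nat_lit 1, nat_lit 5, nat_lit 6, nat_lit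 3, nat_lit 2, nat_lit 1, nat_lit 5, nat_lit 4, nat_lit 3, nat_lit 2, nat_lit 1, nat_lit 0, nat_lit 1, nat_lit 2, nat_lit 3, nat_lit 4, nat_lit 5, nat_lit 1, nat_lit 2, nat_lit 3, nat_lit 6, nat_lit 5, nat_lit 1, nat_lit 2, nat_lit 9, nat_lit 8]] ++ ob_V
noncomputable def obL_T : List ℕ := [(nat_lit 0x3cf7eefae78df3d6fdadb2bd27cb1c24a68ba696a8e285f81e65c5da7586d65544d244f40e2cc34a1c82461050420c0), (nat_lit 0x3dfbcefadb4df9c38cf2c75bee9a5aeaa688edb219e292069e75c61f59b5d95544d24113cd3872ca248306084005043), (nat_lit 0x3af7cd3ecb8df6abb9b9c70beeb62875a67a339648ecae079f75c55a5185d66d94d04523c934b30a3881c61400c1084), (nat_lit 0x3eaf5b64bf3b36f34e32c70e6eef7f6a9e8a6697a8e284c7cd75c1892985d65544c505000e7a02d96881db4840c244f), (nat_lit 0x3ef68c6ee78cb6d744f7ef08bab6c729abc9e69648ef86045e76b5906195db554cd27da3c50832ca24800638430d047), (nat_lit 0x12f7ced0e57dc6134cf2c7061a2140801e89e69648190637de74d6ee8afe1656c4fe47a3ce70c2ca26da761750eb86a),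 (nat_lit 0x3ef4813a403dd1d40cd2c70bcab4e56a7689e63588c96d37dea5c85a6645d6ad4832db93ec94c2ee8bc1c617be02074), (nat_lit 0x3ef7cefae78df6d74cf2c70beeb6caeaa689e69648e28607de75c6da6585d65544d24503ce34c2ca2481c61440c2040)]
noncomputable def obL : LD := ⟨nat_lit 63, nat_lit 8, nat_lit 0, fun i p => pk (nth (nat_lit 0) obL_T i) (nat_lit 6) (nat_lit 63) p, nth (nat_lit 0) [], []⟩
theorem obL_s0 : allL (L22.subChk ob_sh obL_W obL) [nat_lit 0, nat_lit 1, nat_lit 2, nat_lit 3, nat_lit 4, nat_lit 5, nat_lit 6, nat_lit 7] = true := by decide +kernel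
theorem obL_s : ∀ i < obL.r, L22.subChk ob_sh obL_W obL i = true := allL_cover [[nat_lit 0, nat_lit 1, nat_lit 2, nat_lit 3, nat_lit 4, nat_lit 5, nat_lit 6, nat_lit 7]] (by
  simp only [List.forall_mem_cons]
  exact ⟨obL_s0, by simp⟩) (by decide +kernel)
theorem obL_p : L22.subPt ob_sh obL_W [] obL = true := by decide +kernel
noncomputable def ob_t_T : ℕ := (nat_lit 0x4c8d488ee86c995e02ff8f4e4eb36a9161b4c0605f75b8c7d4760836341ee394b2376789f550730ad99aa2c6f39d4a)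
noncomputable def ob_t (q : ℕ) : ℕ := pk ob_t_T (nat_lit 6) (nat_lit 63) q
noncomputable def ob_U : List (List ℕ) := [[nat_lit 0], [nat_lit 1], [nat_lit 2], [nat_lit 3], [nat_lit 4], [nat_lit 5], [nat_lit 6], []]
theorem ob_h0 : allL (obL.homChk S63 ob_t ob_U) [nat_lit 0, nat_lit 1, nat_lit 2, nat_lit 3, nat_lit 4, nat_lit 5, nat_lit 6, nat_lit 7] = true := by decide +kernel
theorem ob_h : ∀ i < obL.r, obL.homChk S63 ob_t ob_U i = true := allL_cover [[nat_lit 0, nat_lit 1, nat_lit 2, nat_lit 3, nat_lit 4, nat_lit 5, nat_lit 6, nat_lit 7]] (by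
  simp only [List.forall_mem_cons]
  exact ⟨ob_h0, by simp⟩) (by decide +kernel)
theorem ob_b : obL.bsChk S63 ob_t [nat_lit 0, nat_lit 1, nat_lit 5, nat_lit 16, nat_lit 9, nat_lit 36, nat_lit 47] = true := by decide +kernel
theorem ob_q : an (qtChk S63.r obL_W ob_U ob_V) (allL (fun w => an (wOK 10 w) (LA22.cmW (o_s ++ [3]) w)) obL_W) = true := by decide +kernel
noncomputable def oc_sg_T : ℕ := (nat_lit 0x37e36533533032b3253243073022ff2fc2fb2eb2e42e32e02df2de2d52d42cf2ce2cd2c72c42bf2be2bc2bb2b92b72b60f20ac08b08808408107307106d06b05905705504904804503803603502c02202101b01901601401101000e00d00c00b00a009008005003002001000)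
noncomputable def oc_sg (q : ℕ) : ℕ := pk oc_sg_T (nat_lit 12) (nat_lit 4095) q
theorem oc_sg_vw : viewChk (nat_lit 3510) oc_sg (nat_lit 72) = true := by decide +kernel
theorem oc_fx : LA22.fxChk oc_sg (nat_lit 72) (o_s ++ [3] ++ o_b) = true := by decide +kernel
noncomputable def occ_DB0 : List (ℕ × ℕ) := [(nat_lit 0, (nat_lit 0x10c9d6fcacc989801d)), (nat_lit 1, (nat_lit 0xd60736391742c624ca)), (nat_lit 3, (nat_lit 0xb5ac9417f6608002bb)), (nat_lit 2, (nat_lit 0xe808f7a3a88236d415)), (nat_lit 694, (nat_lit 0xc32ab401c3c713331e))]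
theorem occ_DB0_ok : allZ (LA22.rowChk oc_sg (nat_lit 72)) [([], nat_lit 0), ([], nat_lit 1), ([], nat_lit 3), ([], nat_lit 2), ([], nat_lit 9)] occ_DB0 = true := by decide +kernel
noncomputable def occ_DB : List (ℕ × ℕ) := occ_DB0
noncomputable def oc_V : List (List ℕ) := [[nat_lit 3, nat_lit 7, nat_lit 4, nat_lit 3, nat_lit 4, nat_lit 7], [nat_lit 2, nat_lit 3, nat_lit 7, nat_lit 4, nat_lit 3, nat_lit 2, nat_lit 3, nat_lit 4, nat_lit 7, nat_lit 3], [nat_lit 1, nat_lit 2, nat_lit 3, nat_lit 7, nat_lit 4, nat_lit 3, nat_lit 2, nat_lit 1, nat_lit 2, nat_lit 3, nat_lit 4, nat_lit 7, nat_lit 3, nat_lit 2], [nat_lit 0, nat_lit 1, nat_lit 2, nat_lit 3, nat_lit 7, nat_lit 4, nat_lit 3, nat_lit 2, nat_lit 1, nat_lit 0, nat_lit 1, nat_lit 2, nat_lit 3, nat_lit 4, nat_lit 7, nat_lit 3, nat_lit 2, nat_lit 1], [nat_lit 5, nat_lit 1, nat_lit 2, nat_lit 3,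 nat_lit 7, nat_lit 5, nat_lit 4, nat_lit 3, nat_lit 2, nat_lit 1, nat_lit 2, nat_lit 3, nat_lit 4, nat_lit 5, nat_lit 7, nat_lit 3, nat_lit 2, nat_lit 1], [nat_lit 9, nat_lit 0, nat_lit 9, nat_lit 1, nat_lit 2, nat_lit 3, nat_lit 7, nat_lit 4, nat_lit 3, nat_lit 2, nat_lit 1, nat_lit 0, nat_lit 1, nat_lit 2, nat_lit 3, nat_lit 4, nat_lit 7, nat_lit 3, nat_lit 2, nat_lit 1, nat_lit 9, nat_lit 0]]
noncomputable def ocL_W : List (List ℕ) := [[nat_lit 0], [nat_lit 2], [nat_lit 1, nat_lit 0, nat_lit 1], [nat_lit 9, nat_lit 1, nat_lit 0, nat_lit 1, nat_lit 9], [nat_lit 5, nat_lit 3, nat_lit 2, nat_lit 1, nat_lit 2, nat_lit 3, nat_lit 5], [nat_lit 5, nat_lit 1, nat_lit 5]] ++ oc_V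
noncomputable def ocL_T : List ℕ := [(nat_lit 0x8b0e3c48cf5e3a7efa14177019b86ed983472c98b55eb96ac56a94294e912a64688e9c3e790a03658a982e68c9226507101e4458a1a3038612200840608280), (nat_lit 0x8f1a2be86f1eb971120c276ce03f6ed9ab474c98b05eb16ae54ad4a84e8129c466cd263e60b244484c9e2674a942e488831e3848c0e2868116143042008400), (nat_lit 0x7efa2c486ddb408f19ebc74ed7b8850573466c98b072d56ac56a14aa48990a740892a32c78e9c3268d922e7ca94226098a1a3878c164048808082870618001), (nat_lit 0x3a710a74108ac07ef9e992ee871f44d85b422c8c0d5eb880404a808588992a446de2c3707a3c63669e31765a09426499ad1ee580c6a284880e1942c06ad480), (nat_lit 0x8ec9b4486e20c078f9ebf76adcc26f15a3555198b052b96ac74cd7a82860aa4465909e3e80d9c3a68ca60c892a70a488891e0018416288080e5c98c1a0808e), (nat_lit 0x8f1a245710a0b47ef993176e9cc36ed9ac05af5e2b5eb99a960a962842992252c8939f4078e9c2468c192e8ca94146c8110c3810c164c488003c2810634207),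 (nat_lit 0x8ed62c46109cc07eb9eb376ea0ab6ebe33478c96c36cf98ac70a94a84e992a41e8908d0478e8b26208902e1870c3628c984655014384849a0e58284067c080), (nat_lit 0x8f1a2ac86e9cbd54ba033770a0ab6ed9ab478c98b05ef96c470fd4a84e25287465c08d3e0c28b2620c904418a9436488981e3900c382931a4858e843c09080), (nat_lit 0x8f194c4610a0bd54ba0336ee9cb876bdab478c98c36cf96ac56fe2a808240241e890a0047828b2620c902e5870c36488984654694382931a0e18ea7067c0a5), (nat_lit 0x50d54c460e9cbd7efa033770a0b86eda33478c98c35eb96ac56aa2c74e25287468808d3e7828b36208982e1870c2628c901e55014384931a4858e840609080), (nat_lit 0x8f1a2ac870a0c054b9ebc6ee9cab76bdab266d16b06cf98c470fd4a84e25287468808d3e7828b36208982e1870c2628c901e55014384931a4858e840609080), (nat_lit 0x8f194ac60ea0c054b9eb37709cab6ebdab478c96c36cf98c470fe2a84e980071e5d0a03e7828b2668c9844187143628890465468c38484884858e8406080a5)]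
noncomputable def ocL : LD := ⟨nat_lit 72, nat_lit 12, nat_lit 0, fun i p => pk (nth (nat_lit 0) ocL_T i) (nat_lit 7) (nat_lit 127) p, nth (nat_lit 0) [], []⟩
theorem ocL_s0 : allL (L22.subChk oc_sg ocL_W ocL) [nat_lit 0, nat_lit 1, nat_lit 2, nat_lit 3, nat_lit 4, nat_lit 5, nat_lit 6, nat_lit 7, nat_lit 8, nat_lit 9, nat_lit 10, nat_lit 11] = true := by decide +kernel
theorem ocL_s : ∀ i < ocL.r, L22.subChk oc_sg ocL_W ocL i = true := allL_cover [[nat_lit 0, nat_lit 1, nat_lit 2, nat_lit 3, nat_lit 4, nat_lit 5, nat_lit 6, nat_lit 7, nat_lit 8, nat_lit 9, nat_lit 10, nat_lit 11]] (by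
  simp only [List.forall_mem_cons]
  exact ⟨ocL_s0, by simp⟩) (by decide +kernel)
theorem ocL_p : L22.subPt oc_sg ocL_W [] ocL = true := by decide +kernel
noncomputable def oc_t_T : ℕ := (nat_lit 0x6d83090070a089181338708538161d4dd58005158916231b6435d279052171510620b3ca4237da20d3ca79f85a18d0cb4a311955c517)
noncomputable def oc_t (q : ℕ) : ℕ := pk oc_t_T (nat_lit 6) (nat_lit 63) q
noncomputable def oc_U : List (List ℕ) := [[nat_lit 0], [nat_lit 1], [nat_lit 2], [nat_lit 3], [nat_lit 4], [nat_lit 5], [], [], [], [], [], []]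
theorem oc_h0 : allL (ocL.homChk O36 oc_t oc_U) [nat_lit 0, nat_lit 1, nat_lit 2, nat_lit 3, nat_lit 4, nat_lit 5, nat_lit 6, nat_lit 7, nat_lit 8, nat_lit 9, nat_lit 10, nat_lit 11] = true := by decide +kernel
theorem oc_h : ∀ i < ocL.r, ocL.homChk O36 oc_t oc_U i = true := allL_cover [[nat_lit 0, nat_lit 1, nat_lit 2, nat_lit 3, nat_lit 4, nat_lit 5, nat_lit 6, nat_lit 7, nat_lit 8, nat_lit 9, nat_lit 10, nat_lit 11]] (by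
  simp only [List.forall_mem_cons]
  exact ⟨oc_h0, by simp⟩) (by decide +kernel)
theorem oc_b : ocL.bsChk O36 oc_t [nat_lit 0, nat_lit 2, nat_lit 5, nat_lit 42, nat_lit 17, nat_lit 9] = true := by decide +kernel
theorem oc_q : an (qtChk O36.r ocL_W oc_U oc_V) (allL (fun w => an (wOK 10 w) (LA22.cmW (o_s ++ [3] ++ o_b) w)) ocL_W) = true := by decide +kernel
noncomputable def og_A : List Cw := [([], nat_lit 7), ([], nat_lit 4), ([], nat_lit 9), ([], nat_lit 0), ([], nat_lit 5), ([], nat_lit 3), ([], nat_lit 1), ([nat_lit 8, nat_lit 9, nat_lit 6, nat_lit 5, nat_lit 1], nat_lit 0), ([], nat_lit 2)]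
noncomputable def og_DB : List (ℕ × ℕ) := S22.mkDB F22 og_A
theorem og_A_ok : allL (cOK S22.r) og_A = true := by decide +kernel
noncomputable def oau_v0 : Lv := ⟨(nat_lit 0, ([], nat_lit 0)), nat_lit 0, [], [], [], [], nat_lit 9, nat_lit 0, nat_lit 0, nat_lit 360⟩
theorem oau_v0_ok : LA22.candChk oa_sg (nat_lit 360) [o_s] oac_DB (ones (nat_lit 360)) [] oau_v0 (fun X => cntLe oau_v0.K (nat_lit 360) oau_v0.c (difM X (nat_lit 0))) = true := by decide +kernel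
noncomputable def oau_v1 : Lv := ⟨(nat_lit 3, ([], nat_lit 3)), nat_lit 2, [], [nat_lit 0], [nat_lit 0], [], nat_lit 9, nat_lit 0, nat_lit 0, nat_lit 63⟩
theorem oau_v1_ok : LA22.candChk oa_sg (nat_lit 360) [o_s] oac_DB (ones (nat_lit 360)) (oau_v0.e :: []) oau_v1 (fun X => cntLe oau_v1.K (nat_lit 360) oau_v1.c (difM X (nat_lit 0))) = true := by decide +kernel
noncomputable def oau_v2 : Lv := ⟨(nat_lit 5, ([], nat_lit 5)), nat_lit 4, [], [nat_lit 0, nat_lit 1], [nat_lit 2, nat_lit 0], [], nat_lit 9, nat_lit 0, nat_lit 0, nat_lit 30⟩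
theorem oau_v2_ok : LA22.candChk oa_sg (nat_lit 360) [o_s] oac_DB (ones (nat_lit 360)) (oau_v1.e :: oau_v0.e :: []) oau_v2 (fun X => cntLe oau_v2.K (nat_lit 360) oau_v2.c (difM X (nat_lit 0))) = true := by decide +kernel
noncomputable def oau_v3 : Lv := ⟨(nat_lit 1, ([], nat_lit 1)), nat_lit 1, [], [nat_lit 1, nat_lit 0, nat_lit 2], [], [], nat_lit 9, nat_lit 0, nat_lit 0, nat_lit 16⟩
theorem oau_v3_ok : LA22.candChk oa_sg (nat_lit 360) [o_s] oac_DB (ones (nat_lit 360)) (oau_v2.e :: oau_v1.e :: oau_v0.e :: []) oau_v3 (fun X => cntLe oau_v3.K (nat_lit 360) oau_v3.c (difM X (nat_lit 0))) = true := by decide +kernel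
noncomputable def oau_v4 : Lv := ⟨(nat_lit 694, ([], nat_lit 9)), nat_lit 72, [], [nat_lit 1, nat_lit 0, nat_lit 3, nat_lit 2], [], [], nat_lit 9, nat_lit 0, nat_lit 0, nat_lit 8⟩
theorem oau_v4_ok : LA22.candChk oa_sg (nat_lit 360) [o_s] oac_DB (ones (nat_lit 360)) (oau_v3.e :: oau_v2.e :: oau_v1.e :: oau_v0.e :: []) oau_v4 (fun X => cntLe oau_v4.K (nat_lit 360) oau_v4.c (difM X (nat_lit 0))) = true := by decide +kernel
noncomputable def oau_v5 : Lv := ⟨(nat_lit 4, ([], nat_lit 4)), nat_lit 3, [], [nat_lit 3, nat_lit 4, nat_lit 2, nat_lit 1, nat_lit 0], [], [], nat_lit 9, nat_lit 0, nat_lit 0, nat_lit 6⟩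
theorem oau_v5_ok : LA22.candChk oa_sg (nat_lit 360) [o_s] oac_DB (ones (nat_lit 360)) (oau_v4.e :: oau_v3.e :: oau_v2.e :: oau_v1.e :: oau_v0.e :: []) oau_v5 (fun X => cntLe oau_v5.K (nat_lit 360) oau_v5.c (difM X (nat_lit 0))) = true := by decide +kernel
noncomputable def oau_v6 : Lv := ⟨(nat_lit 7, ([], nat_lit 7)), nat_lit 5, [], [nat_lit 5, nat_lit 4, nat_lit 3, nat_lit 2, nat_lit 1, nat_lit 0], [nat_lit 3], [], nat_lit 9, nat_lit 0, nat_lit 0, nat_lit 2⟩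
theorem oau_v6_ok : LA22.candChk oa_sg (nat_lit 360) [o_s] oac_DB (ones (nat_lit 360)) (oau_v5.e :: oau_v4.e :: oau_v3.e :: oau_v2.e :: oau_v1.e :: oau_v0.e :: []) oau_v6 (fun X => cntLe oau_v6.K (nat_lit 360) oau_v6.c (difM X (nat_lit 0))) = true := by decide +kernel
noncomputable def oau_v7 : Lv := ⟨(nat_lit 2, ([], nat_lit 2)), nat_lit 2, [], [nat_lit 0, nat_lit 1, nat_lit 2, nat_lit 3, nat_lit 4, nat_lit 5], [nat_lit 7, nat_lit 4], [], nat_lit 12, nat_lit 0, nat_lit 0, nat_lit 2⟩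
theorem oau_v7_ok : LA22.candChk (fun q => q) S22.N [o_s] og_DB (ones S22.N) (oau_v6.e :: oau_v5.e :: oau_v4.e :: oau_v3.e :: oau_v2.e :: oau_v1.e :: oau_v0.e :: []) oau_v7 (fun X => cntLe oau_v7.K S22.N oau_v7.c (difM X (nat_lit 0))) = true := by decide +kernel
noncomputable def oau_v8 : Lv := ⟨(nat_lit 715, ([nat_lit 8, nat_lit 9, nat_lit 6, nat_lit 5, nat_lit 1], nat_lit 0)), nat_lit 79, [], [nat_lit 5, nat_lit 4, nat_lit 3, nat_lit 2, nat_lit 1, nat_lit 0], [], [], nat_lit 9, nat_lit 0, nat_lit 0, nat_lit 1⟩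
theorem oau_v8_ok : LA22.candChk oa_sg (nat_lit 360) [o_s] oac_DB (ones (nat_lit 360)) (oau_v7.e :: oau_v6.e :: oau_v5.e :: oau_v4.e :: oau_v3.e :: oau_v2.e :: oau_v1.e :: oau_v0.e :: []) oau_v8 (fun X => cntLe oau_v8.K (nat_lit 360) oau_v8.c (difM X (nat_lit 0))) = true := by decide +kernel
theorem oau_fin : LA22.finChk [o_s] (oau_v8.e :: oau_v7.e :: oau_v6.e :: oau_v5.e :: oau_v4.e :: oau_v3.e :: oau_v2.e :: oau_v1.e :: oau_v0.e :: []) [(nat_lit 1, nat_lit 7, nat_lit 1, nat_lit 25, ([nat_lit 3], nat_lit 2)), (nat_lit 1, nat_lit 0, nat_lit 6, nat_lit 16, ([nat_lit 3, nat_lit 2], nat_lit 1)), (nat_lit 1, nat_lit 0, nat_lit 2, nat_lit 782, ([nat_lit 8, nat_lit 9, nat_lit 6, nat_lit 1, nat_lit 5, nat_lit 3, nat_lit 2, nat_lit 1], nat_lit 0)), (nat_lit 1, nat_lit 5, nat_lit 3, nat_lit 731, ([nat_lit 8, nat_lit 9, nat_lit 7, nat_lit 6, nat_lit 5, nat_lit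 1], nat_lit 0)), (nat_lit 1, nat_lit 0, nat_lit 5, nat_lit 756, ([nat_lit 8, nat_lit 9, nat_lit 7, nat_lit 6, nat_lit 5, nat_lit 2, nat_lit 1], nat_lit 0)), (nat_lit 1, nat_lit 0, nat_lit 2, nat_lit 121, ([nat_lit 1, nat_lit 5, nat_lit 6, nat_lit 7, nat_lit 3, nat_lit 2], nat_lit 1)), (nat_lit 1, nat_lit 12, nat_lit 11, nat_lit 12, ([nat_lit 5], nat_lit 1)), (nat_lit 1, nat_lit 0, nat_lit 1, nat_lit 70, ([nat_lit 6, nat_lit 7, nat_lit 3], nat_lit 2)), (nat_lit 1, nat_lit 15, nat_lit 10, nat_lit 68, ([nat_lit 7], nat_lit 3)), (nat_lit 1, nat_lit 0, nat_lit 10, nat_lit 42, ([nat_lit 7, nat_lit 3], nat_lit 2)), (nat_lit 1, nat_lit 0, nat_lit 2, nat_lit 6, ([], nat_lit 6)), (nat_lit 1, nat_lit 4, nat_lit 12, nat_lit 17, ([nat_lit 5, nat_lit 2], nat_lit 1)), (nat_lit 1, nat_lit 0, nat_lit 12, nat_lit 792, ([nat_lit 8, nat_lit 9, nat_lit 5, nat_lit 6,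 nat_lit 1, nat_lit 5, nat_lit 2, nat_lit 1], nat_lit 0)), (nat_lit 1, nat_lit 21, nat_lit 18, nat_lit 8, ([nat_lit 1], nat_lit 0)), (nat_lit 1, nat_lit 0, nat_lit 1, nat_lit 728, ([nat_lit 9, nat_lit 7, nat_lit 6, nat_lit 5, nat_lit 2, nat_lit 1], nat_lit 0)), (nat_lit 1, nat_lit 10, nat_lit 0, nat_lit 693, ([], nat_lit 8))] = true := by decide +kernel
noncomputable def obu_v0 : Lv := ⟨(nat_lit 0, ([], nat_lit 0)), nat_lit 0, [], [], [nat_lit 2], [], nat_lit 6, nat_lit 0, nat_lit 0, nat_lit 63⟩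
theorem obu_v0_ok : LA22.candChk ob_sg (nat_lit 64) [(o_s ++ [3])] obc_DB (ones (nat_lit 64)) [(3, [], 3)] obu_v0 (fun X => cntLe obu_v0.K (nat_lit 64) obu_v0.c (difM X (nat_lit 0))) = true := by decide +kernel
noncomputable def obu_v1 : Lv := ⟨(nat_lit 5, ([], nat_lit 5)), nat_lit 3, [], [nat_lit 0], [nat_lit 0, nat_lit 2], [], nat_lit 6, nat_lit 0, nat_lit 0, nat_lit 30⟩
theorem obu_v1_ok : LA22.candChk ob_sg (nat_lit 64) [(o_s ++ [3])] obc_DB (ones (nat_lit 64)) (obu_v0.e :: [(3, [], 3)]) obu_v1 (fun X => cntLe obu_v1.K (nat_lit 64) obu_v1.c (difM X (nat_lit 0))) = true := by decide +kernel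
noncomputable def obu_v2 : Lv := ⟨(nat_lit 1, ([], nat_lit 1)), nat_lit 1, [], [nat_lit 0, nat_lit 1], [], [], nat_lit 6, nat_lit 0, nat_lit 0, nat_lit 16⟩
theorem obu_v2_ok : LA22.candChk ob_sg (nat_lit 64) [(o_s ++ [3])] obc_DB (ones (nat_lit 64)) (obu_v1.e :: obu_v0.e :: [(3, [], 3)]) obu_v2 (fun X => cntLe obu_v2.K (nat_lit 64) obu_v2.c (difM X (nat_lit 0))) = true := by decide +kernel
noncomputable def obu_v3 : Lv := ⟨(nat_lit 694, ([], nat_lit 9)), nat_lit 16, [], [nat_lit 0, nat_lit 2, nat_lit 1], [], [], nat_lit 6, nat_lit 0, nat_lit 0, nat_lit 8⟩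
theorem obu_v3_ok : LA22.candChk ob_sg (nat_lit 64) [(o_s ++ [3])] obc_DB (ones (nat_lit 64)) (obu_v2.e :: obu_v1.e :: obu_v0.e :: [(3, [], 3)]) obu_v3 (fun X => cntLe obu_v3.K (nat_lit 64) obu_v3.c (difM X (nat_lit 0))) = true := by decide +kernel
noncomputable def obu_v4 : Lv := ⟨(nat_lit 107, ([nat_lit 7, nat_lit 4], nat_lit 3)), nat_lit 9, [], [nat_lit 2, nat_lit 3, nat_lit 1, nat_lit 0], [nat_lit 2], [], nat_lit 6, nat_lit 0, nat_lit 0, nat_lit 3⟩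
theorem obu_v4_ok : LA22.candChk ob_sg (nat_lit 64) [(o_s ++ [3])] obc_DB (ones (nat_lit 64)) (obu_v3.e :: obu_v2.e :: obu_v1.e :: obu_v0.e :: [(3, [], 3)]) obu_v4 (fun X => cntLe obu_v4.K (nat_lit 64) obu_v4.c (difM X (nat_lit 0))) = true := by decide +kernel
noncomputable def obu_v5 : Lv := ⟨(nat_lit 715, ([nat_lit 8, nat_lit 9, nat_lit 6, nat_lit 5, nat_lit 1], nat_lit 0)), nat_lit 20, [], [nat_lit 3, nat_lit 2, nat_lit 1, nat_lit 0], [nat_lit 9, nat_lit 2], [], nat_lit 6, nat_lit 0, nat_lit 0, nat_lit 2⟩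
theorem obu_v5_ok : LA22.candChk ob_sg (nat_lit 64) [(o_s ++ [3])] obc_DB (ones (nat_lit 64)) (obu_v4.e :: obu_v3.e :: obu_v2.e :: obu_v1.e :: obu_v0.e :: [(3, [], 3)]) obu_v5 (fun X => cntLe obu_v5.K (nat_lit 64) obu_v5.c (difM X (nat_lit 0))) = true := by decide +kernel
noncomputable def obu_v6 : Lv := ⟨(nat_lit 4, ([], nat_lit 4)), nat_lit 4, [], [nat_lit 2, nat_lit 3, nat_lit 6, nat_lit 4, nat_lit 7], [nat_lit 715, nat_lit 3], [], nat_lit 12, nat_lit 0, nat_lit 0, nat_lit 2⟩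
theorem obu_v6_ok : LA22.candChk (fun q => q) S22.N [(o_s ++ [3])] og_DB (ones S22.N) (obu_v5.e :: obu_v4.e :: obu_v3.e :: obu_v2.e :: obu_v1.e :: obu_v0.e :: [(3, [], 3)]) obu_v6 (fun X => cntLe obu_v6.K S22.N obu_v6.c (difM X (nat_lit 0))) = true := by decide +kernel
noncomputable def obu_v7 : Lv := ⟨(nat_lit 2, ([], nat_lit 2)), nat_lit 2, [(nat_lit 0, nat_lit 0, nat_lit 0, nat_lit 67, ([nat_lit 4], nat_lit 3)), (nat_lit 1, nat_lit 0, nat_lit 3, nat_lit 7, ([], nat_lit 7))], [nat_lit 1, nat_lit 0, nat_lit 2, nat_lit 3, nat_lit 4, nat_lit 5], [nat_lit 4, nat_lit 7], [], nat_lit 12, nat_lit 0, nat_lit 0, nat_lit 2⟩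
theorem obu_v7_ok : LA22.candChk (fun q => q) S22.N [(o_s ++ [3])] og_DB (ones S22.N) (obu_v6.e :: obu_v5.e :: obu_v4.e :: obu_v3.e :: obu_v2.e :: obu_v1.e :: obu_v0.e :: [(3, [], 3)]) obu_v7 (fun X => cntLe obu_v7.K S22.N obu_v7.c (difM X (nat_lit 0))) = true := by decide +kernel
theorem obu_fin : LA22.finChk [(o_s ++ [3])] (obu_v7.e :: obu_v6.e :: obu_v5.e :: obu_v4.e :: obu_v3.e :: obu_v2.e :: obu_v1.e :: obu_v0.e :: [(3, [], 3)]) [(nat_lit 1, nat_lit 8, nat_lit 0, nat_lit 25, ([nat_lit 3], nat_lit 2)), (nat_lit 1, nat_lit 0, nat_lit 3, nat_lit 745, ([nat_lit 8, nat_lit 9, nat_lit 6, nat_lit 5, nat_lit 3, nat_lit 2, nat_lit 1], nat_lit 0)), (nat_lit 1, nat_lit 0, nat_lit 3, nat_lit 766, ([nat_lit 8, nat_lit 9, nat_lit 6, nat_lit 5, nat_lit 4, nat_lit 3, nat_lit 2, nat_lit 1], nat_lit 0)), (nat_lit 1, nat_lit 9, nat_lit 8, nat_lit 12, ([nat_lit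 5], nat_lit 1)), (nat_lit 1, nat_lit 0, nat_lit 1, nat_lit 875, ([nat_lit 8, nat_lit 9, nat_lit 5, nat_lit 6, nat_lit 1, nat_lit 5, nat_lit 4, nat_lit 3, nat_lit 2, nat_lit 1], nat_lit 0)), (nat_lit 1, nat_lit 10, nat_lit 5, nat_lit 11, ([nat_lit 2], nat_lit 1)), (nat_lit 1, nat_lit 0, nat_lit 9, nat_lit 44, ([nat_lit 7, nat_lit 4, nat_lit 3, nat_lit 2], nat_lit 1)), (nat_lit 1, nat_lit 0, nat_lit 2, nat_lit 1042, ([nat_lit 8, nat_lit 9, nat_lit 6, nat_lit 4, nat_lit 3, nat_lit 7, nat_lit 6, nat_lit 5, nat_lit 3, nat_lit 2, nat_lit 1], nat_lit 0)), (nat_lit 1, nat_lit 10, nat_lit 8, nat_lit 729, ([nat_lit 8, nat_lit 9, nat_lit 6, nat_lit 5, nat_lit 2, nat_lit 1], nat_lit 0)), (nat_lit 1, nat_lit 0, nat_lit 12, nat_lit 926, ([nat_lit 8, nat_lit 9, nat_lit 4, nat_lit 3, nat_lit 7, nat_lit 6, nat_lit 5, nat_lit 3, nat_lit 2, nat_lit 1], nat_lit 0)),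 (nat_lit 1, nat_lit 0, nat_lit 2, nat_lit 6, ([], nat_lit 6)), (nat_lit 0, nat_lit 0, nat_lit 12, nat_lit 67, ([nat_lit 4], nat_lit 3)), (nat_lit 1, nat_lit 0, nat_lit 15, nat_lit 7, ([], nat_lit 7)), (nat_lit 1, nat_lit 9, nat_lit 13, nat_lit 17, ([nat_lit 5, nat_lit 2], nat_lit 1)), (nat_lit 1, nat_lit 0, nat_lit 16, nat_lit 792, ([nat_lit 8, nat_lit 9, nat_lit 5, nat_lit 6, nat_lit 1, nat_lit 5, nat_lit 2, nat_lit 1], nat_lit 0)), (nat_lit 1, nat_lit 22, nat_lit 20, nat_lit 8, ([nat_lit 1], nat_lit 0)), (nat_lit 1, nat_lit 0, nat_lit 1, nat_lit 728, ([nat_lit 9, nat_lit 7, nat_lit 6, nat_lit 5, nat_lit 2, nat_lit 1], nat_lit 0)), (nat_lit 1, nat_lit 5, nat_lit 17, nat_lit 41, ([nat_lit 4, nat_lit 3], nat_lit 2)), (nat_lit 1, nat_lit 0, nat_lit 1, nat_lit 799, ([nat_lit 9, nat_lit 4, nat_lit 2, nat_lit 3, nat_lit 7, nat_lit 6, nat_lit 5, nat_lit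 1], nat_lit 0)), (nat_lit 1, nat_lit 22, nat_lit 21, nat_lit 801, ([nat_lit 8, nat_lit 9, nat_lit 4, nat_lit 3, nat_lit 7, nat_lit 6, nat_lit 5, nat_lit 1], nat_lit 0)), (nat_lit 1, nat_lit 0, nat_lit 20, nat_lit 863, ([nat_lit 8, nat_lit 9, nat_lit 4, nat_lit 2, nat_lit 3, nat_lit 7, nat_lit 6, nat_lit 5, nat_lit 1], nat_lit 0)), (nat_lit 1, nat_lit 0, nat_lit 2, nat_lit 693, ([], nat_lit 8))] = true := by decide +kernel
noncomputable def ocu_v0 : Lv := ⟨(nat_lit 0, ([], nat_lit 0)), nat_lit 0, [], [], [], [], nat_lit 7, nat_lit 0, nat_lit 0, nat_lit 72⟩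
theorem ocu_v0_ok : LA22.candChk oc_sg (nat_lit 72) [(o_s ++ [3] ++ o_b)] occ_DB (ones (nat_lit 72)) [] ocu_v0 (fun X => cntLe ocu_v0.K (nat_lit 72) ocu_v0.c (difM X (nat_lit 0))) = true := by decide +kernel
noncomputable def ocu_v1 : Lv := ⟨(nat_lit 1, ([], nat_lit 1)), nat_lit 1, [], [nat_lit 0], [], [], nat_lit 7, nat_lit 0, nat_lit 0, nat_lit 40⟩
theorem ocu_v1_ok : LA22.candChk oc_sg (nat_lit 72) [(o_s ++ [3] ++ o_b)] occ_DB (ones (nat_lit 72)) (ocu_v0.e :: []) ocu_v1 (fun X => cntLe ocu_v1.K (nat_lit 72) ocu_v1.c (difM X (nat_lit 0))) = true := by decide +kernel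
noncomputable def ocu_v2 : Lv := ⟨(nat_lit 3, ([], nat_lit 3)), nat_lit 3, [], [nat_lit 0, nat_lit 1], [], [], nat_lit 7, nat_lit 0, nat_lit 0, nat_lit 12⟩
theorem ocu_v2_ok : LA22.candChk oc_sg (nat_lit 72) [(o_s ++ [3] ++ o_b)] occ_DB (ones (nat_lit 72)) (ocu_v1.e :: ocu_v0.e :: []) ocu_v2 (fun X => cntLe ocu_v2.K (nat_lit 72) ocu_v2.c (difM X (nat_lit 0))) = true := by decide +kernel
noncomputable def ocu_v3 : Lv := ⟨(nat_lit 2, ([], nat_lit 2)), nat_lit 2, [], [nat_lit 0, nat_lit 2, nat_lit 1], [], [], nat_lit 7, nat_lit 0, nat_lit 0, nat_lit 12⟩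
theorem ocu_v3_ok : LA22.candChk oc_sg (nat_lit 72) [(o_s ++ [3] ++ o_b)] occ_DB (ones (nat_lit 72)) (ocu_v2.e :: ocu_v1.e :: ocu_v0.e :: []) ocu_v3 (fun X => cntLe ocu_v3.K (nat_lit 72) ocu_v3.c (difM X (nat_lit 0))) = true := by decide +kernel
noncomputable def ocu_v4 : Lv := ⟨(nat_lit 694, ([], nat_lit 9)), nat_lit 40, [], [nat_lit 2, nat_lit 3, nat_lit 1, nat_lit 0], [], [], nat_lit 7, nat_lit 0, nat_lit 0, nat_lit 2⟩
theorem ocu_v4_ok : LA22.candChk oc_sg (nat_lit 72) [(o_s ++ [3] ++ o_b)] occ_DB (ones (nat_lit 72)) (ocu_v3.e :: ocu_v2.e :: ocu_v1.e :: ocu_v0.e :: []) ocu_v4 (fun X => cntLe ocu_v4.K (nat_lit 72) ocu_v4.c (difM X (nat_lit 0))) = true := by decide +kernel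
noncomputable def ocu_v5 : Lv := ⟨(nat_lit 5, ([], nat_lit 5)), nat_lit 4, [], [nat_lit 3, nat_lit 2, nat_lit 1, nat_lit 4], [], [], nat_lit 7, nat_lit 0, nat_lit 0, nat_lit 4⟩
theorem ocu_v5_ok : LA22.candChk oc_sg (nat_lit 72) [(o_s ++ [3] ++ o_b)] occ_DB (ones (nat_lit 72)) (ocu_v4.e :: ocu_v3.e :: ocu_v2.e :: ocu_v1.e :: ocu_v0.e :: []) ocu_v5 (fun X => cntLe ocu_v5.K (nat_lit 72) ocu_v5.c (difM X (nat_lit 0))) = true := by decide +kernel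
noncomputable def ocu_v6 : Lv := ⟨(nat_lit 4, ([], nat_lit 4)), nat_lit 4, [], [nat_lit 4, nat_lit 6, nat_lit 3, nat_lit 8, nat_lit 2], [], [], nat_lit 12, nat_lit 0, nat_lit 0, nat_lit 2⟩
theorem ocu_v6_ok : LA22.candChk (fun q => q) S22.N [(o_s ++ [3] ++ o_b)] og_DB (ones S22.N) (ocu_v5.e :: ocu_v4.e :: ocu_v3.e :: ocu_v2.e :: ocu_v1.e :: ocu_v0.e :: []) ocu_v6 (fun X => cntLe ocu_v6.K S22.N ocu_v6.c (difM X (nat_lit 0))) = true := by decide +kernel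
noncomputable def ocu_v7 : Lv := ⟨(nat_lit 6, ([], nat_lit 6)), nat_lit 6, [], [nat_lit 1, nat_lit 5, nat_lit 8, nat_lit 6, nat_lit 2, nat_lit 3], [], [], nat_lit 12, nat_lit 0, nat_lit 0, nat_lit 1⟩
theorem ocu_v7_ok : LA22.candChk (fun q => q) S22.N [(o_s ++ [3] ++ o_b)] og_DB (ones S22.N) (ocu_v6.e :: ocu_v5.e :: ocu_v4.e :: ocu_v3.e :: ocu_v2.e :: ocu_v1.e :: ocu_v0.e :: []) ocu_v7 (fun X => cntLe ocu_v7.K S22.N ocu_v7.c (difM X (nat_lit 0))) = true := by decide +kernel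
theorem ocu_fin : LA22.finChk [(o_s ++ [3] ++ o_b)] (ocu_v7.e :: ocu_v6.e :: ocu_v5.e :: ocu_v4.e :: ocu_v3.e :: ocu_v2.e :: ocu_v1.e :: ocu_v0.e :: []) [(nat_lit 0, nat_lit 0, nat_lit 1, nat_lit 7, ([], nat_lit 7)), (nat_lit 1, nat_lit 7, nat_lit 5, nat_lit 11, ([nat_lit 2], nat_lit 1)), (nat_lit 1, nat_lit 0, nat_lit 9, nat_lit 9, ([nat_lit 2, nat_lit 1], nat_lit 0)), (nat_lit 1, nat_lit 0, nat_lit 6, nat_lit 699, ([nat_lit 9, nat_lit 2, nat_lit 1], nat_lit 0)), (nat_lit 1, nat_lit 3, nat_lit 9, nat_lit 68, ([nat_lit 7], nat_lit 3)), (nat_lit 1, nat_lit 0, nat_lit 1, nat_lit 709, ([nat_lit 9, nat_lit 7, nat_lit 3, nat_lit 2, nat_lit 1], nat_lit 0)), (nat_lit 0, nat_lit 0, nat_lit 6, nat_lit 749, ([nat_lit 8, nat_lit 9, nat_lit 6, nat_lit 7, nat_lit 3, nat_lit 2, nat_lit 1], nat_lit 0)), (nat_lit 1, nat_lit 0, nat_lit 7, nat_lit 724, ([nat_lit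 8, nat_lit 9, nat_lit 7, nat_lit 3, nat_lit 2, nat_lit 1], nat_lit 0)), (nat_lit 1, nat_lit 0, nat_lit 2, nat_lit 693, ([], nat_lit 8))] = true := by decide +kernel
noncomputable def oe_sg_T : ℕ := (nat_lit 0xd8bd63d45d3cd30d2cd2bd28d25d23d1fd1dd03cedcecce1cd4cd3cc8cc6cc0cadcacca8c9ec9ac90c8fc8ec8ac88c84c83c7fc7ec7dc7cc7ac77c75c72c6bc67c65c4ac34c32c31c29c28c0ec0dc0bc09bfdbfcbf1beabe8be2bc8bc3bc2bbcba5ba2ba0b9fb98b97b96b95b92b8fb8eb8bb8ab89b86b84b83b82b80b75b70b6fb68b54b4db49b0eb04b02affafdaf6ac9ac7ac3ac2abbab9ab0aa1a9fa9da96a5da5ba52a49a1ea1da1aa19a17a16a11a10a0fa0ca09a08a06a05a04a02a009ff9fe9fb9e89e79e19de9c89bd98798598397196f96c93593493192f92c91e91190f90d9048c18bf8bc8b087c87b87a87887587487286f86a86986786686586084a82e7f77f57f27dd7aa7a87a579b78574a70a7097077006fb6f96a065c5e32b42b02af2ae2ad2ac2ab2aa2a92a229d29729629529129028a28928828628528428327f27e27d27c27b27a27726c26126025e25d25b25a25825023e23d23b23723323021520c1e6)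
noncomputable def oe_sg (q : ℕ) : ℕ := pk oe_sg_T (nat_lit 12) (nat_lit 4095) q
theorem oe_sg_vw : viewChk (nat_lit 3510) oe_sg (nat_lit 240) = true := by decide +kernel
noncomputable def oeL_W : List (List ℕ) := obL_W
noncomputable def oeL_T : List ℕ := [(nat_lit 0xece2dfefdacfd3cec9ddd5d4d9eec0c1edc2e6bab9ebe3b2bdbbe5e4e9acadb3eae8aaa3a2a1e79ab798a9a8b1dee0e19291d78fd6dcdb94c78b8a89d0d8c382808ed1d27fcdc5c47d7c7b74cccbca706f726e6b6cc86ac6687865b866bfbe61bcae605fb6b5b45a59585b5655b053afab52a7a6a55150964f4a4ca4489e47a09f9d459b9c994497439395404241908d8c3e3d3c858887863a848339817e7a79773837753676347371336d6967636264325e5d5c3157544e4d4b3049463f3b352e2f1f1823241c2221121a2a2b28270d2d0e09290825062c040f100a03260c15161e201101141d1b0219001713070b05), (nat_lit 0xebdee1d8efd9cbd2dcd6c6cfd4bfedbcb9eeb6e7c0b2eaecafe6abe3a8e8baa4e4a59fa0e99dad9c99e597a29b9293dbe2958de08bd1df8c88dd878684da8381d77ec97bd5797ad37776ced073c471cccd6dcac8c369c77fc567be63c1c26264665ebdb8bb5d5cb7b5b457b3b154b06098ae4d4eaca9aa4ba7a64956a346a14850479e55445a9a51968f419094913f80428e8a893b6a3d3c85746c82393e686f377c7d35783875706e72336b365f6532615259585b31534a4f434c3045403a342c1b242f191e161d1411172d100d0b090e2a28072e052b08252906270c032623021f2213210120181c151a00120f0a04),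 (nat_lit 0xa48c9581c6836d77877ed0737a64afb85cbc579c6254a0abbe99b09b4b9d5de597499eb19fa74eb5aeeba346a93f908693d789de3b768de08588c8918284ccd5e1c76935d878c379ca8a71efc56775d9cbcdd2dcd47cd639cf72ed61bf63b4c1325bb9ee5ea6bdb6e7c0b7b2eab3ec5856e64c9a4de3a8aae8baa153e496a5514330e9484a31ad55a2423ce292db9441408bd1df8e3e3880dd7f68da743a703334c97b7dd36bce6c37c4363d6f66605fc25a4465bb5298594745ac4f508f6a6e0913021920211e15001801050c082a2b0a290304100f2c260e0b28072e060d1b1a171123161f2f221412241c1d2d2527), (nat_lit 0xadd4d1dfc492d88bdb7b7cd6cebba8a9eca5c2b2e7c0b6e9a6e4bdeebabfed96ace3b061b95ba2b44c2eaeeba1dd8edad278d51fe2d3cb7594d982c891dc85cd2fc5efcf188ae0e190d7de237dc9c31c2289211201721a8024d02bb72aeab3a752c10825e8aa9e042803b10627b50d984a2da3e5e60e09be292cb8650f9a0a4f59552631455f0c66106874160015cc386a1e2011ca346f3314366e1d3d8f3e39701b02c7197f17403a136b3c41304348075153440b4750603256055a58376c42afc67e7695937787836d8c97a49f9d5dbc5e54a04e994bab49646257469c5c67737a81693b71798d3f843588864d9b63),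 (nat_lit 0xe9d2dcdbcbd6efdee1d93fce92b6e754a8e8bfedecade6c04dea49c2b9eea29ba5e4634beb4eb25e5c6162baa4d467d8dd3b83827bc4d36976e2357177c98d737d79da8b757e6ddf8488cfc381d18678947a7c8ed08c893d91935b9f96e3975d489cb19aac6499a64ca146a7bdbca35659aaaf9dbb9eaea0b3b7ab60b057b466445aa94f5047b831c170338acdc5c6743ec890c7956e7f38728037e036423a6b6ccad787cc3cd58f6a85416f39524530e55f984abe5143585553b532653468400d1916221b012411171d1429032c0706050a260b2b0e2e0c272d092508102812001a2f181c1e151321201f0223042a0f), (nat_lit 0x2e9080837281193e711a69243466b4c2be5f9f56bd9b0e455ca30a544a5d9dad4c29485057030c0b4d96991008e08c4194dfdb4079123c3f207016e16e18331f917bd0023600223b1d3a8713d67c7417dd6cd17fda67c5217dc658bf6132afee635965c104526251a5602b26ec30eaed9c0f97a2ae4fbb275a0653a105ebe7b625b32c9e4b28e5099ae28d428f899386de1cd2d738778e95cbdc2fd4758a88cc7a23c7cf6bd31ecd111bd8140164c0bcb8e807b9a8a62a5b0dab2de3b192158255ef356d8539ce6a78846fe44ea998b7b049a75e46e6e9b2a0b53144a4ba47c47ed937c9c8d568c33d76738bcaac43aa),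 (nat_lit 0xd163d3c226d83c8ca7018014231592a2b29aa9d4d499e584a48605fb79c0c260a54a09fb1e756e855080e6132673e7d3a6b2f1e1a131921d37977357175cb413868749180dd8f88871b8211173f84cdccd9dcd240396c7c1f9244465296ac5aa92d2c0b051009a8a74c4ba1e9a565ab4e51c0986266b657b52eb2ad2563b3e60403ea99be6453aec27a816a727bc4d5d42423200290e1d878c9c7ce69937e00157fdb8685d7dad6129414951ce3b09ba2c1edec0fbf9aaf0607b42827c3e21dbd768e8ddfe0de3433d0735e5debb85c97bc3043a6bbb9e5a3ee4f45ba47a48a3bc5efd18ccf89c636378b6f6e5be450), (nat_lit 0xe4dfe2d4cfdaced3ddc9c5efd8edbfbdeeb9e7b6c2eab2e3c1ada9ece8a8bba3ebe9a1b3a5aae6b79a97e5acb0dbd792e190e08dd18bde89c8dc8594ccd982c3937cd6c47acad5d2788ecb73d07bcd847175798881c76968c67d64b4afc061be60a6bc5cba5bb89c5763b5a054b19b66514e96aea2ab9da74b5e9e48a44c9f56475049535a4499984d804095863f918f3c763b8c8a6b3a42877039836c387f6e367e6772773e6d746f35346a37583265624a315f5d595552434f464530413d332a241b1e162f19141d17112e0f0a090b082c27062d0c290e262b0728050425022318011a2022211f151c131200100d03)]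
noncomputable def oeL : LD := ⟨nat_lit 240, nat_lit 8, nat_lit 0, fun i p => pk (nth (nat_lit 0) oeL_T i) (nat_lit 8) (nat_lit 255) p, nth (nat_lit 0) [], []⟩
theorem oeL_s0 : allL (L22.subChk oe_sg oeL_W oeL) [nat_lit 0, nat_lit 1, nat_lit 2, nat_lit 3, nat_lit 4, nat_lit 5, nat_lit 6, nat_lit 7] = true := by decide +kernel
theorem oeL_s : ∀ i < oeL.r, L22.subChk oe_sg oeL_W oeL i = true := allL_cover [[nat_lit 0, nat_lit 1, nat_lit 2, nat_lit 3, nat_lit 4, nat_lit 5, nat_lit 6, nat_lit 7]] (by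
  simp only [List.forall_mem_cons]
  exact ⟨oeL_s0, by simp⟩) (by decide +kernel)
theorem oeL_p : L22.subPt oe_sg oeL_W [] oeL = true := by decide +kernel
noncomputable def ol_v0 : Lv := ⟨(nat_lit 2, [], nat_lit 0), nat_lit 2, [], [], [], [[nat_lit 2]], nat_lit 12, nat_lit 4095, (nat_lit 28573824), nat_lit 1⟩
theorem ol_v0_ok : L22.orbChk (fun q => q) L22.n oc_V ([]) ol_v0 (fun _ => true) = true := by decide +kernel
noncomputable def ol_v1 : Lv := ⟨(nat_lit 1, [], nat_lit 0), nat_lit 1, [], [], [], [[nat_lit 4]], nat_lit 12, nat_lit 4095, (nat_lit 30146624), nat_lit 1⟩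
theorem ol_v1_ok : L22.orbChk (fun q => q) L22.n oc_V (ol_v0.e :: []) ol_v1 (fun _ => true) = true := by decide +kernel
noncomputable def ol_v2 : Lv := ⟨(nat_lit 0, [], nat_lit 0), nat_lit 0, [], [], [], [[nat_lit 5]], nat_lit 12, nat_lit 4095, (nat_lit 36438016), nat_lit 1⟩
theorem ol_v2_ok : L22.orbChk (fun q => q) L22.n oc_V (ol_v1.e :: ol_v0.e :: []) ol_v2 (fun _ => true) = true := by decide +kernel
noncomputable def ol_v3 : Lv := ⟨(nat_lit 3, [], nat_lit 0), nat_lit 3, [], [], [], [[nat_lit 1, nat_lit 4]], nat_lit 12, nat_lit 4095, (nat_lit 28049600), nat_lit 1⟩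
theorem ol_v3_ok : L22.orbChk (fun q => q) L22.n oc_V (ol_v2.e :: ol_v1.e :: ol_v0.e :: []) ol_v3 (fun _ => true) = true := by decide +kernel
noncomputable def ol_v4 : Lv := ⟨(nat_lit 6, [], nat_lit 0), nat_lit 6, [], [], [], [[nat_lit 3, nat_lit 4], [nat_lit 0, nat_lit 2, nat_lit 5]], nat_lit 12, nat_lit 4095, (nat_lit 0x98801802ed00604b4cbb40), nat_lit 3⟩
theorem ol_v4_ok : L22.orbChk (fun q => q) L22.n oc_V (ol_v3.e :: ol_v2.e :: ol_v1.e :: ol_v0.e :: []) ol_v4 (fun _ => true) = true := by decide +kernel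
noncomputable def os_sg_T : ℕ := (nat_lit 0xdb5db4db3db0dafdaddacdaada9da7da6da5da4da2da1d9dd9cd9bd94d92d8cd8ad82d7cd78d6cd6ad68d48d46d36d14ccdca6ca5c6ec5dc51c38c1cc19c15bf5bf2befbcfbb9bb6bb5bb4bafbaebadb8cb74b71b6cb66b61b5eb5db5ab56b55b4fb4eb4bb43b42b41b2cb29b21b1cb19b15b10b08b03af3aecae4addad6acfac6ac0aa2a8ea85a7ca76a73a6ca6ba6aa67a4fa4ca4ba40a3fa3ea3da36a27a26a24a20a1da1ca129f59f09ef9e59e09db9d79d49d19d09c99c89c29c09be9bc9bb9b69ab99699499399298f98796996295e95c95a94f94a91591190d8f48f38ee8e68e28d98d58d48cf8cd8c08b48b38b28b08a88a68a188688488387e87787086a86786685885285184784383f83b83a83882e8288278268228188178058028018007f57f27da7d97d17d07bf7a878577377277176f76b76575f75974c74574173771671571370f70e70c7037026fe6fb6f96ed6e66e56e46e16dd6db6d76cf6ce6c76bc6bb6ae68e68d68563c63a63662a6216176065f95f85f35f05ec5e95de5ca5c75c25bd5bb5ba5b95b85ae5a659158e58d5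8758653f53152251c50d50a4ee4e54e44e34e14d84c64c54c44be4a94a849947746943b43543442642341941640b3fb3fa3e73e53bb3ba3b93ac3a538d38c38b38037e37836536336236136033f33e33d33733533233032b3263233083043022ff2ef2e02d72d52c92c72c22c02bf2bd2bc2bb2ba2b92b82b72b62b52b12ae2ac2a82a72a129c29b29929829729429028f28e28d28b27f27e27d27c27b27a27327226a26626526126025d25825525425224924624524323f23323022222122021d21a2182032011f01ec1d31d01b91a618e0f20ac09208b08808407f07307106d05905704903601601100e00c00b00a009008007005004002001000)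
noncomputable def os_sg (q : ℕ) : ℕ := pk os_sg_T (nat_lit 12) (nat_lit 4095) q
theorem os_sg_vw : viewChk (nat_lit 3510) os_sg (nat_lit 438) = true := by decide +kernel
noncomputable def oS_W : List (List ℕ) := [[nat_lit 10, nat_lit 9, nat_lit 2, nat_lit 0, nat_lit 3, nat_lit 7, nat_lit 4, nat_lit 3, nat_lit 7, nat_lit 8], [nat_lit 9, nat_lit 2, nat_lit 0, nat_lit 5, nat_lit 2, nat_lit 1, nat_lit 2, nat_lit 5, nat_lit 1, nat_lit 9, nat_lit 2, nat_lit 1, nat_lit 0, nat_lit 1, nat_lit 2, nat_lit 5, nat_lit 1, nat_lit 0, nat_lit 1, nat_lit 5, nat_lit 9, nat_lit 3, nat_lit 7, nat_lit 4, nat_lit 3, nat_lit 8], [nat_lit 1, nat_lit 0, nat_lit 9, nat_lit 5, nat_lit 1, nat_lit 0, nat_lit 1, nat_lit 5, nat_lit 6, nat_lit 7, nat_lit 1, nat_lit 3, nat_lit 5, nat_lit 2, nat_lit 1, nat_lit 2, nat_lit 5, nat_lit 6, nat_lit 4, nat_lit 3, nat_lit 5, nat_lit 2,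 nat_lit 1, nat_lit 2, nat_lit 5, nat_lit 7, nat_lit 6, nat_lit 3, nat_lit 7, nat_lit 4, nat_lit 3, nat_lit 7, nat_lit 6], [nat_lit 1, nat_lit 8, nat_lit 7, nat_lit 5, nat_lit 2, nat_lit 1, nat_lit 2, nat_lit 5, nat_lit 6, nat_lit 9, nat_lit 0, nat_lit 2, nat_lit 9, nat_lit 6, nat_lit 8], [nat_lit 2], [nat_lit 2, nat_lit 0, nat_lit 9, nat_lit 5, nat_lit 1, nat_lit 0, nat_lit 1, nat_lit 5, nat_lit 6, nat_lit 7, nat_lit 3, nat_lit 8, nat_lit 9, nat_lit 4, nat_lit 7, nat_lit 6, nat_lit 3, nat_lit 5, nat_lit 2, nat_lit 1, nat_lit 2, nat_lit 5, nat_lit 7, nat_lit 6, nat_lit 3, nat_lit 5, nat_lit 2, nat_lit 1, nat_lit 2, nat_lit 5, nat_lit 4, nat_lit 3, nat_lit 7, nat_lit 6, nat_lit 9, nat_lit 5, nat_lit 1, nat_lit 0, nat_lit 1, nat_lit 5, nat_lit 9, nat_lit 7, nat_lit 8, nat_lit 2], [nat_lit 2, nat_lit 5, nat_lit 1, nat_lit 0, nat_lit 1, nat_lit 5, nat_lit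 2, nat_lit 1, nat_lit 0, nat_lit 1, nat_lit 2, nat_lit 9, nat_lit 7, nat_lit 4], [nat_lit 3, nat_lit 7, nat_lit 4, nat_lit 3, nat_lit 2, nat_lit 9, nat_lit 3, nat_lit 7, nat_lit 4, nat_lit 3], [nat_lit 1, nat_lit 3, nat_lit 9, nat_lit 4, nat_lit 3, nat_lit 2, nat_lit 1, nat_lit 0, nat_lit 1, nat_lit 2, nat_lit 3, nat_lit 4, nat_lit 7, nat_lit 3, nat_lit 2, nat_lit 1, nat_lit 0, nat_lit 1, nat_lit 2, nat_lit 3, nat_lit 7, nat_lit 9, nat_lit 4, nat_lit 7, nat_lit 3, nat_lit 4, nat_lit 7, nat_lit 5, nat_lit 2, nat_lit 1, nat_lit 7], [nat_lit 8, nat_lit 9, nat_lit 0, nat_lit 8, nat_lit 9, nat_lit 7, nat_lit 4, nat_lit 8], [nat_lit 1, nat_lit 2, nat_lit 3, nat_lit 7, nat_lit 4, nat_lit 3, nat_lit 2, nat_lit 3, nat_lit 7, nat_lit 4, nat_lit 3, nat_lit 4, nat_lit 6, nat_lit 7, nat_lit 5, nat_lit 6, nat_lit 1, nat_lit 5, nat_lit 2, nat_lit 1, nat_lit 0,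 nat_lit 1, nat_lit 2, nat_lit 5, nat_lit 1, nat_lit 6, nat_lit 5, nat_lit 6, nat_lit 7, nat_lit 6, nat_lit 1, nat_lit 8], [nat_lit 8, nat_lit 9, nat_lit 6, nat_lit 7, nat_lit 5, nat_lit 6, nat_lit 3, nat_lit 2, nat_lit 1, nat_lit 5, nat_lit 4, nat_lit 3, nat_lit 2, nat_lit 1, nat_lit 0, nat_lit 1, nat_lit 2, nat_lit 3, nat_lit 4, nat_lit 5, nat_lit 1, nat_lit 2, nat_lit 3, nat_lit 6, nat_lit 5, nat_lit 7, nat_lit 6, nat_lit 9, nat_lit 8], [nat_lit 5, nat_lit 2, nat_lit 7], [nat_lit 4], [nat_lit 2, nat_lit 3, nat_lit 7, nat_lit 4, nat_lit 3, nat_lit 2, nat_lit 3, nat_lit 7, nat_lit 4, nat_lit 3], [nat_lit 8, nat_lit 5, nat_lit 2, nat_lit 3, nat_lit 7, nat_lit 1, nat_lit 4, nat_lit 3, nat_lit 5, nat_lit 2, nat_lit 1, nat_lit 2, nat_lit 5, nat_lit 9, nat_lit 2, nat_lit 1, nat_lit 0, nat_lit 1, nat_lit 2, nat_lit 5, nat_lit 1, nat_lit 0, nat_lit 1,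 nat_lit 5, nat_lit 9, nat_lit 3, nat_lit 7, nat_lit 4, nat_lit 3, nat_lit 8], [nat_lit 5, nat_lit 2, nat_lit 0, nat_lit 9, nat_lit 7, nat_lit 3, nat_lit 9, nat_lit 8, nat_lit 0, nat_lit 9, nat_lit 1, nat_lit 2, nat_lit 3, nat_lit 7, nat_lit 4, nat_lit 3, nat_lit 2, nat_lit 1, nat_lit 0, nat_lit 1, nat_lit 2, nat_lit 3, nat_lit 4, nat_lit 7, nat_lit 3, nat_lit 2, nat_lit 1, nat_lit 9, nat_lit 0, nat_lit 8, nat_lit 9, nat_lit 8, nat_lit 9, nat_lit 0, nat_lit 3], [nat_lit 7, nat_lit 4]]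
noncomputable def oS_T : List ℕ := [(nat_lit 0x343a9d267741a2d3e7b3f99d8ebf6796cbe6f39b4d86635b9adaecb5da6d2eaf51a3d56b2e189b9df5724ab04d0a735b48e06b3e1bcdabd67aa896acda55d444d3db74b8612f6da8948a11b2a8a42b69b0aff3c13d709171213ea0f8d89bd30e415d8f8a23ac10a283578008c76975e42c8b1f66c6f156b9046531665d2652c4c27872f2f67fb9472225b5362b775f10c7e4094d8eed2c2207f1cd8c8299af91be39de186c7884790317b8c7b6c87e205d47542a5ad8c8f31af56a6653d1aa7486130b8b580908f81ac4ca051226caea5539d8b251658749abe32b46557ab561dd27f94c98a8522da7531ee1d6e5bd8ec5b1542b70139a7862c84e276c961421506634c952a35409c3bb008c98d2d5ae1572c84178b69d9f2b13c1dcd57e249fd5846c1ded02928c3edea945f9c936ca4132ca083869d0d64e0f22d12a37145cfa7e57a3e8b4978d1aa8957eb811172864aaeb33620622c859cb266eef40495f07b2d040ea8e48bf0c687454c01c55041882a0d4d24c0c5f3d058e2793205c320b089800e6f2e958d200259f10cd29d52284e4a227dbd432c4296f0982ad24eb396bfa292491c2244c16047170d5763c9a8d068b3db2dd76b99d4f375ba2b4e96737eb30688c423b21822814b5d0d99ccc7009984d8652e0081e0a2c804da6e0d178d00c0a0240a0401848b657),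 (nat_lit 0x20d1d90c1452281a2dd68d9ad34842d1680f4782074ba88ce81211c9322608a8662d2a0c5a948765f61b8e843fad10996d9b273ecac2a4914aa896ad5f5fcf04f5c614b8612fa4d15df46b2553294d9bdbadb51134f71ed5c34eae8f289bd1e784866303a3a7fe8e7f4b801103f2cb7dd88b7972bd9d76b904665453b945d884e278723f1bc13347222ba8d92ebc8b62e578562b720ec3118ec854791bc322dab639d524a1f6d3371217ccb397c9343864d6b2d4e764881562f57e6653de2e07e8fc86407c6cb6b816338e3d032690550a66c585f2e1c443dae2e1c0d653778ac2e822c1be8357a2a05323451b1ad66380b156ea10142ccf4f3064ce45652456a355acc9529ef4e65b1d7a836555e51527ddef6778bfa51eb2549a451d6ad6a01f9aec1ac8ec8f572bd5a7e55a3270ee51b88a0895da1d344c0f208e4884da5924818c25542d353a89487d5823516b65caf9749c4c859308464279b6aa3bab1207b3e040c8783fac4c66b39a741c15041c4aa003a1a80c7a2f860c4793a85c960b089a40e5d37958c00d0c968cd96b8e1e855d5027dbd43364d33f60d0e7a4f04af4db2169b3cd74ba688c7170fab862ae799d7b3b2edd76b7f6189c6ec7359867b9ab39d6044349a959d114ae40d99d0c6d0a15cb0652e00834092c830e06e07978d00109828060402848b661),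 (nat_lit 0x18b52b2af578977842e0ea894b69b0d770a9952d6ba5dadf808acb2ef91afad68ec39dd4d1095410cb0c723ebe4ec8f459f95e45572b546ee6fb719d933253888e55939a96cf8459abd689c5a512e284b08eacd0fd0136c741b2b1ef5880992518c732c190287d24bc668e445818d6ae32252672096502e5c09f13306a0fc82137bc6a1c2fc42823d03761fd6fa6c3a51f681d61b052b459c11f8fe98e432a21058e5a52548c5aea51abb7ae4110c92c47b01659e1480263b65e10110e86c2b1aa11909d1bb4db7556ed643a4eb19cf64d1cc23339b50a954403b9ca14813ac50a8d0b1453bea937a26046014436948443bc19cb327759216cfa1f5c4eeac792617cbac1de89b5d8ee8f4f9dd11607052b05ba552e3e490a734b0c8f2806524526caaab5ef32467456b37972d3cee64ac25c1ed4816e2f0a018d8cf425490eaa9b2d9ad907bb1d68f1b249d9eba57a41441b53a0d41a60b9e60eaf34d0cb3a768ab0913c0424d7baafe31cfc893f13a15fa025f1a11c39519e9eaf96d0dd0e40500f5714b6ab62fe786080010bb0d7c1d01ec6ac024b61a37b268a87705181cf43c4cd606a4826976b9be81c2efd4727926c48652a2e652e589446b4e2354ea1c9530dcf1b58212c998ccc814e33d9c0e2e7a8330c40d0c18e3eff30cfe9e16c11b4af5ba0de40a7901958013e),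 (nat_lit 0x31570b9e370d8f95e270f909ada6d15eb3e4f2b669b4d2c360b253729717d63b0b8cc5e11a0ea6cacdb03d832d05b05608a0534b152de452167115be975fd643edd5933c72e65dad616bc2a41c68335cb0956ed2237842d21e3454ce887301d2496b080383088122d4cc8789c4ca846aa45f279940ab50493445afa35134db61e0e932391e5c38c9a2550ea1949e6d11c8c246453d36c7190bb38968eaf586afadb71f39bda14c6ef7113346b3f80c0076b04c31533b37b5029950b1d5d74b6a4ebb6bb29b8ac6d4aa7396371a1d6b562ad480c660ac9044d5c23d168148a770b2ef9a7d5928843e6360e06509f2722caabd5fad98886dc87f74baddb55ac861008641c0de225587abf13af892b9ddebea95b87192bfb82a991a3d1677411651abe52b15ed92e298bba7333b6b12532a8ae009d1741ddede4f28bedfb1894211e0f1b2d4cfc783f9d91f38429de586b39220e88039859048e49244d47d43a2d14753d84cf28c4d28cf88149a54344b079a02a184a224286537000ce5a31824320c0097014592f190b60d2a958c314cce694aa07227eb94336e75e59ea43adff19d26874ba9d367da8ecb5e0a3f97cb6635f2d91d56493d9e55a11b1d83fa1509974bea2f3bede5ab3a7a5768544091c4ae86089b0e0693d06c1c1737840cc6004174c4060581c0a0201810be58),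 (nat_lit 0x351a2d1eab4da9d0e9f59adcdecb61b5d76c73598d9ed35f9ccbe672da0d5e973da4cfe772b94c9deae590c7e3b1b8cc5e2b1363c3e1b0b84a6546c554bfd06ad5bbde4a7b4aa3526bf37b9e46e370a2dbadb5097cfed368b3d9a5564c4606c360bad7abb1fbe48a4f1b935f633808bc5b056c89c4a9b8387de2ed48865dedf44a1d0afd03b5406f2ff86cea50fdba4da6b348c3ddf8f5b5bd25af195d95df39acd5ddd2491d69d4e7ae395d2edac38eab33a9d49c114a7d39bedea5b7277476dc2a130869b49a2cfa03367ccc9e3fa713164be990e29931a612e79bca58c494c9638ec75c863ac1903023ce48d3e17d1588c41710e85ad96ebb5d2e5aad483c1a0ab4822ce0500582c5f6f9563d954f053b09d0e65fb8548a26c35dacdd6cb6942d0672c994cb4f2713ac755b15329861a594abd48af16aa04fabd5aae4825152a846a99149a44a15469b422312e8e40255267f40a19248f3c1dd0e8b441d0e67c3d9bcf283411acea7e3e9a8d2703d19cda6c3b1c8e26537198d06431980c2622e970be5e2c968b6582b958aa4729948a25027938744c2592868482a0c4602e2190882401f8f85429139344a381b8d86a491208c8c4511110422c158f478201d87c7233190bc5a28130783a1c0d84c3218080582a0f0d0481c170a0441a0a04030020b0301c0a04018081200),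 (nat_lit 0x2c0ea74cd6c23524cb64970913cf1748b98f89185cf67f44c12a0cf4796d7e533837cd91b1b05c555a2c40b3bf859906c94b2a1ac9c29a1b16fa959cf0021b076666139a84cfa2d51c0efd73c47bada32c80486119631f3a21b562ba48d4ba0da895632a200266ce89407b52ac580bb4b01a51339a753557bcbd89b286dcaeb5c93c709c7a0e9642c18860ad4ea18b8b7542852335b68dc9533595fcd596a6b62582533a7150c741884fb9f5615058403eb9a3d4b2229874f864190503e93379c0ff0d8e714af08266653e4d0fa190530965d8f0ecbe030457444da882ef7494b4ebb68108908fb42f60cc13da7289f96fbd391411b7c3eec8938c2386d667e8e0a74dc0de0be683a1c9549c41b96613b51dec682e0dbba729a463251255214cd0e4a13db920af3c1a8fcb0094a12b254024a20f56b205293c5c32d3c9b35aa50b3145a296b0761af17aae3ba5d22d76c2a1b47353095c2c74421216c556a3cfe7b3216cf8b17c9f4acc86520a975babb1a7e4d4eab0ca13008bdc6793ab72a06e2e032c732ac18c2830a096a3f9dd2e248b7eb6088a03a7fe6332d27465cc36baf6c213698434647148c9c0dba65bbb1691dd0ace421e0e411d7876a3eae2f288b009f5a7a15e6936beda8737cbf82304dd89b7af31281db4de5d0bc01db1e310380f20809c40abf01aae0559),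 (nat_lit 0x1e53a6abaf0b84c3521e72385493292d8a536c9618442726feb459b2ad47662f192bc7e39d0d0ad559dfb490b07571d836834703d148a0ab4bedb2d77255bff031f61466d4f494caa2f16d531359a8c02c97f79c1e0b36ead9ba66ed266cb9b3adaa6709950a890c74f6a052ac546c8d26833c8052da355a74bde22da93c2a61d0f0727b57ae482b73fb28d1fb28706cb5db58c469f8f8c95307b745bc32eb3912c0a663c100d8a4ccbf43c584d9931af0eebbc36ec219f438642f8f44a59154c11c92465f0dc6a26c449a9ee7be09270c998e9d90e2ac38e617a140aa8f5fa2c947254149047e408088db84e7bbd5b73b2211444e546aa890e1522a0623353928843e1d87ec7137cac5f6b05646d756f85dec562eb6ae56cc561a592e3029a657a3813db93ccb6531d3a9cbfa85aed36b368a0a2402a54c5127abd20ae56a056abb83af10a8b462290e9b39a25b09548a3924774a12d266a3e9fd469a35a09087c3c9c4f6723a220ea763c23cd2163d04030153f20cde170706422642b180005d3101cbe0b0316810550698ccd69cc65dc89f52a822144366970fa4c6e25daced0e9b3f9dcf6a6e17373375bdb0cd6bf6390af2cecf278e4126b99cb4d26d6088b01718a67d65f5716fd0abb4309050b070341b50c0f0d06cca6e0999cc20a2e00418592f16c0a02018101257),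 (nat_lit 0x36399cbe6b6baece6c331a4cee974fa6d4ea355accfe7b41a1d1e8b57afcb6cb69add9e6f1571c6cba778fc857b27679a656cd12b45a66d60b5dfafb15bfe0b0379bdbd2f919bb5de196fa6c372964ba5badb1fc1bff0d87c6625e170a7559f584a3e389d509e89044f672d8a94e0a954e835c80d8ee72f66d568c53afd266e512813ea2dc9e44eb73fc89491c92a2e16578b404692893a664895299ab12588c17c790e421f0cc62ccb64986830634caf08b8b45f00489f6204e258140ee5755a90c823f5e0a4542e8743e9ee7b51010a9a51d85068a71d61137a1c0dddf6578a048a361a91892478007eae4c7ba5553541d8e4754050b6040da6b35c582b510f07a212208e9720479f922783b46d872a62b08a8265fa652f075b2e5744d142ee162d192c8e88444208e46b55a9dc2a6552a03c8d7db4db61d0e1fcd4773ebf17c965ea61c531984e1927365ce549288c3e1eaaf9292dfab07cab9dd334f329367c3d988f2c84e31ceab1482b4be183002c2c1556274ba07040640c64319e81a6f3885cd210089681c5500158b0c1a44ea8943a157570e4434b5d314743a9dacf8549212fe8448da2d26fb75bcf3793b1d71d912ce431c93c1168d56a4160cb788b02215a67565a0d973295409f0d830cc702f1b4d80905048b65c00964c21a3704c2867341940a04018081e57),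 (nat_lit 0x2c966b4536c134b3e52c384c762ee78595beae370c663f0f86c56371395c9cd6bd36b4e4337adce58905afd1e833fa2d467b430fceeaf55a7bd5e6f0f955dfa337cbde0f05815723d587dd22c74da957db97f6c7a5ab33b4cb6cd95b2b1e4b5d9a4465e8951a8425db32abcba5e7341b1eb95b73b976b4aa5d313b054d9d0d75d4fa967ecda0b32793d65c89a6d6646c3639846d6150dbaad59a07ed61dd5ac55c4396cd968b55d9007fc09a9108dc6afab5481fcecd280c0e091cc4498d4784aba9d15a49521e7118947a27208fba52cba5e69652997bbd97b6b832dd387242386b31d5a3fa1508a7b7e9ca063362629e73375bcdc9ca2e5b3851b8983219848e29246733e813ea3d494f49b2b8deab04a30a74b3b6a02511849c951d2775bf1f6f2602caeb17bbdbf0172bfa1512ee99a32848a6d2690ee4a1bc66ee09da85fa9140be20e975cc2d7cc4ba2ed92a96baa94d915121949547857d869895456ec752b17cc70d8b4b0f94577d4ce26137994ae6ca3430c0592f198dc5a3c988e0693d19cba5b2e190d058369ec9643101189850278749a512a8a4a42d158b07423198a86854188a06a370f91444211e91c783f2009882301789c7c49121288448170c84a36220e4a6381d8789c1c010282a160386032130a0102210048200001058681e0e0b8180a120186c180d),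 (nat_lit 0x36b9ccdecb63b0ccebb5bacd1eab53a8d3e9b4ba4d5e833da2cee873fb4d9e6b5f98cb65ca4381609dc0fe20105aa43254e9d9406a0fc843e0fb74890dbf8e99e22bd8eeb2238b45e58c475c55e6f2955bada3973116102b850da8a37818b8a72378c26851017ba6f30181411673ba4d1970257b4386a268f0caa6fa77d4acb43a25749b881846e4f1caa62a312578492292d94481f0fb604466975245be19339eb367136b047583326f52e453c9f3319d39bb5dee535633725d5c72d3b01295459ebd6970c1a0b56b1d5eb0e376e41dce2985215b3173d3d92dfb8dc2bf37a3bf5ff89b9ba2b4ea7bdae1ea5803f20f917a47f05124c315b2c35ea5f1b875f349a2d0bec664d1a4db1dea9d6544db5746c30a432f5fb4daea953a911b515baa94cb4aaac95890572bdf2b155ad9790b5dad5c8ba49a652c9f50271909e65a5544db6b285348a51a1d12b03ea2d7280472512282491c10273392210a8c3b9d91e7c3d868f26a3f9f8ea6b4220c28860985cd86d3a1e01e11081841c6431830cc0a0482c0208039680c572c1580031b0e54a0512713e821e0c62c492b2311ed581c66171d8fc36107a3cbd5fad994b259a9a331a528a93fadd885b93b40a85228c9532a049bc5f04220c1930381d0d9e81a4b370542c7137848d0673499432622f180be5c2d9640a0401808ba55),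 (nat_lit 0x34fabd06b16f0590eab51b2da6b9a5addab41b2d1cde71d3b3ad3a1d5a2d1ad2450660c771985c7d8988ecc9da21395b0c22150e7f59b2964c1bff03465fdf2fb7ebddea3f789dbc692e08a4de4923a3db9576ab5db1ab8e6a61a1984b1e4b16f28bce9c951ade7ddb32abcba5f1696436b9509f336574aa5d32eb34b7e0252a0a1d0a82e59fd3e793dbbd7a4afbb93cdd7484ad6126fcaad59f553a6bbe8a878843e7371b86675f20bcc4b2cb88d46e32e2afd51e17389c7a092793622a56546e271b8a53e6361118140e0300c161d47309c4b4d68b7b3dd34f49b582ed159523ab3909ae77439e6639a815d6346173746fb75bcdc5b2674abc4b2d6d3675d6a749a667b3a9ce7579a924ac3c38d43915330b2eb3bfaa944d85434dc31cd8b6dad9a602c93a8865a6ce8c8b6af92ebb83b0d4a987eaf58b444fa3d627d573d5b4a454b5e668998b250a824f3ba16817c20128b0941b1227f3b241188a421c938643c97cf6c739a0cb4ad3b9f8de613896cae867cb28c06734160b87c2b174e0693d164c465371d4bc663698caa4925100984f280745e512594ca835188cc8a44160e06c52158dc5a281d8e872421f1049024230988e252689c7a431f880423c170c8603411888522a0f8709c1e020683200040342a010600822100781c2c13058281217070180a1b018482818),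 (nat_lit 0x36a332a6cb63b08eebb5bac236ab53a8d3e9b4ba423891d24974569d43418e6a459860c847f9420e4b22ec1b0b2122bc5c21fc0e8514b0b84c1c730380bf8c2fa25bddea2178bbddaeb74b9dcae370b7dbada2fb593674436a102cb6408d8ac360afb542d591ce7ab8600855aab54a9d49da220996e9b4c05d2a9348a3d1a8a18258548a651d031bcdd9dda502809bcda6b34491a5269497cba5b2c95caa52878f85d192491e672c0f9397b5f823117632858bc5a2b140d16623790401e1b0c46e1f1b8a53c1a0b043419c14095c6251689453e9f2a3389bd34f479bc9e2f077a3aa39075e77439f0a398b80d2fa4576e06fcf678064ba65b2be4b262bd6761b49a2d067b38dc0165b292ac8639e944c469b0b2ec05fb6142aa70a9950ff5baa548b459ac962b057ab95aac55af16cb983ae832b57c3157a002aa793a9c4dbd5b4d66db5d933098ccdc49047bba17257ebedf88894142308441a0a73383f9f8fa7c3db18f2783b9d8ea74399c9ee517b3349c4f359aa65038107a806431c6c995871c7a34e5a716a241c0e9593fb329e18e086361b6d461a192b4048d1eae8244b410b2766ca8f87a3c1dcfeb6381be3c6b9cda0cb377eb60b85b8ec60a852281389af9a211d4042200f998ae580dc4d4b449357684e7a784ac75790621c93ea5c06010f873700a040180998a0),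 (nat_lit 0x35b9ccdebb319accecb6ba8d1e9f4bacd569353a6d5e833da2cee873fb4d9ec35fb1cb65ed164b35321b5ec763f1386c261f1b26c5632578bbd47ef0e0bfdb2336abde0dff81a4d1a8f457d4eee1719bdbadb7e7a5f2cf95b4e4d8994abd2a9b3486642bb519fba5dae3b1d56ad158b45eb94173b96c3926e58aeeebbaddae944a1d0aa0cdadb32793db9351f6fcb7cd66d607ab19fb18974be46efc2bc1e2c98e621c51496c758313c144a45278d46efb30a954ea9249047980b88743f235f51421fd0a50ad16eb38140e0101bcc2663389cdcd38ee7b3de676b793ce532a963e2b2d5a43a2b4eaa7b7e9ce4ac4952d8073375bd4b5e2e5a2ba5dad9d93a5ab41b2d26733e813e5624250ae584c91b655230a43115fa994edb6bb61b51082b59a706822c936c74eb213ccb55a5d30995eaf94ac34742e0ea04fab55ef958a4950a9553850e8545a6918ca35a8d8a9149a05006a4aa1928763b9e11489391cce87c3d9a4f28241a10ea7d3f1fcde7038994da6c47a20f46734198dc6431974c25f30164c45b2e168bc582b958aa311a8aca250279384a4c258f848422311c44231f92080412192840210f8e474371c0b0a6331a0b8a82f180c85236290a05a2a1309c9a4922114783d1d8783a1c0d83c3218070582a130a04820110d05c1a010302414070402c0a04018081800),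 (nat_lit 0x34fabd06b353a6cfea355b2da6b763aedaec3319ace66f2fb3d7e5b33a3d16933ba5d0e7b1985c7e4ae98dc9d9b2195b0d9ebd88b4da3294dc1e0b0365bfdfafb7cbddeaf378a3d7e9391b04de6d359ddbadb6cb5dab0f86c563b012bb1d8b1773bb626bb5cadc86b358abd5aab2a964a6a350a7d3b094ca5d2aeb2dbbc321b44a1d0a83409fcfa7b3cb7c2a4b18b95c6e0fa7ecc9eafc97cba9153b2552a4ee93c9a72f375baab5208fc79d11c8dc6a333878bbde0f289c4a231087c3a8b466bce9d8d46d365a10481c0a03007fb566730714d194c97bbda62f4924522f158b4a1db0991c89831d73b99cae471bed8ac46fb79badc5d41e0cbc85ad5fd085b2dd690567b399acc57be5f0b156b19c2e054b09d2c05faa950d85136d42b86934dacd159ac9909e65a6d8e9d55af986bd4ca5d4a984aaed72a04fac158905724d4ea45323546894d22d149c4421d2c8149245288f47219007f3f1f518854220d047c3d9e8f274399c8ea783b9d8e270379b8da6c351acd26833998ca6431988c2602f978ba5c2d968b2582b958aa492510ca250279389a4c2594ca8371a0cc8a44290e06c2c158d45a281d8e87242241047c47230c84830178b87a401f884403c138984a311188854290f8783a1c0d86832180b8582a14098482210078381a0c058281208038180a04018080200),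 (nat_lit 0x365b3da6d73598cb6b75da7d06a349aad66974da9d168f3babcf67f439bce6c72fb0ccebf2b94c9d89c190c7e3b1b8cc5e2b130ec3e1b0b84bc5e6f50dbfdf1e97ebde0705838b45e58c4b9c56e370955badb6a8cdb2d368b3d9a8b646e64ac36078d7abb3ca0ba1bac6a5cba5f3ba4d1a7b3f9f5029b4aabd32a74877d4acb44a1d0ab74ea853ea35caa4e91885784da6b3445b8d3489aad5a5b7595dbe188e5c43d032491b063b007fc0a43107b3ded680bb5dee51480c0e091c9362301294cc2a13084b4160d118947a27208fbf9249448be8f0958d46d277d79bcabf37a3a1dbcec75ba5d55a663399ae499229439167bb6b36354a35a0a453aa9aad453345a4d96fb99cae7421d1468335d6173745d30a44b35fad576985eb0d8b275a25d7cb7602c8fc8f3f9dcd47655b59b6a26bb4d4ad864aa1c2a04fa20e48239cc616bc5b41df0fc7abf5f67d584a1b53999b8a609e7721a70cb642724b1857ac5207c3d980f2f9572b0eaca4da74ba7031170da6c63ab4be592f198b664319bcc27a3499ce26e32968d0582b958aa3329948a250279385e4c259288c4812124723b2190882401f8f8783d220888a381b8d86a312a09868252689c502c158a4542d170c860470f8e84021118783a1c0d8283218040582a01060480c0b0481c1a13080681e17070440a04018082800),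 (nat_lit 0x7849230f5a4d9ad080422d2a0a96e291441a0ab4188d2443390c75822423b45d2d0753a06c3815e49e3081f90da841253b2750e6a900843ec1bff030cbfdaafb6cbddea3f78953122b1775cb1e6f28b5badb7cb5df9fc2c8494a8c376e588a72370429413da86bdbce3a5d5aab479bd16795b73d006b4cabd29e0faaa596a4e452a7e7f4ea0b32b95177e25128aa9c92292d51b190e8c97cba6972245de1a938843d2936b06873f13bcc0b3cb88d46e3291ba5beeb359040e23279362253804cd7acf904b69b4b048947a0101c15a52a8140520f0927b3dd1cf4b8dc323499da69bb8ab9e5f3396a7b999b44ac215435f6fd65db6354a3760a453aab0f8d536c7359867b39cb3e421d1168335cc973765d30b3ac05fad576985eb0d8b1cd4a5d7da459ac8fc8f3f9dcd47655b59b6a26bb4e86d899aa1c35da1220e48239bba16bc5b41dfb25943e2307d583d5b53064ce2729e98999c4cb64271f8fb57ac5207c3d9a4f2f9572b0eaca4da74de6138970ae5863ab4f4592f218b66431974e05f3019cc46e32968d06c369582babb0d98981e0e07460510ce2f692bcdecc7444c76171986c7e1365b51d9144594b26569ba2d00cb464d128bb5968c9eab51a7138985f9c118e75bae0f9409c4f0d83c960d04000aa130a0480c0b0d01c3001080241417070440a04018081816),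 (nat_lit 0x365b4d9ed73598d7eb75da7d5ea349aad66974da9d1e8b43a0cfe7b3b9ccdec733b0cbe5b2b61c9e4abf90c7e3b1b8cc2e2b1326c3e1b172bc1de70329bfdf2fb7ebddeb0578b7dd2e576b85d5f573bbdbadb6ab5db2d368b3d9aa54dabd8b2935c8d79c93ca0d69bb32b1d5aaaef785967b3f66396c94c6e52a6ef39dd168ca04fa96b6cda839ea35ca3cea7338a4cd2c13699d62633097cba4915c245b01285c6224b2d8a48a43017fc4a3b107bbda3318624aa59238047a231c8743e190d85c2a130883c160d048140e41138fbf9fafc7ddc55af88dc69eaf4a43adc153aa3b9bcec793a9d2e89f39a9d5d63389c2f16fbb6b34b6db69a0d86bb59aad469b45a4d967b3a814f4db1d929d6538d8b1761b0982c05faf97abc5dae973275a2d96ab759ac95890572bdf2b155aa952a853a9a84a451a894344a1a71909e65a6932984ba592a9449a4922b03ea391a8c45a291282439610a733922102803b9d91e7c3d97cf26a3f9f8ea6b4220cc4572e994c2663a1e0c067341b0dc64319c4da693d164de5b2e168bc863815896541c1483a1c0f1305e4e2a908923e2391872442192882401f920783d1d8888a531a8d86e34198c86225268b8502c158a4542d138986024118e840210f93ca2500d8242a0007034320c0084820110505c2c140303c34070402c0a04018082618),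 (nat_lit 0x365b3da6d73598cb6b75da7d06a349aad66974da9d168f3babcf67f439bce6c72fb0ccebf2761cae4abf67c661b158fc2e370f88c4e3b172bc1e0b0329bfdfafb7cbddeaf378b7dd2e576b85d5f573bbdbadb6cb5daabd66c85a2a54db1d8b2935c8da6bb5cadba2b358abd5aaaef78596a350a7d3ac94ca5d2a6ef39dd168d44a1d0a83409fcfa7b3ca3b5660e2a4cd2c13664cc9dd3997cba4915c245b00f593c99f92d8a3063b208fc7a431c8dc6a32fb624aa592389c4a231087c3a190d83bfa110985c160d0481c0a03007fc29f1258c5c55afd7bbda50f4a43adc153aa4c5dad4793a5d55a73b99cae471ce150f16fb79badc69b5da0d66d36274ec6db45a4d967b399acc4db1e669d653197b174bb0a44c05fa618ab55cad976b85a2e978b759ac95890572bdf2b155a914ce146aa54aaa45a8544a04fa71909e65a1d2cbe61a6524814725500b03ea4d4e8951a1518824d21914733922128913b9d91e7c3d9e8f26a3f9f8ea6b4220ce270379b8da6c3a1e0d26833998ca6431988c2602f978ba5c2d968b2582b958aa331c0b0a250279389a4c259088c3e121248a44201287e4320920783d1d8e872531a8ac6e312a0c86830178b850521b0a4542d138984a471188840210f8783a1c0d86832180b8582a14098482210078381a0c058281208038180a04018080200)]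
noncomputable def oS : LD := ⟨nat_lit 438, nat_lit 18, nat_lit 0, fun i p => pk (nth (nat_lit 0) oS_T i) (nat_lit 9) (nat_lit 511) p, nth (nat_lit 0) [], [nat_lit 0, nat_lit 1, nat_lit 2, nat_lit 3, nat_lit 4, nat_lit 5, nat_lit 85, nat_lit 86, nat_lit 18, nat_lit 106]⟩
theorem oS_s0 : allL (LA22.subChk os_sg oS_W oS) [nat_lit 0, nat_lit 1, nat_lit 2, nat_lit 3, nat_lit 4, nat_lit 5, nat_lit 6, nat_lit 7, nat_lit 8, nat_lit 9, nat_lit 10, nat_lit 11, nat_lit 12, nat_lit 13, nat_lit 14, nat_lit 15, nat_lit 16, nat_lit 17] = true := by decide +kernel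
theorem oS_s : ∀ i < oS.r, LA22.subChk os_sg oS_W oS i = true := allL_cover [[nat_lit 0, nat_lit 1, nat_lit 2, nat_lit 3, nat_lit 4, nat_lit 5, nat_lit 6, nat_lit 7, nat_lit 8, nat_lit 9, nat_lit 10, nat_lit 11, nat_lit 12, nat_lit 13, nat_lit 14, nat_lit 15, nat_lit 16, nat_lit 17]] (by
  simp only [List.forall_mem_cons]
  exact ⟨oS_s0, by simp⟩) (by decide +kernel)
theorem oS_p : LA22.subPt os_sg oS_W [] oS = true := by decide +kernel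
theorem oS_b : LA22.subBs os_sg oS [(nat_lit 0, ([], nat_lit 0)), (nat_lit 1, ([], nat_lit 1)), (nat_lit 2, ([], nat_lit 2)), (nat_lit 4, ([], nat_lit 4)), (nat_lit 5, ([], nat_lit 5)), (nat_lit 7, ([], nat_lit 7)), (nat_lit 693, ([], nat_lit 8)), (nat_lit 694, ([], nat_lit 9)), (nat_lit 109, ([nat_lit 3, nat_lit 7, nat_lit 4, nat_lit 3], nat_lit 2)), (nat_lit 776, ([nat_lit 0, nat_lit 9, nat_lit 6, nat_lit 1, nat_lit 5, nat_lit 3, nat_lit 2, nat_lit 1], nat_lit 0))] [(nat_lit 1, nat_lit 9, nat_lit 6, nat_lit 832, ([nat_lit 9, nat_lit 6, nat_lit 7, nat_lit 2, nat_lit 1, nat_lit 5, nat_lit 3, nat_lit 2, nat_lit 1], nat_lit 0)), (nat_lit 1, nat_lit 10, nat_lit 5, nat_lit 830, ([nat_lit 0, nat_lit 9, nat_lit 5, nat_lit 6, nat_lit 1, nat_lit 5, nat_lit 3, nat_lit 2, nat_lit 1], nat_lit 0)), (nat_lit 1, nat_lit 0, nat_lit 2, nat_lit 780, ([nat_lit 9,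 nat_lit 5, nat_lit 6, nat_lit 1, nat_lit 5, nat_lit 3, nat_lit 2, nat_lit 1], nat_lit 0)), (nat_lit 1, nat_lit 0, nat_lit 2, nat_lit 68, ([nat_lit 7], nat_lit 3)), (nat_lit 1, nat_lit 9, nat_lit 0, nat_lit 3, ([], nat_lit 3)), (nat_lit 1, nat_lit 14, nat_lit 7, nat_lit 829, ([nat_lit 0, nat_lit 9, nat_lit 6, nat_lit 2, nat_lit 1, nat_lit 5, nat_lit 3, nat_lit 2, nat_lit 1], nat_lit 0)), (nat_lit 1, nat_lit 0, nat_lit 6, nat_lit 779, ([nat_lit 9, nat_lit 6, nat_lit 2, nat_lit 1, nat_lit 5, nat_lit 3, nat_lit 2, nat_lit 1], nat_lit 0)), (nat_lit 1, nat_lit 0, nat_lit 6, nat_lit 79, ([nat_lit 7], nat_lit 6)), (nat_lit 1, nat_lit 13, nat_lit 0, nat_lit 6, ([], nat_lit 6))] = true := by decide +kernel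
theorem oS_pc : pcChk oS.eqW 2 0 18 18 [[nat_lit 0x0, nat_lit 0x1130a20718107, nat_lit 0xb24814205, nat_lit 0x38d30920718308, nat_lit 0x38402, nat_lit 0x44f38d20506, nat_lit 0x40f38d30a24608, nat_lit 0x45038c24706, nat_lit 0x113ce34c28807, nat_lit 0x1030903, nat_lit 0x40f38a04, nat_lit 0x44f34b04, nat_lit 0x38c02, nat_lit 0xd01, nat_lit 0xe01, nat_lit 0x1140f03, nat_lit 0x45002, nat_lit 0x1101], [nat_lit 0x0, nat_lit 0x0, nat_lit 0x4503cb28914208, nat_lit 0x1138d30920718309, nat_lit 0x38402, nat_lit 0x40f38d28506, nat_lit 0x113ce34a24607, nat_lit 0x44e24704, nat_lit 0x113ce34c28807, nat_lit 0x901, nat_lit 0x40f38a04, nat_lit 0xb01, nat_lit 0x1138c03, nat_lit 0x44d02, nat_lit 0xe01, nat_lit 0x1140f03, nat_lit 0x1001, nat_lit 0x1101], [nat_lit 0x0, nat_lit 0x0, nat_lit 0x0, nat_lit 0x1140f34c2ca20309, nat_lit 0xe1c403, nat_lit 0x44e30504, nat_lit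 0x1140f34c20607, nat_lit 0x103cd30705, nat_lit 0x40802, nat_lit 0x4503ce34c2c908, nat_lit 0x3ca02, nat_lit 0x44f34b04, nat_lit 0xf34c03, nat_lit 0xd01, nat_lit 0x4503ce04, nat_lit 0xf01, nat_lit 0x45002, nat_lit 0x1101], [nat_lit 0x0, nat_lit 0x0, nat_lit 0x0, nat_lit 0x0, nat_lit 0x44d30404, nat_lit 0x40f38b20506, nat_lit 0x601, nat_lit 0xd30703, nat_lit 0x40f34804, nat_lit 0x4503ce30906, nat_lit 0x113ca03, nat_lit 0x44f34b04, nat_lit 0xc01, nat_lit 0xd01, nat_lit 0x44e02, nat_lit 0xf01, nat_lit 0x45002, nat_lit 0x1101], [nat_lit 0x0, nat_lit 0x0, nat_lit 0x0, nat_lit 0x0, nat_lit 0x0, nat_lit 0x40d30b24506, nat_lit 0x44d30604, nat_lit 0x701, nat_lit 0x38d30804, nat_lit 0x901, nat_lit 0x38a02, nat_lit 0xb01, nat_lit 0xc01, nat_lit 0xd01, nat_lit 0xe01, nat_lit 0xf01, nat_lit 0x1001, nat_lit 0x1101], [nat_lit 0x0, nat_lit 0x0, nat_lit 0x0, nat_lit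 0x0, nat_lit 0x0, nat_lit 0x0, nat_lit 0x40e34b28606, nat_lit 0x1140e34c2c707, nat_lit 0x34802, nat_lit 0x1140f38905, nat_lit 0x113ca03, nat_lit 0x1140b03, nat_lit 0x103cc03, nat_lit 0xd01, nat_lit 0x40e02, nat_lit 0x44f02, nat_lit 0x1001, nat_lit 0x1101], [nat_lit 0x0, nat_lit 0x0, nat_lit 0x0, nat_lit 0x0, nat_lit 0x0, nat_lit 0x0, nat_lit 0x0, nat_lit 0x1140f38d30707, nat_lit 0x45034804, nat_lit 0x1140f38905, nat_lit 0x103ca03, nat_lit 0x1140b03, nat_lit 0xc01, nat_lit 0xd01, nat_lit 0x44e02, nat_lit 0x44f02, nat_lit 0x1001, nat_lit 0x1101], [nat_lit 0x0, nat_lit 0x0, nat_lit 0x0, nat_lit 0x0, nat_lit 0x0, nat_lit 0x0, nat_lit 0x0, nat_lit 0x0, nat_lit 0x1034803, nat_lit 0x901, nat_lit 0x4503ca04, nat_lit 0xb01, nat_lit 0xc01, nat_lit 0xd01, nat_lit 0xe01, nat_lit 0xf01, nat_lit 0x1001, nat_lit 0x1101], [nat_lit 0x0, nat_lit 0x0, nat_lit 0x0,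 nat_lit 0x0, nat_lit 0x0, nat_lit 0x0, nat_lit 0x0, nat_lit 0x0, nat_lit 0x0, nat_lit 0x3c902, nat_lit 0x44a02, nat_lit 0xb01, nat_lit 0x44c02, nat_lit 0xd01, nat_lit 0x44e02, nat_lit 0xf01, nat_lit 0x1001, nat_lit 0x1101], [nat_lit 0x0, nat_lit 0x0, nat_lit 0x0, nat_lit 0x0, nat_lit 0x0, nat_lit 0x0, nat_lit 0x0, nat_lit 0x0, nat_lit 0x0, nat_lit 0x0, nat_lit 0x1140a03, nat_lit 0xb01, nat_lit 0xc01, nat_lit 0xd01, nat_lit 0xe01, nat_lit 0xf01, nat_lit 0x1001, nat_lit 0x1101], [nat_lit 0x0, nat_lit 0x0, nat_lit 0x0, nat_lit 0x0, nat_lit 0x0, nat_lit 0x0, nat_lit 0x0, nat_lit 0x0, nat_lit 0x0, nat_lit 0x0, nat_lit 0x0, nat_lit 0xb01, nat_lit 0x44c02, nat_lit 0xd01, nat_lit 0xe01, nat_lit 0xf01, nat_lit 0x1001, nat_lit 0x1101], [nat_lit 0x0, nat_lit 0x0, nat_lit 0x0, nat_lit 0x0, nat_lit 0x0, nat_lit 0x0, nat_lit 0x0, nat_lit 0x0, nat_lit 0x0, nat_lit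 0x0, nat_lit 0x0, nat_lit 0x0, nat_lit 0xc01, nat_lit 0xd01, nat_lit 0xe01, nat_lit 0xf01, nat_lit 0x1001, nat_lit 0x1101], [nat_lit 0x0, nat_lit 0x0, nat_lit 0x0, nat_lit 0x0, nat_lit 0x0, nat_lit 0x0, nat_lit 0x0, nat_lit 0x0, nat_lit 0x0, nat_lit 0x0, nat_lit 0x0, nat_lit 0x0, nat_lit 0x0, nat_lit 0xd01, nat_lit 0xe01, nat_lit 0xf01, nat_lit 0x1001, nat_lit 0x1101], [nat_lit 0x0, nat_lit 0x0, nat_lit 0x0, nat_lit 0x0, nat_lit 0x0, nat_lit 0x0, nat_lit 0x0, nat_lit 0x0, nat_lit 0x0, nat_lit 0x0, nat_lit 0x0, nat_lit 0x0, nat_lit 0x0, nat_lit 0x0, nat_lit 0xe01, nat_lit 0xf01, nat_lit 0x1001, nat_lit 0x1101], [nat_lit 0x0, nat_lit 0x0, nat_lit 0x0, nat_lit 0x0, nat_lit 0x0, nat_lit 0x0, nat_lit 0x0, nat_lit 0x0, nat_lit 0x0, nat_lit 0x0, nat_lit 0x0, nat_lit 0x0, nat_lit 0x0, nat_lit 0x0, nat_lit 0x0, nat_lit 0xf01, nat_lit 0x1001, nat_lit 0x1101],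 [nat_lit 0x0, nat_lit 0x0, nat_lit 0x0, nat_lit 0x0, nat_lit 0x0, nat_lit 0x0, nat_lit 0x0, nat_lit 0x0, nat_lit 0x0, nat_lit 0x0, nat_lit 0x0, nat_lit 0x0, nat_lit 0x0, nat_lit 0x0, nat_lit 0x0, nat_lit 0x0, nat_lit 0x1001, nat_lit 0x1101], [nat_lit 0x0, nat_lit 0x0, nat_lit 0x0, nat_lit 0x0, nat_lit 0x0, nat_lit 0x0, nat_lit 0x0, nat_lit 0x0, nat_lit 0x0, nat_lit 0x0, nat_lit 0x0, nat_lit 0x0, nat_lit 0x0, nat_lit 0x0, nat_lit 0x0, nat_lit 0x0, nat_lit 0x0, nat_lit 0x1101], [nat_lit 0x0, nat_lit 0x0, nat_lit 0x0, nat_lit 0x0, nat_lit 0x0, nat_lit 0x0, nat_lit 0x0, nat_lit 0x0, nat_lit 0x0, nat_lit 0x0, nat_lit 0x0, nat_lit 0x0, nat_lit 0x0, nat_lit 0x0, nat_lit 0x0, nat_lit 0x0, nat_lit 0x0, nat_lit 0x0]] [nat_lit 0x45038a2481c608, nat_lit 0x40902, nat_lit 0x44f38d30b28808, nat_lit 0x40f38d04, nat_lit 0x0, nat_lit 0xc2ca03, nat_lit 0x103ce34c05,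 nat_lit 0x0, nat_lit 0x1101, nat_lit 0x0, nat_lit 0x0, nat_lit 0x0, nat_lit 0x0, nat_lit 0x0, nat_lit 0x0, nat_lit 0x0, nat_lit 0x0, nat_lit 0x0] = true := by decide +kernel
noncomputable def os_v0 : Lv := ⟨(nat_lit 0, [], nat_lit 0), nat_lit 0, [], [], [], [[nat_lit 3, nat_lit 4, nat_lit 5, nat_lit 6], [nat_lit 1, nat_lit 2, nat_lit 4, nat_lit 7]], nat_lit 9, nat_lit 511, (nat_lit 0xac800025d640c112c00b60806f05800cb7807f86408180013d40c0b19e800558c089028034c4806e1a4004b7002ed6412e1740061700070300310380371880009b800380400312c1808180344040991a0008cc808004402cc000631640a7e0819353c07b4980a03d8073d00087b9c07bc3c0a73dc08f0581304780a598000d52c08106802fc080ab97c007d5c038b781329c400999400404c03782002d9bc00a16c00b85000806418984002f44c071978005b8c09002c033c800ac19c09f3fc1874f808dc38072c6c0663940c433008d620066c680b640c1265b001113000f0880be078028df001c9440280e40ae9e81ae574052d7008e29405047009ea800a1cf405c50c0a0d8c1365040269b002b93409f95c02c4fc0181600368c000a82818f85400c47c06e86002ab740bc954006de40768340bf44810edf802287400e1140b50700275a801d1380278e80a21a41a8d1004fd44093a7c07249c09e3900a14f00885080a8370143540012a180308940ad98403356c0179980380bc0),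 nat_lit 127⟩
theorem os_v0_ok : oS.orbChk (fun q => q) oS.n (lets 18) ([]) os_v0 (fun _ => true) = true := by decide +kernel
noncomputable def os_v1 : Lv := ⟨(nat_lit 1, [], nat_lit 0), nat_lit 1, [], [], [], [[nat_lit 12, nat_lit 13], [nat_lit 8, nat_lit 10, nat_lit 15], [nat_lit 4, nat_lit 12, nat_lit 13], [nat_lit 0, nat_lit 3, nat_lit 13, nat_lit 17]], nat_lit 9, nat_lit 511, (nat_lit 0x600400a00410985000500420482800782810d03c00880430804400304410581800b84420705c00385c10401c0), nat_lit 15⟩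
theorem os_v1_ok : oS.orbChk (fun q => q) oS.n (lets 18) (os_v0.e :: []) os_v1 (fun _ => true) = true := by decide +kernel
noncomputable def os_v2 : Lv := ⟨(nat_lit 2, [], nat_lit 0), nat_lit 2, [], [], [], [[nat_lit 10, nat_lit 12, nat_lit 16], [nat_lit 8, nat_lit 10, nat_lit 14, nat_lit 15]], nat_lit 9, nat_lit 511, (nat_lit 0x900800200810d8100), nat_lit 3⟩
theorem os_v2_ok : oS.orbChk (fun q => q) oS.n (lets 18) (os_v1.e :: os_v0.e :: []) os_v2 (fun _ => true) = true := by decide +kernel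
noncomputable def os_v3 : Lv := ⟨(nat_lit 32, [], nat_lit 0), nat_lit 32, [], [], [], [[nat_lit 17], [nat_lit 13], [nat_lit 3, nat_lit 6, nat_lit 9]], nat_lit 9, nat_lit 511, (nat_lit 0x108800148801150a401a0802188d00238d011211c0), nat_lit 7⟩
theorem os_v3_ok : oS.orbChk (fun q => q) oS.n (lets 18) (os_v2.e :: os_v1.e :: os_v0.e :: []) os_v3 (fun _ => true) = true := by decide +kernel
noncomputable def os_v4 : Lv := ⟨(nat_lit 3, [], nat_lit 0), nat_lit 3, [], [], [], [[nat_lit 0, nat_lit 1, nat_lit 3, nat_lit 6, nat_lit 13, nat_lit 14, nat_lit 15]], nat_lit 9, nat_lit 511, (nat_lit 164032), nat_lit 1⟩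
theorem os_v4_ok : oS.orbChk (fun q => q) oS.n (lets 18) (os_v3.e :: os_v2.e :: os_v1.e :: os_v0.e :: []) os_v4 (fun _ => true) = true := by decide +kernel
noncomputable def os_v5 : Lv := ⟨(nat_lit 86, [], nat_lit 0), nat_lit 86, [], [], [], [[nat_lit 6, nat_lit 7, nat_lit 8, nat_lit 10, nat_lit 12, nat_lit 14, nat_lit 16]], nat_lit 9, nat_lit 511, (nat_lit 4035968), nat_lit 1⟩
theorem os_v5_ok : oS.orbChk (fun q => q) oS.n (lets 18) (os_v4.e :: os_v3.e :: os_v2.e :: os_v1.e :: os_v0.e :: []) os_v5 (fun _ => true) = true := by decide +kernel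
noncomputable def oS_l : List (List ℕ) := [[nat_lit 0, nat_lit 3, nat_lit 8, nat_lit 12, nat_lit 15], [nat_lit 0, nat_lit 3, nat_lit 8, nat_lit 12, nat_lit 13, nat_lit 15], [nat_lit 0, nat_lit 3, nat_lit 4, nat_lit 8, nat_lit 15], [nat_lit 0, nat_lit 3, nat_lit 4, nat_lit 8, nat_lit 13, nat_lit 15], [nat_lit 0, nat_lit 3, nat_lit 4, nat_lit 8, nat_lit 13, nat_lit 15, nat_lit 17], [nat_lit 0, nat_lit 3, nat_lit 4, nat_lit 8, nat_lit 11], [nat_lit 0, nat_lit 3, nat_lit 4, nat_lit 8, nat_lit 11, nat_lit 13], [nat_lit 0, nat_lit 1, nat_lit 9], [nat_lit 0, nat_lit 1, nat_lit 9, nat_lit 15, nat_lit 16], [nat_lit 0, nat_lit 1, nat_lit 9, nat_lit 14], [nat_lit 0, nat_lit 1, nat_lit 9, nat_lit 10], [nat_lit 0, nat_lit 1, nat_lit 7, nat_lit 9], [nat_lit 0, nat_lit 1, nat_lit 4, nat_lit 9], [nat_lit 0, nat_lit 1, nat_lit 3, nat_lit 7], [nat_lit 0, nat_lit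 1, nat_lit 3, nat_lit 7, nat_lit 13, nat_lit 15], [nat_lit 0, nat_lit 1, nat_lit 3, nat_lit 7, nat_lit 13, nat_lit 15, nat_lit 16], [nat_lit 0, nat_lit 1, nat_lit 3, nat_lit 7, nat_lit 11], [nat_lit 0, nat_lit 1, nat_lit 3, nat_lit 6, nat_lit 13], [nat_lit 0, nat_lit 1, nat_lit 3, nat_lit 6, nat_lit 13, nat_lit 15], [nat_lit 0, nat_lit 1, nat_lit 3, nat_lit 6, nat_lit 12], [nat_lit 0, nat_lit 1, nat_lit 3, nat_lit 6, nat_lit 9, nat_lit 11, nat_lit 13], [nat_lit 0, nat_lit 1, nat_lit 3, nat_lit 6, nat_lit 8, nat_lit 14], [nat_lit 0, nat_lit 1, nat_lit 3, nat_lit 5], [nat_lit 0, nat_lit 1, nat_lit 3, nat_lit 4, nat_lit 15], [nat_lit 0, nat_lit 1, nat_lit 3, nat_lit 4, nat_lit 11, nat_lit 15], [nat_lit 0, nat_lit 1, nat_lit 3, nat_lit 4, nat_lit 6, nat_lit 13], [nat_lit 0, nat_lit 1, nat_lit 2, nat_lit 3, nat_lit 9, nat_lit 12]]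
noncomputable def oS_t : List TS := [⟨nat_lit 1, nat_lit 0x44f3080c006, nat_lit 18, nat_lit 1, nat_lit 1, nat_lit 0x30a02, nat_lit 0x0, []⟩, ⟨nat_lit 1, nat_lit 0x113cd3080c007, nat_lit 18, nat_lit 1, nat_lit 3, nat_lit 0x30a02, nat_lit 0x0, []⟩, ⟨nat_lit 1, nat_lit 0x44f2040c006, nat_lit 18, nat_lit 1, nat_lit 5, nat_lit 0xf1c103, nat_lit 0x0, []⟩, ⟨nat_lit 1, nat_lit 0x44b2040c006, nat_lit 18, nat_lit 1, nat_lit 9, nat_lit 0xf3081c605, nat_lit 0x0, []⟩, ⟨nat_lit 1, nat_lit 0x1134b2040c007, nat_lit 18, nat_lit 1, nat_lit 11, nat_lit 0xf3081c605, nat_lit 0x0, []⟩, ⟨nat_lit 1, nat_lit 0x44904004, nat_lit 18, nat_lit 1, nat_lit 13, nat_lit 0x1001, nat_lit 0x0, []⟩, ⟨nat_lit 2, nat_lit 0x40904004, nat_lit 18, nat_lit 1, nat_lit 17, nat_lit 0x0, nat_lit 0x0, []⟩, ⟨nat_lit 2, nat_lit 0x1140904005, nat_lit 18, nat_lit 1, nat_lit 17, nat_lit 0x0, nat_lit 0x0, []⟩, ⟨nat_lit 2, nat_lit 0x3c904004, nat_lit 18, nat_lit 1, nat_lit 17, nat_lit 0x0, nat_lit 0x0, []⟩, ⟨nat_lit 2, nat_lit 0x113c904005, nat_lit 18, nat_lit 1, nat_lit 17, nat_lit 0x0, nat_lit 0x0, []⟩, ⟨nat_lit 1, nat_lit 0x4503c904006, nat_lit 18, nat_lit 1, nat_lit 19, nat_lit 0x1001, nat_lit 0x0, []⟩, ⟨nat_lit 1, nat_lit 0x1138904005, nat_lit 18, nat_lit 1, nat_lit 21, nat_lit 0x1001, nat_lit 0x0, []⟩, ⟨nat_lit 2, nat_lit 0x1038904005, nat_lit 18, nat_lit 1, nat_lit 17, nat_lit 0x0, nat_lit 0x0, []⟩, ⟨nat_lit 2, nat_lit 0x45038904006, nat_lit 18, nat_lit 1, nat_lit 17, nat_lit 0x0, nat_lit 0x0, []⟩, ⟨nat_lit 1, nat_lit 0x1128904005, nat_lit 18, nat_lit 1, nat_lit 25, nat_lit 0x1001, nat_lit 0x0, []⟩, ⟨nat_lit 2, nat_lit 0x1028904005, nat_lit 18, nat_lit 1, nat_lit 17, nat_lit 0x0, nat_lit 0x0, []⟩, ⟨nat_lit 2, nat_lit 0x45028904006, nat_lit 18, nat_lit 1, nat_lit 17, nat_lit 0x0, nat_lit 0x0, []⟩, ⟨nat_lit 1, nat_lit 0x1124704005, nat_lit 18, nat_lit 1, nat_lit 29, nat_lit 0x1001, nat_lit 0x0, []⟩, ⟨nat_lit 2, nat_lit 0x1024704005, nat_lit 18, nat_lit 1, nat_lit 17, nat_lit 0x0, nat_lit 0x0, []⟩, ⟨nat_lit 2, nat_lit 0x45024704006, nat_lit 18, nat_lit 1, nat_lit 17, nat_lit 0x0, nat_lit 0x0, []⟩, ⟨nat_lit 1, nat_lit 0x1124404005, nat_lit 18, nat_lit 1, nat_lit 33, nat_lit 0x1001, nat_lit 0x0, []⟩, ⟨nat_lit 2, nat_lit 0x1024404005, nat_lit 18, nat_lit 1, nat_lit 17, nat_lit 0x0, nat_lit 0x0, []⟩, ⟨nat_lit 2, nat_lit 0x45024404006, nat_lit 18, nat_lit 1, nat_lit 17, nat_lit 0x0, nat_lit 0x0, []⟩, ⟨nat_lit 1, nat_lit 0x111c304005, nat_lit 18, nat_lit 1, nat_lit 37, nat_lit 0xf01, nat_lit 0x0, []⟩, ⟨nat_lit 2, nat_lit 0xf1c304005, nat_lit 18, nat_lit 1, nat_lit 17, nat_lit 0x0, nat_lit 0x0, []⟩, ⟨nat_lit 2, nat_lit 0x44f1c304006, nat_lit 18, nat_lit 1, nat_lit 17, nat_lit 0x0, nat_lit 0x0, []⟩, ⟨nat_lit 2, nat_lit 0x40f1c304006, nat_lit 18, nat_lit 1, nat_lit 17, nat_lit 0x0, nat_lit 0x0, []⟩, ⟨nat_lit 2, nat_lit 0x1140f1c304007, nat_lit 18, nat_lit 1, nat_lit 17, nat_lit 0x0, nat_lit 0x0, []⟩, ⟨nat_lit 2, nat_lit 0xd1c304005, nat_lit 18, nat_lit 1, nat_lit 17, nat_lit 0x0, nat_lit 0x0, []⟩, ⟨nat_lit 2, nat_lit 0x44d1c304006, nat_lit 18, nat_lit 1, nat_lit 17, nat_lit 0x0, nat_lit 0x0, []⟩, ⟨nat_lit 1, nat_lit 0x113cd1c304007, nat_lit 18, nat_lit 1, nat_lit 45, nat_lit 0xf01, nat_lit 0x0, []⟩, ⟨nat_lit 1, nat_lit 0x4503cd1c304008, nat_lit 18, nat_lit 1, nat_lit 47, nat_lit 0xf01, nat_lit 0x0, []⟩, ⟨nat_lit 1, nat_lit 0x44b1c304006, nat_lit 18, nat_lit 1, nat_lit 49, nat_lit 0xf01, nat_lit 0x0, []⟩, ⟨nat_lit 2, nat_lit 0x3cb1c304006, nat_lit 18, nat_lit 1, nat_lit 17, nat_lit 0x0, nat_lit 0x0, []⟩, ⟨nat_lit 2, nat_lit 0x113cb1c304007, nat_lit 18, nat_lit 1, nat_lit 17, nat_lit 0x0, nat_lit 0x0, []⟩, ⟨nat_lit 2, nat_lit 0x18304004, nat_lit 18, nat_lit 1, nat_lit 17, nat_lit 0x0, nat_lit 0x0, []⟩, ⟨nat_lit 2, nat_lit 0x1118304005, nat_lit 18, nat_lit 1, nat_lit 17, nat_lit 0x0, nat_lit 0x0, []⟩, ⟨nat_lit 2, nat_lit 0xf18304005, nat_lit 18, nat_lit 1, nat_lit 17, nat_lit 0x0, nat_lit 0x0, []⟩, ⟨nat_lit 2, nat_lit 0x44f18304006, nat_lit 18, nat_lit 1, nat_lit 17, nat_lit 0x0, nat_lit 0x0, []⟩, ⟨nat_lit 1, nat_lit 0x44d18304006, nat_lit 18, nat_lit 1, nat_lit 57, nat_lit 0xd01, nat_lit 0x0, []⟩, ⟨nat_lit 1, nat_lit 0x113cd18304007, nat_lit 18, nat_lit 1, nat_lit 59, nat_lit 0xd01, nat_lit 0x0, []⟩, ⟨nat_lit 1, nat_lit 0x44c18304006, nat_lit 18, nat_lit 1, nat_lit 61, nat_lit 0xd01, nat_lit 0x0, []⟩, ⟨nat_lit 2, nat_lit 0x34c18304006, nat_lit 18, nat_lit 1, nat_lit 17, nat_lit 0x0, nat_lit 0x0, []⟩, ⟨nat_lit 2, nat_lit 0x1134c18304007, nat_lit 18, nat_lit 1, nat_lit 17, nat_lit 0x0, nat_lit 0x0, []⟩, ⟨nat_lit 2, nat_lit 0x2c918304006, nat_lit 18, nat_lit 1, nat_lit 17, nat_lit 0x0, nat_lit 0x0, []⟩, ⟨nat_lit 2, nat_lit 0x112c918304007, nat_lit 18, nat_lit 1, nat_lit 17, nat_lit 0x0, nat_lit 0x0, []⟩, ⟨nat_lit 1, nat_lit 0x44d2c918304008, nat_lit 18, nat_lit 1, nat_lit 67, nat_lit 0xd01, nat_lit 0x0, []⟩, ⟨nat_lit 2, nat_lit 0x818304005, nat_lit 18, nat_lit 1, nat_lit 17, nat_lit 0x0, nat_lit 0x0, []⟩, ⟨nat_lit 2, nat_lit 0x44818304006, nat_lit 18, nat_lit 1, nat_lit 17, nat_lit 0x0, nat_lit 0x0, []⟩, ⟨nat_lit 1, nat_lit 0x1138818304007, nat_lit 18, nat_lit 1, nat_lit 71, nat_lit 0xe01, nat_lit 0x0, []⟩, ⟨nat_lit 1, nat_lit 0x1114304005, nat_lit 18, nat_lit 1, nat_lit 73, nat_lit 0xd01, nat_lit 0x0, []⟩, ⟨nat_lit 2, nat_lit 0xd14304005, nat_lit 18, nat_lit 1, nat_lit 17, nat_lit 0x0, nat_lit 0x0, []⟩, ⟨nat_lit 2, nat_lit 0x44d14304006, nat_lit 18, nat_lit 1, nat_lit 17, nat_lit 0x0, nat_lit 0x0, []⟩, ⟨nat_lit 2, nat_lit 0x10304004, nat_lit 18, nat_lit 1, nat_lit 17, nat_lit 0x0, nat_lit 0x0, []⟩, ⟨nat_lit 2, nat_lit 0x1110304005, nat_lit 18, nat_lit 1, nat_lit 17, nat_lit 0x0, nat_lit 0x0, []⟩, ⟨nat_lit 1, nat_lit 0x44f10304006, nat_lit 18, nat_lit 1, nat_lit 79, nat_lit 0xf01, nat_lit 0x0, []⟩, ⟨nat_lit 2, nat_lit 0xb10304005, nat_lit 18, nat_lit 1, nat_lit 17, nat_lit 0x0, nat_lit 0x0, []⟩, ⟨nat_lit 2, nat_lit 0x44b10304006, nat_lit 18, nat_lit 1, nat_lit 17, nat_lit 0x0, nat_lit 0x0, []⟩, ⟨nat_lit 1, nat_lit 0x113cb10304007, nat_lit 18, nat_lit 1, nat_lit 83, nat_lit 0xf01, nat_lit 0x0, []⟩, ⟨nat_lit 2, nat_lit 0x610304005, nat_lit 18, nat_lit 1, nat_lit 17, nat_lit 0x0, nat_lit 0x0, []⟩, ⟨nat_lit 2, nat_lit 0x44610304006, nat_lit 18, nat_lit 1, nat_lit 17, nat_lit 0x0, nat_lit 0x0, []⟩, ⟨nat_lit 1, nat_lit 0x1134610304007, nat_lit 18, nat_lit 1, nat_lit 87, nat_lit 0xd01, nat_lit 0x0, []⟩, ⟨nat_lit 1, nat_lit 0x113090c204007, nat_lit 18, nat_lit 1, nat_lit 89, nat_lit 0x1001, nat_lit 0x0, []⟩, ⟨nat_lit 2, nat_lit 0x103090c204007, nat_lit 18, nat_lit 1, nat_lit 17, nat_lit 0x0, nat_lit 0x0, []⟩, ⟨nat_lit 2, nat_lit 0x4503090c204008, nat_lit 18, nat_lit 1, nat_lit 17, nat_lit 0x0, nat_lit 0x0, []⟩, ⟨nat_lit 0, nat_lit 0xf3080c005, nat_lit 17, nat_lit 0, nat_lit 0, nat_lit 0x0, nat_lit 0x0, [nat_lit 66, nat_lit 64]⟩, ⟨nat_lit 0, nat_lit 0x3cd3080c006, nat_lit 17, nat_lit 0, nat_lit 0, nat_lit 0x0, nat_lit 0x0, [nat_lit 68, nat_lit 64]⟩, ⟨nat_lit 0, nat_lit 0xf2040c005, nat_lit 17, nat_lit 0, nat_lit 0, nat_lit 0x0, nat_lit 0x0, [nat_lit 70, nat_lit 64]⟩, ⟨nat_lit 0, nat_lit 0x3cd2040c006, nat_lit 17, nat_lit 0, nat_lit 0, nat_lit 0x0, nat_lit 0x0, [nat_lit 72, nat_lit 73]⟩, ⟨nat_lit 0, nat_lit 0xb2040c005, nat_lit 17, nat_lit 0, nat_lit 0, nat_lit 0x0, nat_lit 0x0, [nat_lit 75, nat_lit 65]⟩, ⟨nat_lit 0, nat_lit 0x34b2040c006, nat_lit 17, nat_lit 0, nat_lit 0, nat_lit 0x0, nat_lit 0x0, [nat_lit 77, nat_lit 65]⟩, ⟨nat_lit 0, nat_lit 0x904003, nat_lit 17, nat_lit 0, nat_lit 0, nat_lit 0x0, nat_lit 0x0, [nat_lit 79, nat_lit 65]⟩, ⟨nat_lit 0, nat_lit 0x40904004, nat_lit 17, nat_lit 0, nat_lit 0, nat_lit 0x0, nat_lit 0x0, [nat_lit 65, nat_lit 64]⟩, ⟨nat_lit 0, nat_lit 0x3c904004, nat_lit 17, nat_lit 0, nat_lit 0, nat_lit 0x0, nat_lit 0x0, [nat_lit 64, nat_lit 63]⟩, ⟨nat_lit 0, nat_lit 0x103c904005, nat_lit 17, nat_lit 0, nat_lit 0, nat_lit 0x0, nat_lit 0x0, [nat_lit 83, nat_lit 63]⟩, ⟨nat_lit 0, nat_lit 0x38904004, nat_lit 17, nat_lit 0, nat_lit 0, nat_lit 0x0, nat_lit 0x0, [nat_lit 85, nat_lit 63]⟩, ⟨nat_lit 0, nat_lit 0x1038904005, nat_lit 17, nat_lit 0, nat_lit 0, nat_lit 0x0, nat_lit 0x0, [nat_lit 63, nat_lit 62]⟩, ⟨nat_lit 0, nat_lit 0x28904004, nat_lit 17, nat_lit 0, nat_lit 0, nat_lit 0x0, nat_lit 0x0, [nat_lit 88, nat_lit 62]⟩, ⟨nat_lit 0, nat_lit 0x1028904005, nat_lit 17, nat_lit 0, nat_lit 0, nat_lit 0x0, nat_lit 0x0, [nat_lit 62, nat_lit 61]⟩, ⟨nat_lit 0, nat_lit 0x24704004, nat_lit 17, nat_lit 0, nat_lit 0, nat_lit 0x0, nat_lit 0x0, [nat_lit 91, nat_lit 61]⟩, ⟨nat_lit 0, nat_lit 0x1024704005, nat_lit 17, nat_lit 0, nat_lit 0, nat_lit 0x0, nat_lit 0x0, [nat_lit 61, nat_lit 60]⟩, ⟨nat_lit 0, nat_lit 0x24404004, nat_lit 17, nat_lit 0, nat_lit 0, nat_lit 0x0, nat_lit 0x0, [nat_lit 94, nat_lit 60]⟩, ⟨nat_lit 0, nat_lit 0x1024404005, nat_lit 17, nat_lit 0, nat_lit 0, nat_lit 0x0, nat_lit 0x0, [nat_lit 60, nat_lit 59]⟩, ⟨nat_lit 0, nat_lit 0x1c304004, nat_lit 17, nat_lit 0, nat_lit 0, nat_lit 0x0, nat_lit 0x0, [nat_lit 97, nat_lit 59]⟩, ⟨nat_lit 0, nat_lit 0xf1c304005, nat_lit 17, nat_lit 0, nat_lit 0, nat_lit 0x0, nat_lit 0x0, [nat_lit 59, nat_lit 58]⟩, ⟨nat_lit 0, nat_lit 0x40f1c304006, nat_lit 17, nat_lit 0, nat_lit 0, nat_lit 0x0, nat_lit 0x0, [nat_lit 58, nat_lit 57]⟩, ⟨nat_lit 0, nat_lit 0xd1c304005, nat_lit 17, nat_lit 0, nat_lit 0, nat_lit 0x0, nat_lit 0x0, [nat_lit 57, nat_lit 56]⟩, ⟨nat_lit 0, nat_lit 0x3cd1c304006, nat_lit 17, nat_lit 0, nat_lit 0, nat_lit 0x0, nat_lit 0x0, [nat_lit 102, nat_lit 56]⟩, ⟨nat_lit 0, nat_lit 0x103cd1c304007, nat_lit 17, nat_lit 0, nat_lit 0, nat_lit 0x0, nat_lit 0x0, [nat_lit 104, nat_lit 56]⟩, ⟨nat_lit 0, nat_lit 0xb1c304005, nat_lit 17, nat_lit 0, nat_lit 0, nat_lit 0x0, nat_lit 0x0, [nat_lit 106, nat_lit 56]⟩, ⟨nat_lit 0, nat_lit 0x3cb1c304006, nat_lit 17, nat_lit 0, nat_lit 0, nat_lit 0x0, nat_lit 0x0, [nat_lit 56, nat_lit 55]⟩, ⟨nat_lit 0, nat_lit 0x18304004, nat_lit 17, nat_lit 0, nat_lit 0, nat_lit 0x0, nat_lit 0x0, [nat_lit 55, nat_lit 54]⟩, ⟨nat_lit 0, nat_lit 0xf18304005, nat_lit 17, nat_lit 0, nat_lit 0, nat_lit 0x0, nat_lit 0x0, [nat_lit 54, nat_lit 53]⟩, ⟨nat_lit 0, nat_lit 0xd18304005, nat_lit 17, nat_lit 0, nat_lit 0, nat_lit 0x0, nat_lit 0x0, [nat_lit 111, nat_lit 53]⟩, ⟨nat_lit 0, nat_lit 0x3cd18304006, nat_lit 17, nat_lit 0, nat_lit 0, nat_lit 0x0, nat_lit 0x0, [nat_lit 113, nat_lit 53]⟩, ⟨nat_lit 0, nat_lit 0xc18304005, nat_lit 17, nat_lit 0, nat_lit 0, nat_lit 0x0, nat_lit 0x0, [nat_lit 115, nat_lit 53]⟩, ⟨nat_lit 0, nat_lit 0x34c18304006, nat_lit 17, nat_lit 0, nat_lit 0, nat_lit 0x0, nat_lit 0x0, [nat_lit 53, nat_lit 52]⟩, ⟨nat_lit 0, nat_lit 0x2c918304006, nat_lit 17, nat_lit 0, nat_lit 0, nat_lit 0x0, nat_lit 0x0, [nat_lit 52, nat_lit 51]⟩, ⟨nat_lit 0, nat_lit 0xd2c918304007, nat_lit 17, nat_lit 0, nat_lit 0, nat_lit 0x0, nat_lit 0x0, [nat_lit 119, nat_lit 51]⟩, ⟨nat_lit 0, nat_lit 0x818304005, nat_lit 17, nat_lit 0, nat_lit 0, nat_lit 0x0, nat_lit 0x0, [nat_lit 51, nat_lit 50]⟩, ⟨nat_lit 0, nat_lit 0x38818304006, nat_lit 17, nat_lit 0, nat_lit 0, nat_lit 0x0, nat_lit 0x0, [nat_lit 122, nat_lit 50]⟩, ⟨nat_lit 0, nat_lit 0x14304004, nat_lit 17, nat_lit 0, nat_lit 0, nat_lit 0x0, nat_lit 0x0, [nat_lit 124, nat_lit 50]⟩, ⟨nat_lit 0, nat_lit 0xd14304005, nat_lit 17, nat_lit 0, nat_lit 0, nat_lit 0x0, nat_lit 0x0, [nat_lit 50, nat_lit 49]⟩, ⟨nat_lit 0, nat_lit 0x10304004, nat_lit 17, nat_lit 0, nat_lit 0, nat_lit 0x0, nat_lit 0x0, [nat_lit 49, nat_lit 48]⟩, ⟨nat_lit 0, nat_lit 0xf10304005, nat_lit 17, nat_lit 0, nat_lit 0, nat_lit 0x0, nat_lit 0x0, [nat_lit 128, nat_lit 48]⟩, ⟨nat_lit 0, nat_lit 0xb10304005, nat_lit 17, nat_lit 0, nat_lit 0, nat_lit 0x0, nat_lit 0x0, [nat_lit 48, nat_lit 47]⟩, ⟨nat_lit 0, nat_lit 0x3cb10304006, nat_lit 17, nat_lit 0, nat_lit 0, nat_lit 0x0, nat_lit 0x0, [nat_lit 131, nat_lit 47]⟩, ⟨nat_lit 0, nat_lit 0x610304005, nat_lit 17, nat_lit 0, nat_lit 0, nat_lit 0x0, nat_lit 0x0, [nat_lit 47, nat_lit 46]⟩, ⟨nat_lit 0, nat_lit 0x34610304006, nat_lit 17, nat_lit 0, nat_lit 0, nat_lit 0x0, nat_lit 0x0, [nat_lit 134, nat_lit 46]⟩, ⟨nat_lit 0, nat_lit 0x3090c204006, nat_lit 17, nat_lit 0, nat_lit 0, nat_lit 0x0, nat_lit 0x0, [nat_lit 136, nat_lit 46]⟩, ⟨nat_lit 0, nat_lit 0x103090c204007, nat_lit 17, nat_lit 0, nat_lit 0, nat_lit 0x0, nat_lit 0x0, [nat_lit 46, nat_lit 45]⟩, ⟨nat_lit 2, nat_lit 0x3080c004, nat_lit 17, nat_lit 1, nat_lit 16, nat_lit 0x0, nat_lit 0x1101, []⟩, ⟨nat_lit 2, nat_lit 0x103080c005, nat_lit 17, nat_lit 1, nat_lit 16, nat_lit 0x0, nat_lit 0x1101, []⟩, ⟨nat_lit 1, nat_lit 0x40f3080c006, nat_lit 17, nat_lit 1, nat_lit 47, nat_lit 0xf01, nat_lit 0x1101, []⟩, ⟨nat_lit 2, nat_lit 0xd3080c005, nat_lit 17, nat_lit 1, nat_lit 16, nat_lit 0x0, nat_lit 0x1101, []⟩, ⟨nat_lit 2, nat_lit 0x40d3080c006, nat_lit 17, nat_lit 1, nat_lit 16, nat_lit 0x0, nat_lit 0x1101, []⟩, ⟨nat_lit 1, nat_lit 0x103cd3080c007, nat_lit 17, nat_lit 1, nat_lit 49, nat_lit 0xf01, nat_lit 0x1101, []⟩, ⟨nat_lit 2, nat_lit 0x2040c004, nat_lit 17, nat_lit 1, nat_lit 16, nat_lit 0x0, nat_lit 0x1101, []⟩, ⟨nat_lit 2, nat_lit 0x102040c005, nat_lit 17, nat_lit 1, nat_lit 16, nat_lit 0x0, nat_lit 0x1101, []⟩, ⟨nat_lit 1, nat_lit 0x40f2040c006, nat_lit 17, nat_lit 1, nat_lit 51, nat_lit 0xf01, nat_lit 0x1101, []⟩, ⟨nat_lit 2, nat_lit 0xd2040c005, nat_lit 17, nat_lit 1, nat_lit 16, nat_lit 0x0, nat_lit 0x1101, []⟩, ⟨nat_lit 2, nat_lit 0x40d2040c006, nat_lit 17, nat_lit 1, nat_lit 16, nat_lit 0x0, nat_lit 0x1101, []⟩, ⟨nat_lit 1, nat_lit 0x103cd2040c007, nat_lit 17, nat_lit 1, nat_lit 53, nat_lit 0xf01, nat_lit 0x1101, []⟩, ⟨nat_lit 1, nat_lit 0x40b2040c006, nat_lit 17, nat_lit 1, nat_lit 53, nat_lit 0xf01, nat_lit 0x1101, []⟩, ⟨nat_lit 2, nat_lit 0x3cb2040c006, nat_lit 17, nat_lit 1, nat_lit 16, nat_lit 0x0, nat_lit 0x1101, []⟩, ⟨nat_lit 2, nat_lit 0x103cb2040c007, nat_lit 17, nat_lit 1, nat_lit 16, nat_lit 0x0, nat_lit 0x1101, []⟩, ⟨nat_lit 1, nat_lit 0x1034b2040c007, nat_lit 17, nat_lit 1, nat_lit 55, nat_lit 0xf01, nat_lit 0x1101, []⟩, ⟨nat_lit 2, nat_lit 0xf34b2040c007, nat_lit 17, nat_lit 1, nat_lit 16, nat_lit 0x0, nat_lit 0x1101, []⟩, ⟨nat_lit 2, nat_lit 0x40f34b2040c008, nat_lit 17, nat_lit 1, nat_lit 16, nat_lit 0x0, nat_lit 0x1101, []⟩, ⟨nat_lit 1, nat_lit 0x101c304005, nat_lit 17, nat_lit 1, nat_lit 45, nat_lit 0x714103, nat_lit 0x0, []⟩, ⟨nat_lit 1, nat_lit 0x40d1c304006, nat_lit 17, nat_lit 1, nat_lit 43, nat_lit 0x714103, nat_lit 0x1101, []⟩, ⟨nat_lit 1, nat_lit 0x40b1c304006, nat_lit 17, nat_lit 1, nat_lit 41, nat_lit 0x1c602, nat_lit 0x1101, []⟩, ⟨nat_lit 1, nat_lit 0x103cb1c304007, nat_lit 17, nat_lit 1, nat_lit 41, nat_lit 0x1c602, nat_lit 0x0, []⟩, ⟨nat_lit 1, nat_lit 0x1018304005, nat_lit 17, nat_lit 1, nat_lit 41, nat_lit 0xb01, nat_lit 0x1101, []⟩, ⟨nat_lit 1, nat_lit 0x40f18304006, nat_lit 17, nat_lit 1, nat_lit 41, nat_lit 0xb01, nat_lit 0x1101, []⟩, ⟨nat_lit 1, nat_lit 0x40d18304006, nat_lit 17, nat_lit 1, nat_lit 41, nat_lit 0xb01, nat_lit 0x1101, []⟩, ⟨nat_lit 1, nat_lit 0x103cd18304007, nat_lit 17, nat_lit 1, nat_lit 41, nat_lit 0xb01, nat_lit 0x1101, []⟩, ⟨nat_lit 1, nat_lit 0x40c18304006, nat_lit 17, nat_lit 1, nat_lit 41, nat_lit 0xb01, nat_lit 0x1101, []⟩, ⟨nat_lit 1, nat_lit 0x1034c18304007, nat_lit 17, nat_lit 1, nat_lit 41, nat_lit 0xb01, nat_lit 0x1101, []⟩, ⟨nat_lit 2, nat_lit 0xb18304005, nat_lit 17, nat_lit 1, nat_lit 16, nat_lit 0x0, nat_lit 0x0, []⟩, ⟨nat_lit 2, nat_lit 0x40b18304006, nat_lit 17, nat_lit 1, nat_lit 16, nat_lit 0x0, nat_lit 0x0, []⟩, ⟨nat_lit 2, nat_lit 0x3cb18304006, nat_lit 17, nat_lit 1, nat_lit 16, nat_lit 0x0, nat_lit 0x0, []⟩, ⟨nat_lit 2, nat_lit 0x103cb18304007, nat_lit 17, nat_lit 1, nat_lit 16, nat_lit 0x0, nat_lit 0x0, []⟩, ⟨nat_lit 2, nat_lit 0x30b18304006, nat_lit 17, nat_lit 1, nat_lit 16, nat_lit 0x0, nat_lit 0x1101, []⟩, ⟨nat_lit 2, nat_lit 0x1030b18304007, nat_lit 17, nat_lit 1, nat_lit 16, nat_lit 0x0, nat_lit 0x1101, []⟩, ⟨nat_lit 2, nat_lit 0x918304005, nat_lit 17, nat_lit 1, nat_lit 16, nat_lit 0x0, nat_lit 0x0, []⟩, ⟨nat_lit 2, nat_lit 0x40918304006, nat_lit 17, nat_lit 1, nat_lit 16, nat_lit 0x0, nat_lit 0x0, []⟩, ⟨nat_lit 2, nat_lit 0x34918304006, nat_lit 17, nat_lit 1, nat_lit 16, nat_lit 0x0, nat_lit 0x1101, []⟩, ⟨nat_lit 2, nat_lit 0x1034918304007, nat_lit 17, nat_lit 1, nat_lit 16, nat_lit 0x0, nat_lit 0x1101, []⟩, ⟨nat_lit 1, nat_lit 0x102c918304007, nat_lit 17, nat_lit 1, nat_lit 51, nat_lit 0xb01, nat_lit 0x1101, []⟩, ⟨nat_lit 1, nat_lit 0x40d2c918304008, nat_lit 17, nat_lit 1, nat_lit 51, nat_lit 0xb01, nat_lit 0x1101, []⟩, ⟨nat_lit 1, nat_lit 0x40818304006, nat_lit 17, nat_lit 1, nat_lit 51, nat_lit 0xb01, nat_lit 0x1101, []⟩, ⟨nat_lit 1, nat_lit 0x1038818304007, nat_lit 17, nat_lit 1, nat_lit 51, nat_lit 0xb01, nat_lit 0x1101, []⟩, ⟨nat_lit 2, nat_lit 0x2c818304006, nat_lit 17, nat_lit 1, nat_lit 16, nat_lit 0x0, nat_lit 0x0, []⟩, ⟨nat_lit 2, nat_lit 0x102c818304007, nat_lit 17, nat_lit 1, nat_lit 16, nat_lit 0x0, nat_lit 0x0, []⟩, ⟨nat_lit 1, nat_lit 0x1014304005, nat_lit 17, nat_lit 1, nat_lit 53, nat_lit 0xe01, nat_lit 0x1101, []⟩, ⟨nat_lit 2, nat_lit 0xe14304005, nat_lit 17, nat_lit 1, nat_lit 16, nat_lit 0x0, nat_lit 0x1101, []⟩, ⟨nat_lit 2, nat_lit 0x40e14304006, nat_lit 17, nat_lit 1, nat_lit 16, nat_lit 0x0, nat_lit 0x1101, []⟩, ⟨nat_lit 1, nat_lit 0x40d14304006, nat_lit 17, nat_lit 1, nat_lit 55, nat_lit 0xe01, nat_lit 0x1101, []⟩, ⟨nat_lit 2, nat_lit 0x38d14304006, nat_lit 17, nat_lit 1, nat_lit 16, nat_lit 0x0, nat_lit 0x0, []⟩, ⟨nat_lit 2, nat_lit 0x1038d14304007, nat_lit 17, nat_lit 1, nat_lit 16, nat_lit 0x0, nat_lit 0x0, []⟩, ⟨nat_lit 1, nat_lit 0x1010304005, nat_lit 17, nat_lit 1, nat_lit 57, nat_lit 0x28902, nat_lit 0x1101, []⟩, ⟨nat_lit 1, nat_lit 0x40f10304006, nat_lit 17, nat_lit 1, nat_lit 57, nat_lit 0x28902, nat_lit 0x1101, []⟩, ⟨nat_lit 1, nat_lit 0x40b10304006, nat_lit 17, nat_lit 1, nat_lit 57, nat_lit 0x28902, nat_lit 0x1101, []⟩, ⟨nat_lit 1, nat_lit 0x103cb10304007, nat_lit 17, nat_lit 1, nat_lit 57, nat_lit 0x28902, nat_lit 0x1101, []⟩, ⟨nat_lit 1, nat_lit 0x40610304006, nat_lit 17, nat_lit 1, nat_lit 57, nat_lit 0xb01, nat_lit 0x1101, []⟩, ⟨nat_lit 1, nat_lit 0x1034610304007, nat_lit 17, nat_lit 1, nat_lit 57, nat_lit 0xb01, nat_lit 0x1101, []⟩, ⟨nat_lit 2, nat_lit 0x2c610304006, nat_lit 17, nat_lit 1, nat_lit 16, nat_lit 0x0, nat_lit 0x0, []⟩, ⟨nat_lit 2, nat_lit 0x102c610304007, nat_lit 17, nat_lit 1, nat_lit 16, nat_lit 0x0, nat_lit 0x0, []⟩, ⟨nat_lit 0, nat_lit 0x3080c004, nat_lit 16, nat_lit 0, nat_lit 0, nat_lit 0x0, nat_lit 0x0, [nat_lit 57, nat_lit 56]⟩, ⟨nat_lit 0, nat_lit 0xf3080c005, nat_lit 16, nat_lit 0, nat_lit 0, nat_lit 0x0, nat_lit 0x0, [nat_lit 104, nat_lit 56]⟩, ⟨nat_lit 0, nat_lit 0xd3080c005, nat_lit 16, nat_lit 0, nat_lit 0, nat_lit 0x0, nat_lit 0x0, [nat_lit 56, nat_lit 55]⟩, ⟨nat_lit 0, nat_lit 0x3cd3080c006, nat_lit 16, nat_lit 0, nat_lit 0, nat_lit 0x0, nat_lit 0x0, [nat_lit 105, nat_lit 55]⟩, ⟨nat_lit 0, nat_lit 0x2040c004, nat_lit 16, nat_lit 0, nat_lit 0, nat_lit 0x0, nat_lit 0x0, [nat_lit 55, nat_lit 54]⟩, ⟨nat_lit 0, nat_lit 0xf2040c005, nat_lit 16, nat_lit 0, nat_lit 0, nat_lit 0x0, nat_lit 0x0, [nat_lit 106, nat_lit 54]⟩, ⟨nat_lit 0, nat_lit 0xd2040c005, nat_lit 16, nat_lit 0, nat_lit 0, nat_lit 0x0, nat_lit 0x0, [nat_lit 54, nat_lit 53]⟩, ⟨nat_lit 0, nat_lit 0x3cd2040c006, nat_lit 16, nat_lit 0, nat_lit 0, nat_lit 0x0, nat_lit 0x0, [nat_lit 107, nat_lit 53]⟩, ⟨nat_lit 0, nat_lit 0xb2040c005, nat_lit 16, nat_lit 0, nat_lit 0, nat_lit 0x0, nat_lit 0x0, [nat_lit 107, nat_lit 53]⟩, ⟨nat_lit 0, nat_lit 0x3cb2040c006, nat_lit 16, nat_lit 0, nat_lit 0, nat_lit 0x0, nat_lit 0x0, [nat_lit 53, nat_lit 52]⟩, ⟨nat_lit 0, nat_lit 0x34b2040c006, nat_lit 16, nat_lit 0, nat_lit 0, nat_lit 0x0, nat_lit 0x0, [nat_lit 108, nat_lit 52]⟩, ⟨nat_lit 0, nat_lit 0xf34b2040c007, nat_lit 16, nat_lit 0, nat_lit 0, nat_lit 0x0, nat_lit 0x0, [nat_lit 52, nat_lit 51]⟩, ⟨nat_lit 0, nat_lit 0x904003, nat_lit 16, nat_lit 0, nat_lit 0, nat_lit 0x0, nat_lit 0x0, [nat_lit 109, nat_lit 108]⟩, ⟨nat_lit 0, nat_lit 0x3c904004, nat_lit 16, nat_lit 0, nat_lit 0, nat_lit 0x0, nat_lit 0x0, [nat_lit 108, nat_lit 107]⟩, ⟨nat_lit 0, nat_lit 0x38904004, nat_lit 16, nat_lit 0, nat_lit 0, nat_lit 0x0, nat_lit 0x0, [nat_lit 107, nat_lit 106]⟩, ⟨nat_lit 0, nat_lit 0x28904004, nat_lit 16, nat_lit 0, nat_lit 0, nat_lit 0x0, nat_lit 0x0, [nat_lit 106, nat_lit 105]⟩, ⟨nat_lit 0, nat_lit 0x24704004, nat_lit 16, nat_lit 0, nat_lit 0, nat_lit 0x0, nat_lit 0x0, [nat_lit 105, nat_lit 104]⟩, ⟨nat_lit 0, nat_lit 0x24404004, nat_lit 16, nat_lit 0, nat_lit 0, nat_lit 0x0, nat_lit 0x0, [nat_lit 104, nat_lit 103]⟩, ⟨nat_lit 0, nat_lit 0x1c304004, nat_lit 16, nat_lit 0, nat_lit 0, nat_lit 0x0, nat_lit 0x0, [nat_lit 103, nat_lit 57]⟩, ⟨nat_lit 0, nat_lit 0xf1c304005, nat_lit 16, nat_lit 0, nat_lit 0, nat_lit 0x0, nat_lit 0x0, [nat_lit 103, nat_lit 102]⟩, ⟨nat_lit 0, nat_lit 0xd1c304005, nat_lit 16, nat_lit 0, nat_lit 0, nat_lit 0x0, nat_lit 0x0, [nat_lit 102, nat_lit 58]⟩, ⟨nat_lit 0, nat_lit 0x3cd1c304006, nat_lit 16, nat_lit 0, nat_lit 0, nat_lit 0x0, nat_lit 0x0, [nat_lit 102, nat_lit 101]⟩, ⟨nat_lit 0, nat_lit 0xb1c304005, nat_lit 16, nat_lit 0, nat_lit 0, nat_lit 0x0, nat_lit 0x0, [nat_lit 101, nat_lit 59]⟩, ⟨nat_lit 0, nat_lit 0x3cb1c304006, nat_lit 16, nat_lit 0, nat_lit 0, nat_lit 0x0, nat_lit 0x0, [nat_lit 101, nat_lit 59]⟩, ⟨nat_lit 0, nat_lit 0x18304004, nat_lit 16, nat_lit 0, nat_lit 0, nat_lit 0x0, nat_lit 0x0, [nat_lit 101, nat_lit 59]⟩, ⟨nat_lit 0, nat_lit 0xf18304005, nat_lit 16, nat_lit 0, nat_lit 0, nat_lit 0x0, nat_lit 0x0, [nat_lit 101, nat_lit 59]⟩, ⟨nat_lit 0, nat_lit 0xd18304005, nat_lit 16, nat_lit 0, nat_lit 0, nat_lit 0x0, nat_lit 0x0, [nat_lit 101, nat_lit 59]⟩, ⟨nat_lit 0, nat_lit 0x3cd18304006, nat_lit 16, nat_lit 0, nat_lit 0, nat_lit 0x0, nat_lit 0x0, [nat_lit 101, nat_lit 59]⟩, ⟨nat_lit 0, nat_lit 0xc18304005, nat_lit 16, nat_lit 0, nat_lit 0, nat_lit 0x0, nat_lit 0x0, [nat_lit 101, nat_lit 59]⟩, ⟨nat_lit 0, nat_lit 0x34c18304006, nat_lit 16, nat_lit 0, nat_lit 0, nat_lit 0x0, nat_lit 0x0, [nat_lit 101, nat_lit 59]⟩, ⟨nat_lit 0, nat_lit 0xb18304005, nat_lit 16, nat_lit 0, nat_lit 0, nat_lit 0x0, nat_lit 0x0, [nat_lit 59, nat_lit 58]⟩, ⟨nat_lit 0, nat_lit 0x3cb18304006, nat_lit 16, nat_lit 0, nat_lit 0, nat_lit 0x0, nat_lit 0x0, [nat_lit 58, nat_lit 57]⟩, ⟨nat_lit 0, nat_lit 0x30b18304006, nat_lit 16, nat_lit 0, nat_lit 0, nat_lit 0x0, nat_lit 0x0, [nat_lit 57, nat_lit 56]⟩, ⟨nat_lit 0, nat_lit 0x918304005, nat_lit 16, nat_lit 0, nat_lit 0, nat_lit 0x0, nat_lit 0x0, [nat_lit 56, nat_lit 55]⟩, ⟨nat_lit 0, nat_lit 0x34918304006, nat_lit 16, nat_lit 0, nat_lit 0, nat_lit 0x0, nat_lit 0x0, [nat_lit 55, nat_lit 54]⟩, ⟨nat_lit 0, nat_lit 0x2c918304006, nat_lit 16, nat_lit 0, nat_lit 0, nat_lit 0x0, nat_lit 0x0, [nat_lit 106, nat_lit 54]⟩, ⟨nat_lit 0, nat_lit 0xd2c918304007, nat_lit 16, nat_lit 0, nat_lit 0, nat_lit 0x0, nat_lit 0x0, [nat_lit 106, nat_lit 54]⟩, ⟨nat_lit 0, nat_lit 0x818304005, nat_lit 16, nat_lit 0, nat_lit 0, nat_lit 0x0, nat_lit 0x0, [nat_lit 106, nat_lit 54]⟩, ⟨nat_lit 0, nat_lit 0x38818304006, nat_lit 16, nat_lit 0, nat_lit 0, nat_lit 0x0, nat_lit 0x0, [nat_lit 106, nat_lit 54]⟩, ⟨nat_lit 0, nat_lit 0x2c818304006, nat_lit 16, nat_lit 0, nat_lit 0, nat_lit 0x0, nat_lit 0x0, [nat_lit 54, nat_lit 53]⟩, ⟨nat_lit 0, nat_lit 0x14304004, nat_lit 16, nat_lit 0, nat_lit 0, nat_lit 0x0, nat_lit 0x0, [nat_lit 107, nat_lit 53]⟩, ⟨nat_lit 0, nat_lit 0xe14304005, nat_lit 16, nat_lit 0, nat_lit 0, nat_lit 0x0, nat_lit 0x0, [nat_lit 53, nat_lit 52]⟩, ⟨nat_lit 0, nat_lit 0xd14304005, nat_lit 16, nat_lit 0, nat_lit 0, nat_lit 0x0, nat_lit 0x0, [nat_lit 108, nat_lit 52]⟩, ⟨nat_lit 0, nat_lit 0x38d14304006, nat_lit 16, nat_lit 0, nat_lit 0, nat_lit 0x0, nat_lit 0x0, [nat_lit 52, nat_lit 51]⟩, ⟨nat_lit 0, nat_lit 0x10304004, nat_lit 16, nat_lit 0, nat_lit 0, nat_lit 0x0, nat_lit 0x0, [nat_lit 109, nat_lit 51]⟩, ⟨nat_lit 0, nat_lit 0xf10304005, nat_lit 16, nat_lit 0, nat_lit 0, nat_lit 0x0, nat_lit 0x0, [nat_lit 109, nat_lit 51]⟩, ⟨nat_lit 0, nat_lit 0xb10304005, nat_lit 16, nat_lit 0, nat_lit 0, nat_lit 0x0, nat_lit 0x0, [nat_lit 109, nat_lit 51]⟩, ⟨nat_lit 0, nat_lit 0x3cb10304006, nat_lit 16, nat_lit 0, nat_lit 0, nat_lit 0x0, nat_lit 0x0, [nat_lit 109, nat_lit 51]⟩, ⟨nat_lit 0, nat_lit 0x610304005, nat_lit 16, nat_lit 0, nat_lit 0, nat_lit 0x0, nat_lit 0x0, [nat_lit 109, nat_lit 51]⟩, ⟨nat_lit 0, nat_lit 0x34610304006, nat_lit 16, nat_lit 0, nat_lit 0, nat_lit 0x0, nat_lit 0x0, [nat_lit 109, nat_lit 51]⟩, ⟨nat_lit 0, nat_lit 0x2c610304006, nat_lit 16, nat_lit 0, nat_lit 0, nat_lit 0x0, nat_lit 0x0, [nat_lit 51, nat_lit 50]⟩, ⟨nat_lit 0, nat_lit 0x3090c204006, nat_lit 16, nat_lit 0, nat_lit 0, nat_lit 0x0, nat_lit 0x0, [nat_lit 110, nat_lit 109]⟩, ⟨nat_lit 1, nat_lit 0xf38904005, nat_lit 16, nat_lit 1, nat_lit 37, nat_lit 0xb24203, nat_lit 0x1001, []⟩, ⟨nat_lit 1, nat_lit 0xf28904005, nat_lit 16, nat_lit 1, nat_lit 37, nat_lit 0x701, nat_lit 0x45002, []⟩, ⟨nat_lit 1, nat_lit 0xf24704005, nat_lit 16, nat_lit 1, nat_lit 37, nat_lit 0xa01, nat_lit 0x45002, []⟩, ⟨nat_lit 2, nat_lit 0xa24704005, nat_lit 16, nat_lit 1, nat_lit 15, nat_lit 0x0, nat_lit 0x45002, []⟩, ⟨nat_lit 2, nat_lit 0x3ca24704006, nat_lit 16, nat_lit 1, nat_lit 15, nat_lit 0x0, nat_lit 0x1001, []⟩, ⟨nat_lit 1, nat_lit 0xf24404005, nat_lit 16, nat_lit 1, nat_lit 39, nat_lit 0x2ca24804, nat_lit 0x1001, []⟩, ⟨nat_lit 1, nat_lit 0x3cc18304006, nat_lit 16, nat_lit 1, nat_lit 29, nat_lit 0x1c502, nat_lit 0x1101, []⟩, ⟨nat_lit 1, nat_lit 0xf34c18304007, nat_lit 16, nat_lit 1, nat_lit 29, nat_lit 0x1c502, nat_lit 0x1101, []⟩, ⟨nat_lit 1, nat_lit 0xf30b18304007, nat_lit 16, nat_lit 1, nat_lit 27, nat_lit 0x1c502, nat_lit 0x1001, []⟩, ⟨nat_lit 1, nat_lit 0x3c918304006, nat_lit 16, nat_lit 1, nat_lit 27, nat_lit 0x801, nat_lit 0x1101, []⟩, ⟨nat_lit 1, nat_lit 0xf34918304007, nat_lit 16, nat_lit 1, nat_lit 27, nat_lit 0x801, nat_lit 0x1101, []⟩, ⟨nat_lit 1, nat_lit 0xf2c918304007, nat_lit 16, nat_lit 1, nat_lit 27, nat_lit 0x801, nat_lit 0x1101, []⟩, ⟨nat_lit 1, nat_lit 0x3cd2c918304008, nat_lit 16, nat_lit 1, nat_lit 27, nat_lit 0x801, nat_lit 0x1101, []⟩, ⟨nat_lit 1, nat_lit 0x3c818304006, nat_lit 16, nat_lit 1, nat_lit 27, nat_lit 0x901, nat_lit 0x45002, []⟩, ⟨nat_lit 1, nat_lit 0xf38818304007, nat_lit 16, nat_lit 1, nat_lit 27, nat_lit 0x901, nat_lit 0x45002, []⟩, ⟨nat_lit 1, nat_lit 0xf2c818304007, nat_lit 16, nat_lit 1, nat_lit 27, nat_lit 0x901, nat_lit 0x45002, []⟩, ⟨nat_lit 2, nat_lit 0x24818304006, nat_lit 16, nat_lit 1, nat_lit 15, nat_lit 0x0, nat_lit 0x1001, []⟩, ⟨nat_lit 2, nat_lit 0xf24818304007, nat_lit 16, nat_lit 1, nat_lit 15, nat_lit 0x0, nat_lit 0x1001, []⟩, ⟨nat_lit 1, nat_lit 0xf14304005, nat_lit 16, nat_lit 1, nat_lit 29, nat_lit 0xc01, nat_lit 0x1001, []⟩, ⟨nat_lit 1, nat_lit 0x3ce14304006, nat_lit 16, nat_lit 1, nat_lit 29, nat_lit 0xc01, nat_lit 0x1001, []⟩, ⟨nat_lit 1, nat_lit 0x3cd14304006, nat_lit 16, nat_lit 1, nat_lit 29, nat_lit 0xc01, nat_lit 0x1001, []⟩, ⟨nat_lit 1, nat_lit 0xf38d14304007, nat_lit 16, nat_lit 1, nat_lit 29, nat_lit 0xc01, nat_lit 0x1001, []⟩, ⟨nat_lit 2, nat_lit 0xc14304005, nat_lit 16, nat_lit 1, nat_lit 15, nat_lit 0x0, nat_lit 0x1001, []⟩, ⟨nat_lit 2, nat_lit 0x3cc14304006, nat_lit 16, nat_lit 1, nat_lit 15, nat_lit 0x0, nat_lit 0x1001, []⟩, ⟨nat_lit 1, nat_lit 0x3c610304006, nat_lit 16, nat_lit 1, nat_lit 27, nat_lit 0x28702, nat_lit 0x45002, []⟩, ⟨nat_lit 1, nat_lit 0xf34610304007, nat_lit 16, nat_lit 1, nat_lit 27, nat_lit 0x28702, nat_lit 0x45002, []⟩, ⟨nat_lit 1, nat_lit 0xf2c610304007, nat_lit 16, nat_lit 1, nat_lit 27, nat_lit 0x28702, nat_lit 0x45002, []⟩, ⟨nat_lit 1, nat_lit 0xf3090c204007, nat_lit 16, nat_lit 1, nat_lit 27, nat_lit 0xe01, nat_lit 0x1001, []⟩, ⟨nat_lit 2, nat_lit 0xe3090c204007, nat_lit 16, nat_lit 1, nat_lit 15, nat_lit 0x0, nat_lit 0x1001, []⟩, ⟨nat_lit 2, nat_lit 0x3ce3090c204008, nat_lit 16, nat_lit 1, nat_lit 15, nat_lit 0x0, nat_lit 0x45002, []⟩, ⟨nat_lit 0, nat_lit 0x3080c004, nat_lit 15, nat_lit 0, nat_lit 0, nat_lit 0x0, nat_lit 0x0, [nat_lit 81, nat_lit 80]⟩, ⟨nat_lit 0, nat_lit 0xd3080c005, nat_lit 15, nat_lit 0, nat_lit 0, nat_lit 0x0, nat_lit 0x0, [nat_lit 80, nat_lit 79]⟩, ⟨nat_lit 0, nat_lit 0x2040c004, nat_lit 15, nat_lit 0, nat_lit 0, nat_lit 0x0, nat_lit 0x0, [nat_lit 79, nat_lit 78]⟩, ⟨nat_lit 0, nat_lit 0xd2040c005, nat_lit 15, nat_lit 0, nat_lit 0, nat_lit 0x0, nat_lit 0x0, [nat_lit 78, nat_lit 77]⟩, ⟨nat_lit 0, nat_lit 0xb2040c005, nat_lit 15, nat_lit 0, nat_lit 0, nat_lit 0x0, nat_lit 0x0, [nat_lit 77, nat_lit 76]⟩, ⟨nat_lit 0, nat_lit 0x34b2040c006, nat_lit 15, nat_lit 0, nat_lit 0, nat_lit 0x0, nat_lit 0x0, [nat_lit 76, nat_lit 75]⟩, ⟨nat_lit 0, nat_lit 0x904003, nat_lit 15, nat_lit 0, nat_lit 0, nat_lit 0x0, nat_lit 0x0, [nat_lit 75, nat_lit 74]⟩, ⟨nat_lit 0, nat_lit 0x38904004, nat_lit 15, nat_lit 0, nat_lit 0, nat_lit 0x0, nat_lit 0x0, [nat_lit 74, nat_lit 36]⟩, ⟨nat_lit 0, nat_lit 0x28904004, nat_lit 15, nat_lit 0, nat_lit 0, nat_lit 0x0, nat_lit 0x0, [nat_lit 74, nat_lit 36]⟩, ⟨nat_lit 0, nat_lit 0x24704004, nat_lit 15, nat_lit 0, nat_lit 0, nat_lit 0x0, nat_lit 0x0, [nat_lit 74, nat_lit 36]⟩, ⟨nat_lit 0, nat_lit 0xa24704005, nat_lit 15, nat_lit 0, nat_lit 0, nat_lit 0x0, nat_lit 0x0, [nat_lit 36, nat_lit 35]⟩, ⟨nat_lit 0, nat_lit 0x24404004, nat_lit 15, nat_lit 0, nat_lit 0, nat_lit 0x0, nat_lit 0x0, [nat_lit 75, nat_lit 35]⟩, ⟨nat_lit 0, nat_lit 0x1c304004, nat_lit 15, nat_lit 0, nat_lit 0, nat_lit 0x0, nat_lit 0x0, [nat_lit 75, nat_lit 74]⟩, ⟨nat_lit 0, nat_lit 0xd1c304005, nat_lit 15, nat_lit 0, nat_lit 0, nat_lit 0x0, nat_lit 0x0, [nat_lit 74, nat_lit 73]⟩, ⟨nat_lit 0, nat_lit 0xb1c304005, nat_lit 15, nat_lit 0, nat_lit 0, nat_lit 0x0, nat_lit 0x0, [nat_lit 73, nat_lit 72]⟩, ⟨nat_lit 0, nat_lit 0x18304004, nat_lit 15, nat_lit 0, nat_lit 0, nat_lit 0x0, nat_lit 0x0, [nat_lit 72, nat_lit 71]⟩, ⟨nat_lit 0, nat_lit 0xd18304005, nat_lit 15, nat_lit 0, nat_lit 0, nat_lit 0x0, nat_lit 0x0, [nat_lit 71, nat_lit 70]⟩, ⟨nat_lit 0, nat_lit 0xc18304005, nat_lit 15, nat_lit 0, nat_lit 0, nat_lit 0x0, nat_lit 0x0, [nat_lit 70, nat_lit 40]⟩, ⟨nat_lit 0, nat_lit 0x34c18304006, nat_lit 15, nat_lit 0, nat_lit 0, nat_lit 0x0, nat_lit 0x0, [nat_lit 70, nat_lit 40]⟩, ⟨nat_lit 0, nat_lit 0xb18304005, nat_lit 15, nat_lit 0, nat_lit 0, nat_lit 0x0, nat_lit 0x0, [nat_lit 70, nat_lit 69]⟩, ⟨nat_lit 0, nat_lit 0x30b18304006, nat_lit 15, nat_lit 0, nat_lit 0, nat_lit 0x0, nat_lit 0x0, [nat_lit 69, nat_lit 41]⟩, ⟨nat_lit 0, nat_lit 0x918304005, nat_lit 15, nat_lit 0, nat_lit 0, nat_lit 0x0, nat_lit 0x0, [nat_lit 69, nat_lit 41]⟩, ⟨nat_lit 0, nat_lit 0x34918304006, nat_lit 15, nat_lit 0, nat_lit 0, nat_lit 0x0, nat_lit 0x0, [nat_lit 69, nat_lit 41]⟩, ⟨nat_lit 0, nat_lit 0x2c918304006, nat_lit 15, nat_lit 0, nat_lit 0, nat_lit 0x0, nat_lit 0x0, [nat_lit 69, nat_lit 41]⟩, ⟨nat_lit 0, nat_lit 0xd2c918304007, nat_lit 15, nat_lit 0, nat_lit 0, nat_lit 0x0, nat_lit 0x0, [nat_lit 69, nat_lit 41]⟩, ⟨nat_lit 0, nat_lit 0x818304005, nat_lit 15, nat_lit 0, nat_lit 0, nat_lit 0x0, nat_lit 0x0, [nat_lit 69, nat_lit 41]⟩, ⟨nat_lit 0, nat_lit 0x38818304006, nat_lit 15, nat_lit 0, nat_lit 0, nat_lit 0x0, nat_lit 0x0, [nat_lit 69, nat_lit 41]⟩, ⟨nat_lit 0, nat_lit 0x2c818304006, nat_lit 15, nat_lit 0, nat_lit 0, nat_lit 0x0, nat_lit 0x0, [nat_lit 69, nat_lit 41]⟩, ⟨nat_lit 0, nat_lit 0x24818304006, nat_lit 15, nat_lit 0, nat_lit 0, nat_lit 0x0, nat_lit 0x0, [nat_lit 41, nat_lit 40]⟩, ⟨nat_lit 0, nat_lit 0x14304004, nat_lit 15, nat_lit 0, nat_lit 0, nat_lit 0x0, nat_lit 0x0, [nat_lit 70, nat_lit 40]⟩, ⟨nat_lit 0, nat_lit 0xe14304005, nat_lit 15, nat_lit 0, nat_lit 0, nat_lit 0x0, nat_lit 0x0, [nat_lit 70, nat_lit 40]⟩, ⟨nat_lit 0, nat_lit 0xd14304005, nat_lit 15, nat_lit 0, nat_lit 0, nat_lit 0x0, nat_lit 0x0, [nat_lit 70, nat_lit 40]⟩, ⟨nat_lit 0, nat_lit 0x38d14304006, nat_lit 15, nat_lit 0, nat_lit 0, nat_lit 0x0, nat_lit 0x0, [nat_lit 70, nat_lit 40]⟩, ⟨nat_lit 0, nat_lit 0xc14304005, nat_lit 15, nat_lit 0, nat_lit 0, nat_lit 0x0, nat_lit 0x0, [nat_lit 40, nat_lit 39]⟩, ⟨nat_lit 0, nat_lit 0x10304004, nat_lit 15, nat_lit 0, nat_lit 0, nat_lit 0x0, nat_lit 0x0, [nat_lit 71, nat_lit 70]⟩, ⟨nat_lit 0, nat_lit 0xb10304005, nat_lit 15, nat_lit 0, nat_lit 0, nat_lit 0x0, nat_lit 0x0, [nat_lit 70, nat_lit 69]⟩, ⟨nat_lit 0, nat_lit 0x610304005, nat_lit 15, nat_lit 0, nat_lit 0, nat_lit 0x0, nat_lit 0x0, [nat_lit 69, nat_lit 41]⟩, ⟨nat_lit 0, nat_lit 0x34610304006, nat_lit 15, nat_lit 0, nat_lit 0, nat_lit 0x0, nat_lit 0x0, [nat_lit 69, nat_lit 41]⟩, ⟨nat_lit 0, nat_lit 0x2c610304006, nat_lit 15, nat_lit 0, nat_lit 0, nat_lit 0x0, nat_lit 0x0, [nat_lit 69, nat_lit 41]⟩, ⟨nat_lit 0, nat_lit 0x3090c204006, nat_lit 15, nat_lit 0, nat_lit 0, nat_lit 0x0, nat_lit 0x0, [nat_lit 69, nat_lit 41]⟩, ⟨nat_lit 0, nat_lit 0xe3090c204007, nat_lit 15, nat_lit 0, nat_lit 0, nat_lit 0x0, nat_lit 0x0, [nat_lit 41, nat_lit 40]⟩, ⟨nat_lit 2, nat_lit 0x80c003, nat_lit 15, nat_lit 1, nat_lit 14, nat_lit 0x0, nat_lit 0x1001, []⟩, ⟨nat_lit 2, nat_lit 0x3880c004, nat_lit 15, nat_lit 1, nat_lit 14, nat_lit 0x0, nat_lit 0x1001, []⟩, ⟨nat_lit 2, nat_lit 0x3480c004, nat_lit 15, nat_lit 1, nat_lit 14, nat_lit 0x0, nat_lit 0x1001, []⟩, ⟨nat_lit 2, nat_lit 0xe3480c005, nat_lit 15, nat_lit 1, nat_lit 14, nat_lit 0x0, nat_lit 0x1001, []⟩, ⟨nat_lit 1, nat_lit 0xe3080c005, nat_lit 15, nat_lit 1, nat_lit 44, nat_lit 0xc01, nat_lit 0x1101, []⟩, ⟨nat_lit 1, nat_lit 0x38d3080c006, nat_lit 15, nat_lit 1, nat_lit 44, nat_lit 0xc01, nat_lit 0x1101, []⟩, ⟨nat_lit 1, nat_lit 0xe2040c005, nat_lit 15, nat_lit 1, nat_lit 44, nat_lit 0xc01, nat_lit 0x1101, []⟩, ⟨nat_lit 1, nat_lit 0x38d2040c006, nat_lit 15, nat_lit 1, nat_lit 44, nat_lit 0xc01, nat_lit 0x1101, []⟩, ⟨nat_lit 2, nat_lit 0xc2040c005, nat_lit 15, nat_lit 1, nat_lit 14, nat_lit 0x0, nat_lit 0x1001, []⟩, ⟨nat_lit 2, nat_lit 0x38c2040c006, nat_lit 15, nat_lit 1, nat_lit 14, nat_lit 0x0, nat_lit 0x1001, []⟩, ⟨nat_lit 2, nat_lit 0x34c2040c006, nat_lit 15, nat_lit 1, nat_lit 14, nat_lit 0x0, nat_lit 0x1001, []⟩, ⟨nat_lit 2, nat_lit 0xe34c2040c007, nat_lit 15, nat_lit 1, nat_lit 14, nat_lit 0x0, nat_lit 0x1001, []⟩, ⟨nat_lit 1, nat_lit 0x38b2040c006, nat_lit 15, nat_lit 1, nat_lit 48, nat_lit 0xc01, nat_lit 0x1101, []⟩, ⟨nat_lit 1, nat_lit 0xe34b2040c007, nat_lit 15, nat_lit 1, nat_lit 48, nat_lit 0xc01, nat_lit 0x1101, []⟩, ⟨nat_lit 2, nat_lit 0x30b2040c006, nat_lit 15, nat_lit 1, nat_lit 14, nat_lit 0x0, nat_lit 0x1101, []⟩, ⟨nat_lit 2, nat_lit 0xe30b2040c007, nat_lit 15, nat_lit 1, nat_lit 14, nat_lit 0x0, nat_lit 0x1101, []⟩, ⟨nat_lit 2, nat_lit 0xd30b2040c007, nat_lit 15, nat_lit 1, nat_lit 14, nat_lit 0x0, nat_lit 0x1101, []⟩, ⟨nat_lit 2, nat_lit 0x38d30b2040c008, nat_lit 15, nat_lit 1, nat_lit 14, nat_lit 0x0, nat_lit 0x1101, []⟩, ⟨nat_lit 1, nat_lit 0xe28904005, nat_lit 15, nat_lit 1, nat_lit 50, nat_lit 0x401, nat_lit 0x0, []⟩, ⟨nat_lit 1, nat_lit 0xe24704005, nat_lit 15, nat_lit 1, nat_lit 50, nat_lit 0xb24603, nat_lit 0x0, []⟩, ⟨nat_lit 1, nat_lit 0x38a24704006, nat_lit 15, nat_lit 1, nat_lit 50, nat_lit 0xb24603, nat_lit 0x44f02, []⟩, ⟨nat_lit 1, nat_lit 0xe24404005, nat_lit 15, nat_lit 1, nat_lit 50, nat_lit 0xa01, nat_lit 0x0, []⟩, ⟨nat_lit 2, nat_lit 0xa24404005, nat_lit 15, nat_lit 1, nat_lit 14, nat_lit 0x0, nat_lit 0x0, []⟩, ⟨nat_lit 2, nat_lit 0x38a24404006, nat_lit 15, nat_lit 1, nat_lit 14, nat_lit 0x0, nat_lit 0x0, []⟩, ⟨nat_lit 1, nat_lit 0xe1c304005, nat_lit 15, nat_lit 1, nat_lit 52, nat_lit 0x901, nat_lit 0xf01, []⟩, ⟨nat_lit 1, nat_lit 0x38d1c304006, nat_lit 15, nat_lit 1, nat_lit 52, nat_lit 0x901, nat_lit 0xf01, []⟩, ⟨nat_lit 1, nat_lit 0x38b1c304006, nat_lit 15, nat_lit 1, nat_lit 52, nat_lit 0x901, nat_lit 0xf01, []⟩, ⟨nat_lit 2, nat_lit 0x91c304005, nat_lit 15, nat_lit 1, nat_lit 14, nat_lit 0x0, nat_lit 0xf01, []⟩, ⟨nat_lit 2, nat_lit 0x3891c304006, nat_lit 15, nat_lit 1, nat_lit 14, nat_lit 0x0, nat_lit 0x44f02, []⟩, ⟨nat_lit 2, nat_lit 0x2c91c304006, nat_lit 15, nat_lit 1, nat_lit 14, nat_lit 0x0, nat_lit 0xf01, []⟩, ⟨nat_lit 2, nat_lit 0xe2c91c304007, nat_lit 15, nat_lit 1, nat_lit 14, nat_lit 0x0, nat_lit 0x44f02, []⟩, ⟨nat_lit 2, nat_lit 0xd2c91c304007, nat_lit 15, nat_lit 1, nat_lit 14, nat_lit 0x0, nat_lit 0x44f02, []⟩, ⟨nat_lit 2, nat_lit 0x38d2c91c304008, nat_lit 15, nat_lit 1, nat_lit 14, nat_lit 0x0, nat_lit 0xf01, []⟩, ⟨nat_lit 1, nat_lit 0xe18304005, nat_lit 15, nat_lit 1, nat_lit 58, nat_lit 0x701, nat_lit 0x1140f03, []⟩, ⟨nat_lit 1, nat_lit 0x38d18304006, nat_lit 15, nat_lit 1, nat_lit 58, nat_lit 0x701, nat_lit 0x1140f03, []⟩, ⟨nat_lit 1, nat_lit 0x38c18304006, nat_lit 15, nat_lit 1, nat_lit 58, nat_lit 0x701, nat_lit 0x1140f03, []⟩, ⟨nat_lit 1, nat_lit 0xe34c18304007, nat_lit 15, nat_lit 1, nat_lit 58, nat_lit 0x701, nat_lit 0x1140f03, []⟩, ⟨nat_lit 1, nat_lit 0x38b18304006, nat_lit 15, nat_lit 1, nat_lit 58, nat_lit 0x701, nat_lit 0x1140f03, []⟩, ⟨nat_lit 1, nat_lit 0xe30b18304007, nat_lit 15, nat_lit 1, nat_lit 58, nat_lit 0x701, nat_lit 0x1140f03, []⟩, ⟨nat_lit 1, nat_lit 0x38918304006, nat_lit 15, nat_lit 1, nat_lit 58, nat_lit 0x701, nat_lit 0x1140f03, []⟩, ⟨nat_lit 1, nat_lit 0xe34918304007, nat_lit 15, nat_lit 1, nat_lit 58, nat_lit 0x701, nat_lit 0x1140f03, []⟩, ⟨nat_lit 1, nat_lit 0xe2c918304007, nat_lit 15, nat_lit 1, nat_lit 58, nat_lit 0x701, nat_lit 0x1140f03, []⟩, ⟨nat_lit 1, nat_lit 0x38d2c918304008, nat_lit 15, nat_lit 1, nat_lit 58, nat_lit 0x701, nat_lit 0x1140f03, []⟩, ⟨nat_lit 1, nat_lit 0xe2c818304007, nat_lit 15, nat_lit 1, nat_lit 56, nat_lit 0x301, nat_lit 0x40f02, []⟩, ⟨nat_lit 1, nat_lit 0xe24818304007, nat_lit 15, nat_lit 1, nat_lit 56, nat_lit 0x1c602, nat_lit 0x1140f03, []⟩, ⟨nat_lit 2, nat_lit 0x718304005, nat_lit 15, nat_lit 1, nat_lit 14, nat_lit 0x0, nat_lit 0x40f02, []⟩, ⟨nat_lit 2, nat_lit 0x38718304006, nat_lit 15, nat_lit 1, nat_lit 14, nat_lit 0x0, nat_lit 0x40f02, []⟩, ⟨nat_lit 1, nat_lit 0x38c14304006, nat_lit 15, nat_lit 1, nat_lit 54, nat_lit 0x710103, nat_lit 0x1001, []⟩, ⟨nat_lit 1, nat_lit 0xe10304005, nat_lit 15, nat_lit 1, nat_lit 54, nat_lit 0xa01, nat_lit 0x1140f03, []⟩, ⟨nat_lit 1, nat_lit 0x38b10304006, nat_lit 15, nat_lit 1, nat_lit 54, nat_lit 0xa01, nat_lit 0x1140f03, []⟩, ⟨nat_lit 2, nat_lit 0xa10304005, nat_lit 15, nat_lit 1, nat_lit 14, nat_lit 0x0, nat_lit 0x40f02, []⟩, ⟨nat_lit 2, nat_lit 0x38a10304006, nat_lit 15, nat_lit 1, nat_lit 14, nat_lit 0x0, nat_lit 0x1140f03, []⟩, ⟨nat_lit 2, nat_lit 0x2ca10304006, nat_lit 15, nat_lit 1, nat_lit 14, nat_lit 0x0, nat_lit 0x40f02, []⟩, ⟨nat_lit 2, nat_lit 0xe2ca10304007, nat_lit 15, nat_lit 1, nat_lit 14, nat_lit 0x0, nat_lit 0x1140f03, []⟩, ⟨nat_lit 1, nat_lit 0x38610304006, nat_lit 15, nat_lit 1, nat_lit 58, nat_lit 0xa01, nat_lit 0x0, []⟩, ⟨nat_lit 1, nat_lit 0xe34610304007, nat_lit 15, nat_lit 1, nat_lit 58, nat_lit 0xa01, nat_lit 0x0, []⟩, ⟨nat_lit 1, nat_lit 0xe2c610304007, nat_lit 15, nat_lit 1, nat_lit 58, nat_lit 0xa01, nat_lit 0x0, []⟩, ⟨nat_lit 2, nat_lit 0x28610304006, nat_lit 15, nat_lit 1, nat_lit 14, nat_lit 0x0, nat_lit 0x1101, []⟩, ⟨nat_lit 2, nat_lit 0xe28610304007, nat_lit 15, nat_lit 1, nat_lit 14, nat_lit 0x0, nat_lit 0x1101, []⟩, ⟨nat_lit 2, nat_lit 0xd28610304007, nat_lit 15, nat_lit 1, nat_lit 14, nat_lit 0x0, nat_lit 0x0, []⟩, ⟨nat_lit 2, nat_lit 0x38d28610304008, nat_lit 15, nat_lit 1, nat_lit 14, nat_lit 0x0, nat_lit 0x0, []⟩, ⟨nat_lit 2, nat_lit 0xb28610304007, nat_lit 15, nat_lit 1, nat_lit 14, nat_lit 0x0, nat_lit 0x1001, []⟩, ⟨nat_lit 2, nat_lit 0x38b28610304008, nat_lit 15, nat_lit 1, nat_lit 14, nat_lit 0x0, nat_lit 0x1001, []⟩, ⟨nat_lit 0, nat_lit 0x80c003, nat_lit 14, nat_lit 0, nat_lit 0, nat_lit 0x0, nat_lit 0x0, [nat_lit 62, nat_lit 61]⟩, ⟨nat_lit 0, nat_lit 0x3480c004, nat_lit 14, nat_lit 0, nat_lit 0, nat_lit 0x0, nat_lit 0x0, [nat_lit 61, nat_lit 60]⟩, ⟨nat_lit 0, nat_lit 0x3080c004, nat_lit 14, nat_lit 0, nat_lit 0, nat_lit 0x0, nat_lit 0x0, [nat_lit 105, nat_lit 60]⟩, ⟨nat_lit 0, nat_lit 0xd3080c005, nat_lit 14, nat_lit 0, nat_lit 0, nat_lit 0x0, nat_lit 0x0, [nat_lit 105, nat_lit 60]⟩, ⟨nat_lit 0, nat_lit 0x2040c004, nat_lit 14, nat_lit 0, nat_lit 0, nat_lit 0x0, nat_lit 0x0, [nat_lit 105, nat_lit 60]⟩, ⟨nat_lit 0, nat_lit 0xd2040c005, nat_lit 14, nat_lit 0, nat_lit 0, nat_lit 0x0, nat_lit 0x0, [nat_lit 105, nat_lit 60]⟩, ⟨nat_lit 0, nat_lit 0xc2040c005, nat_lit 14, nat_lit 0, nat_lit 0, nat_lit 0x0, nat_lit 0x0, [nat_lit 60, nat_lit 59]⟩, ⟨nat_lit 0, nat_lit 0x34c2040c006, nat_lit 14, nat_lit 0, nat_lit 0, nat_lit 0x0, nat_lit 0x0, [nat_lit 59, nat_lit 58]⟩, ⟨nat_lit 0, nat_lit 0xb2040c005, nat_lit 14, nat_lit 0, nat_lit 0, nat_lit 0x0, nat_lit 0x0, [nat_lit 107, nat_lit 58]⟩, ⟨nat_lit 0, nat_lit 0x34b2040c006, nat_lit 14, nat_lit 0, nat_lit 0, nat_lit 0x0, nat_lit 0x0, [nat_lit 107, nat_lit 58]⟩, ⟨nat_lit 0, nat_lit 0x30b2040c006, nat_lit 14, nat_lit 0, nat_lit 0, nat_lit 0x0, nat_lit 0x0, [nat_lit 58, nat_lit 57]⟩, ⟨nat_lit 0, nat_lit 0xd30b2040c007, nat_lit 14, nat_lit 0, nat_lit 0, nat_lit 0x0, nat_lit 0x0, [nat_lit 57, nat_lit 56]⟩, ⟨nat_lit 0, nat_lit 0x904003, nat_lit 14, nat_lit 0, nat_lit 0, nat_lit 0x0, nat_lit 0x0, [nat_lit 109, nat_lit 108]⟩, ⟨nat_lit 0, nat_lit 0x28904004, nat_lit 14, nat_lit 0, nat_lit 0, nat_lit 0x0, nat_lit 0x0, [nat_lit 108, nat_lit 57]⟩, ⟨nat_lit 0, nat_lit 0x24704004, nat_lit 14, nat_lit 0, nat_lit 0, nat_lit 0x0, nat_lit 0x0, [nat_lit 108, nat_lit 57]⟩, ⟨nat_lit 0, nat_lit 0xa24704005, nat_lit 14, nat_lit 0, nat_lit 0, nat_lit 0x0, nat_lit 0x0, [nat_lit 108, nat_lit 57]⟩, ⟨nat_lit 0, nat_lit 0x24404004, nat_lit 14, nat_lit 0, nat_lit 0, nat_lit 0x0, nat_lit 0x0, [nat_lit 108, nat_lit 57]⟩, ⟨nat_lit 0, nat_lit 0xa24404005, nat_lit 14, nat_lit 0, nat_lit 0, nat_lit 0x0, nat_lit 0x0, [nat_lit 57, nat_lit 56]⟩, ⟨nat_lit 0, nat_lit 0x1c304004, nat_lit 14, nat_lit 0, nat_lit 0, nat_lit 0x0, nat_lit 0x0, [nat_lit 109, nat_lit 56]⟩, ⟨nat_lit 0, nat_lit 0xd1c304005, nat_lit 14, nat_lit 0, nat_lit 0, nat_lit 0x0, nat_lit 0x0, [nat_lit 109, nat_lit 56]⟩, ⟨nat_lit 0, nat_lit 0xb1c304005, nat_lit 14, nat_lit 0, nat_lit 0, nat_lit 0x0, nat_lit 0x0, [nat_lit 109, nat_lit 56]⟩, ⟨nat_lit 0, nat_lit 0x91c304005, nat_lit 14, nat_lit 0, nat_lit 0, nat_lit 0x0, nat_lit 0x0, [nat_lit 56, nat_lit 55]⟩, ⟨nat_lit 0, nat_lit 0x2c91c304006, nat_lit 14, nat_lit 0, nat_lit 0, nat_lit 0x0, nat_lit 0x0, [nat_lit 55, nat_lit 54]⟩, ⟨nat_lit 0, nat_lit 0xd2c91c304007, nat_lit 14, nat_lit 0, nat_lit 0, nat_lit 0x0, nat_lit 0x0, [nat_lit 54, nat_lit 53]⟩, ⟨nat_lit 0, nat_lit 0x18304004, nat_lit 14, nat_lit 0, nat_lit 0, nat_lit 0x0, nat_lit 0x0, [nat_lit 112, nat_lit 53]⟩, ⟨nat_lit 0, nat_lit 0xd18304005, nat_lit 14, nat_lit 0, nat_lit 0, nat_lit 0x0, nat_lit 0x0, [nat_lit 112, nat_lit 53]⟩, ⟨nat_lit 0, nat_lit 0xc18304005, nat_lit 14, nat_lit 0, nat_lit 0, nat_lit 0x0, nat_lit 0x0, [nat_lit 112, nat_lit 53]⟩, ⟨nat_lit 0, nat_lit 0x34c18304006, nat_lit 14, nat_lit 0, nat_lit 0, nat_lit 0x0, nat_lit 0x0, [nat_lit 112, nat_lit 53]⟩, ⟨nat_lit 0, nat_lit 0xb18304005, nat_lit 14, nat_lit 0, nat_lit 0, nat_lit 0x0, nat_lit 0x0, [nat_lit 112, nat_lit 53]⟩, ⟨nat_lit 0, nat_lit 0x30b18304006, nat_lit 14, nat_lit 0, nat_lit 0, nat_lit 0x0, nat_lit 0x0, [nat_lit 112, nat_lit 53]⟩, ⟨nat_lit 0, nat_lit 0x918304005, nat_lit 14, nat_lit 0, nat_lit 0, nat_lit 0x0, nat_lit 0x0, [nat_lit 112, nat_lit 53]⟩, ⟨nat_lit 0, nat_lit 0x34918304006, nat_lit 14, nat_lit 0, nat_lit 0, nat_lit 0x0, nat_lit 0x0, [nat_lit 112, nat_lit 53]⟩, ⟨nat_lit 0, nat_lit 0x2c918304006, nat_lit 14, nat_lit 0, nat_lit 0, nat_lit 0x0, nat_lit 0x0, [nat_lit 112, nat_lit 53]⟩, ⟨nat_lit 0, nat_lit 0xd2c918304007, nat_lit 14, nat_lit 0, nat_lit 0, nat_lit 0x0, nat_lit 0x0, [nat_lit 112, nat_lit 53]⟩, ⟨nat_lit 0, nat_lit 0x818304005, nat_lit 14, nat_lit 0, nat_lit 0, nat_lit 0x0, nat_lit 0x0, [nat_lit 112, nat_lit 111]⟩, ⟨nat_lit 0, nat_lit 0x2c818304006, nat_lit 14, nat_lit 0, nat_lit 0, nat_lit 0x0, nat_lit 0x0, [nat_lit 111, nat_lit 54]⟩, ⟨nat_lit 0, nat_lit 0x24818304006, nat_lit 14, nat_lit 0, nat_lit 0, nat_lit 0x0, nat_lit 0x0, [nat_lit 111, nat_lit 54]⟩, ⟨nat_lit 0, nat_lit 0x718304005, nat_lit 14, nat_lit 0, nat_lit 0, nat_lit 0x0, nat_lit 0x0, [nat_lit 54, nat_lit 53]⟩, ⟨nat_lit 0, nat_lit 0x14304004, nat_lit 14, nat_lit 0, nat_lit 0, nat_lit 0x0, nat_lit 0x0, [nat_lit 112, nat_lit 111]⟩, ⟨nat_lit 0, nat_lit 0xd14304005, nat_lit 14, nat_lit 0, nat_lit 0, nat_lit 0x0, nat_lit 0x0, [nat_lit 111, nat_lit 110]⟩, ⟨nat_lit 0, nat_lit 0xc14304005, nat_lit 14, nat_lit 0, nat_lit 0, nat_lit 0x0, nat_lit 0x0, [nat_lit 110, nat_lit 55]⟩, ⟨nat_lit 0, nat_lit 0x10304004, nat_lit 14, nat_lit 0, nat_lit 0, nat_lit 0x0, nat_lit 0x0, [nat_lit 110, nat_lit 55]⟩, ⟨nat_lit 0, nat_lit 0xb10304005, nat_lit 14, nat_lit 0, nat_lit 0, nat_lit 0x0, nat_lit 0x0, [nat_lit 110, nat_lit 55]⟩, ⟨nat_lit 0, nat_lit 0xa10304005, nat_lit 14, nat_lit 0, nat_lit 0, nat_lit 0x0, nat_lit 0x0, [nat_lit 55, nat_lit 54]⟩, ⟨nat_lit 0, nat_lit 0x2ca10304006, nat_lit 14, nat_lit 0, nat_lit 0, nat_lit 0x0, nat_lit 0x0, [nat_lit 54, nat_lit 53]⟩, ⟨nat_lit 0, nat_lit 0x610304005, nat_lit 14, nat_lit 0, nat_lit 0, nat_lit 0x0, nat_lit 0x0, [nat_lit 112, nat_lit 53]⟩, ⟨nat_lit 0, nat_lit 0x34610304006, nat_lit 14, nat_lit 0, nat_lit 0, nat_lit 0x0, nat_lit 0x0, [nat_lit 112, nat_lit 53]⟩, ⟨nat_lit 0, nat_lit 0x2c610304006, nat_lit 14, nat_lit 0, nat_lit 0, nat_lit 0x0, nat_lit 0x0, [nat_lit 112, nat_lit 53]⟩, ⟨nat_lit 0, nat_lit 0x28610304006, nat_lit 14, nat_lit 0, nat_lit 0, nat_lit 0x0, nat_lit 0x0, [nat_lit 53, nat_lit 52]⟩, ⟨nat_lit 0, nat_lit 0xd28610304007, nat_lit 14, nat_lit 0, nat_lit 0, nat_lit 0x0, nat_lit 0x0, [nat_lit 52, nat_lit 51]⟩, ⟨nat_lit 0, nat_lit 0xb28610304007, nat_lit 14, nat_lit 0, nat_lit 0, nat_lit 0x0, nat_lit 0x0, [nat_lit 51, nat_lit 50]⟩, ⟨nat_lit 0, nat_lit 0x3090c204006, nat_lit 14, nat_lit 0, nat_lit 0, nat_lit 0x0, nat_lit 0x0, [nat_lit 115, nat_lit 114]⟩, ⟨nat_lit 1, nat_lit 0x34904004, nat_lit 14, nat_lit 1, nat_lit 39, nat_lit 0xb01, nat_lit 0x44f02, []⟩, ⟨nat_lit 2, nat_lit 0x2c904004, nat_lit 14, nat_lit 1, nat_lit 13, nat_lit 0x0, nat_lit 0x44f02, []⟩, ⟨nat_lit 2, nat_lit 0xd2c904005, nat_lit 14, nat_lit 1, nat_lit 13, nat_lit 0x0, nat_lit 0xf01, []⟩, ⟨nat_lit 1, nat_lit 0xd28904005, nat_lit 14, nat_lit 1, nat_lit 41, nat_lit 0xb01, nat_lit 0x44f02, []⟩, ⟨nat_lit 2, nat_lit 0xb28904005, nat_lit 14, nat_lit 1, nat_lit 13, nat_lit 0x0, nat_lit 0x44f02, []⟩, ⟨nat_lit 2, nat_lit 0x34b28904006, nat_lit 14, nat_lit 1, nat_lit 13, nat_lit 0x0, nat_lit 0xf01, []⟩, ⟨nat_lit 1, nat_lit 0xd24704005, nat_lit 14, nat_lit 1, nat_lit 43, nat_lit 0xb01, nat_lit 0x44f02, []⟩, ⟨nat_lit 2, nat_lit 0xb24704005, nat_lit 14, nat_lit 1, nat_lit 13, nat_lit 0x0, nat_lit 0x44f02, []⟩, ⟨nat_lit 2, nat_lit 0x34b24704006, nat_lit 14, nat_lit 1, nat_lit 13, nat_lit 0x0, nat_lit 0xf01, []⟩, ⟨nat_lit 1, nat_lit 0x34a24704006, nat_lit 14, nat_lit 1, nat_lit 45, nat_lit 0xb01, nat_lit 0x44f02, []⟩, ⟨nat_lit 2, nat_lit 0x2ca24704006, nat_lit 14, nat_lit 1, nat_lit 13, nat_lit 0x0, nat_lit 0x1001, []⟩, ⟨nat_lit 2, nat_lit 0xd2ca24704007, nat_lit 14, nat_lit 1, nat_lit 13, nat_lit 0x0, nat_lit 0x45002, []⟩, ⟨nat_lit 1, nat_lit 0xd24404005, nat_lit 14, nat_lit 1, nat_lit 47, nat_lit 0xb01, nat_lit 0x44f02, []⟩, ⟨nat_lit 2, nat_lit 0xb24404005, nat_lit 14, nat_lit 1, nat_lit 13, nat_lit 0x0, nat_lit 0x44f02, []⟩, ⟨nat_lit 2, nat_lit 0x34b24404006, nat_lit 14, nat_lit 1, nat_lit 13, nat_lit 0x0, nat_lit 0xf01, []⟩, ⟨nat_lit 1, nat_lit 0x34a24404006, nat_lit 14, nat_lit 1, nat_lit 49, nat_lit 0xb01, nat_lit 0x44f02, []⟩, ⟨nat_lit 2, nat_lit 0x2ca24404006, nat_lit 14, nat_lit 1, nat_lit 13, nat_lit 0x0, nat_lit 0x113ce03, []⟩, ⟨nat_lit 2, nat_lit 0xd2ca24404007, nat_lit 14, nat_lit 1, nat_lit 13, nat_lit 0x0, nat_lit 0x3ce02, []⟩, ⟨nat_lit 1, nat_lit 0x34b1c304006, nat_lit 14, nat_lit 1, nat_lit 49, nat_lit 0x1c302, nat_lit 0xe01, []⟩, ⟨nat_lit 1, nat_lit 0x3491c304006, nat_lit 14, nat_lit 1, nat_lit 49, nat_lit 0x301, nat_lit 0x1001, []⟩, ⟨nat_lit 1, nat_lit 0x34b18304006, nat_lit 14, nat_lit 1, nat_lit 43, nat_lit 0x301, nat_lit 0xe01, []⟩, ⟨nat_lit 1, nat_lit 0xd30b18304007, nat_lit 14, nat_lit 1, nat_lit 43, nat_lit 0x301, nat_lit 0xe01, []⟩, ⟨nat_lit 1, nat_lit 0x34818304006, nat_lit 14, nat_lit 1, nat_lit 39, nat_lit 0x701, nat_lit 0x3ce02, []⟩, ⟨nat_lit 1, nat_lit 0xd2c818304007, nat_lit 14, nat_lit 1, nat_lit 39, nat_lit 0x701, nat_lit 0x3ce02, []⟩, ⟨nat_lit 1, nat_lit 0xd24818304007, nat_lit 14, nat_lit 1, nat_lit 39, nat_lit 0x701, nat_lit 0x3ce02, []⟩, ⟨nat_lit 1, nat_lit 0x34718304006, nat_lit 14, nat_lit 1, nat_lit 39, nat_lit 0x801, nat_lit 0x45002, []⟩, ⟨nat_lit 2, nat_lit 0x20718304006, nat_lit 14, nat_lit 1, nat_lit 13, nat_lit 0x0, nat_lit 0x3ce02, []⟩, ⟨nat_lit 2, nat_lit 0xd20718304007, nat_lit 14, nat_lit 1, nat_lit 13, nat_lit 0x0, nat_lit 0x113ce03, []⟩, ⟨nat_lit 1, nat_lit 0x34c14304006, nat_lit 14, nat_lit 1, nat_lit 39, nat_lit 0x60c203, nat_lit 0x1001, []⟩, ⟨nat_lit 1, nat_lit 0xd10304005, nat_lit 14, nat_lit 1, nat_lit 39, nat_lit 0x20702, nat_lit 0x40e02, []⟩, ⟨nat_lit 1, nat_lit 0x34b10304006, nat_lit 14, nat_lit 1, nat_lit 39, nat_lit 0x20702, nat_lit 0x40e02, []⟩, ⟨nat_lit 1, nat_lit 0x34a10304006, nat_lit 14, nat_lit 1, nat_lit 39, nat_lit 0x20702, nat_lit 0x3ce02, []⟩, ⟨nat_lit 1, nat_lit 0xd2ca10304007, nat_lit 14, nat_lit 1, nat_lit 39, nat_lit 0x20702, nat_lit 0x3ce02, []⟩, ⟨nat_lit 1, nat_lit 0xd2c610304007, nat_lit 14, nat_lit 1, nat_lit 37, nat_lit 0x20302, nat_lit 0x0, []⟩, ⟨nat_lit 1, nat_lit 0x34b28610304008, nat_lit 14, nat_lit 1, nat_lit 35, nat_lit 0x20302, nat_lit 0xf01, []⟩, ⟨nat_lit 2, nat_lit 0x90c204005, nat_lit 14, nat_lit 1, nat_lit 13, nat_lit 0x0, nat_lit 0x44f02, []⟩, ⟨nat_lit 2, nat_lit 0x3490c204006, nat_lit 14, nat_lit 1, nat_lit 13, nat_lit 0x0, nat_lit 0xf01, []⟩, ⟨nat_lit 1, nat_lit 0xd3090c204007, nat_lit 14, nat_lit 1, nat_lit 37, nat_lit 0xc01, nat_lit 0x44f02, []⟩, ⟨nat_lit 0, nat_lit 0x80c003, nat_lit 13, nat_lit 0, nat_lit 0, nat_lit 0x0, nat_lit 0x0, [nat_lit 89, nat_lit 88]⟩, ⟨nat_lit 0, nat_lit 0x3080c004, nat_lit 13, nat_lit 0, nat_lit 0, nat_lit 0x0, nat_lit 0x0, [nat_lit 88, nat_lit 87]⟩, ⟨nat_lit 0, nat_lit 0x2040c004, nat_lit 13, nat_lit 0, nat_lit 0, nat_lit 0x0, nat_lit 0x0, [nat_lit 87, nat_lit 86]⟩, ⟨nat_lit 0, nat_lit 0xc2040c005, nat_lit 13, nat_lit 0, nat_lit 0, nat_lit 0x0, nat_lit 0x0, [nat_lit 86, nat_lit 85]⟩, ⟨nat_lit 0, nat_lit 0xb2040c005, nat_lit 13, nat_lit 0, nat_lit 0, nat_lit 0x0, nat_lit 0x0, [nat_lit 85, nat_lit 84]⟩, ⟨nat_lit 0, nat_lit 0x30b2040c006, nat_lit 13, nat_lit 0, nat_lit 0, nat_lit 0x0, nat_lit 0x0, [nat_lit 84, nat_lit 83]⟩, ⟨nat_lit 0, nat_lit 0x904003, nat_lit 13, nat_lit 0, nat_lit 0, nat_lit 0x0, nat_lit 0x0, [nat_lit 83, nat_lit 43]⟩, ⟨nat_lit 0, nat_lit 0x2c904004, nat_lit 13, nat_lit 0, nat_lit 0, nat_lit 0x0, nat_lit 0x0, [nat_lit 43, nat_lit 42]⟩, ⟨nat_lit 0, nat_lit 0x28904004, nat_lit 13, nat_lit 0, nat_lit 0, nat_lit 0x0, nat_lit 0x0, [nat_lit 84, nat_lit 42]⟩, ⟨nat_lit 0, nat_lit 0xb28904005, nat_lit 13, nat_lit 0, nat_lit 0, nat_lit 0x0, nat_lit 0x0, [nat_lit 42, nat_lit 41]⟩, ⟨nat_lit 0, nat_lit 0x24704004, nat_lit 13, nat_lit 0, nat_lit 0, nat_lit 0x0, nat_lit 0x0, [nat_lit 85, nat_lit 41]⟩, ⟨nat_lit 0, nat_lit 0xb24704005, nat_lit 13, nat_lit 0, nat_lit 0, nat_lit 0x0, nat_lit 0x0, [nat_lit 41, nat_lit 40]⟩, ⟨nat_lit 0, nat_lit 0xa24704005, nat_lit 13, nat_lit 0, nat_lit 0, nat_lit 0x0, nat_lit 0x0, [nat_lit 86, nat_lit 40]⟩, ⟨nat_lit 0, nat_lit 0x2ca24704006, nat_lit 13, nat_lit 0, nat_lit 0, nat_lit 0x0, nat_lit 0x0, [nat_lit 40, nat_lit 39]⟩, ⟨nat_lit 0, nat_lit 0x24404004, nat_lit 13, nat_lit 0, nat_lit 0, nat_lit 0x0, nat_lit 0x0, [nat_lit 87, nat_lit 39]⟩, ⟨nat_lit 0, nat_lit 0xb24404005, nat_lit 13, nat_lit 0, nat_lit 0, nat_lit 0x0, nat_lit 0x0, [nat_lit 39, nat_lit 38]⟩, ⟨nat_lit 0, nat_lit 0xa24404005, nat_lit 13, nat_lit 0, nat_lit 0, nat_lit 0x0, nat_lit 0x0, [nat_lit 88, nat_lit 38]⟩, ⟨nat_lit 0, nat_lit 0x2ca24404006, nat_lit 13, nat_lit 0, nat_lit 0, nat_lit 0x0, nat_lit 0x0, [nat_lit 38, nat_lit 37]⟩, ⟨nat_lit 0, nat_lit 0x1c304004, nat_lit 13, nat_lit 0, nat_lit 0, nat_lit 0x0, nat_lit 0x0, [nat_lit 89, nat_lit 88]⟩, ⟨nat_lit 0, nat_lit 0xb1c304005, nat_lit 13, nat_lit 0, nat_lit 0, nat_lit 0x0, nat_lit 0x0, [nat_lit 88, nat_lit 38]⟩, ⟨nat_lit 0, nat_lit 0x91c304005, nat_lit 13, nat_lit 0, nat_lit 0, nat_lit 0x0, nat_lit 0x0, [nat_lit 88, nat_lit 38]⟩, ⟨nat_lit 0, nat_lit 0x2c91c304006, nat_lit 13, nat_lit 0, nat_lit 0, nat_lit 0x0, nat_lit 0x0, [nat_lit 88, nat_lit 87]⟩, ⟨nat_lit 0, nat_lit 0x18304004, nat_lit 13, nat_lit 0, nat_lit 0, nat_lit 0x0, nat_lit 0x0, [nat_lit 87, nat_lit 86]⟩, ⟨nat_lit 0, nat_lit 0xc18304005, nat_lit 13, nat_lit 0, nat_lit 0, nat_lit 0x0, nat_lit 0x0, [nat_lit 86, nat_lit 85]⟩, ⟨nat_lit 0, nat_lit 0xb18304005, nat_lit 13, nat_lit 0, nat_lit 0, nat_lit 0x0, nat_lit 0x0, [nat_lit 85, nat_lit 41]⟩, ⟨nat_lit 0, nat_lit 0x30b18304006, nat_lit 13, nat_lit 0, nat_lit 0, nat_lit 0x0, nat_lit 0x0, [nat_lit 85, nat_lit 41]⟩, ⟨nat_lit 0, nat_lit 0x918304005, nat_lit 13, nat_lit 0, nat_lit 0, nat_lit 0x0, nat_lit 0x0, [nat_lit 85, nat_lit 84]⟩, ⟨nat_lit 0, nat_lit 0x2c918304006, nat_lit 13, nat_lit 0, nat_lit 0, nat_lit 0x0, nat_lit 0x0, [nat_lit 84, nat_lit 83]⟩, ⟨nat_lit 0, nat_lit 0x818304005, nat_lit 13, nat_lit 0, nat_lit 0, nat_lit 0x0, nat_lit 0x0, [nat_lit 83, nat_lit 43]⟩, ⟨nat_lit 0, nat_lit 0x2c818304006, nat_lit 13, nat_lit 0, nat_lit 0, nat_lit 0x0, nat_lit 0x0, [nat_lit 83, nat_lit 43]⟩, ⟨nat_lit 0, nat_lit 0x24818304006, nat_lit 13, nat_lit 0, nat_lit 0, nat_lit 0x0, nat_lit 0x0, [nat_lit 83, nat_lit 43]⟩, ⟨nat_lit 0, nat_lit 0x718304005, nat_lit 13, nat_lit 0, nat_lit 0, nat_lit 0x0, nat_lit 0x0, [nat_lit 83, nat_lit 43]⟩, ⟨nat_lit 0, nat_lit 0x20718304006, nat_lit 13, nat_lit 0, nat_lit 0, nat_lit 0x0, nat_lit 0x0, [nat_lit 43, nat_lit 42]⟩, ⟨nat_lit 0, nat_lit 0x14304004, nat_lit 13, nat_lit 0, nat_lit 0, nat_lit 0x0, nat_lit 0x0, [nat_lit 84, nat_lit 83]⟩, ⟨nat_lit 0, nat_lit 0xc14304005, nat_lit 13, nat_lit 0, nat_lit 0, nat_lit 0x0, nat_lit 0x0, [nat_lit 83, nat_lit 43]⟩, ⟨nat_lit 0, nat_lit 0x10304004, nat_lit 13, nat_lit 0, nat_lit 0, nat_lit 0x0, nat_lit 0x0, [nat_lit 83, nat_lit 43]⟩, ⟨nat_lit 0, nat_lit 0xb10304005, nat_lit 13, nat_lit 0, nat_lit 0, nat_lit 0x0, nat_lit 0x0, [nat_lit 83, nat_lit 43]⟩, ⟨nat_lit 0, nat_lit 0xa10304005, nat_lit 13, nat_lit 0, nat_lit 0, nat_lit 0x0, nat_lit 0x0, [nat_lit 83, nat_lit 43]⟩, ⟨nat_lit 0, nat_lit 0x2ca10304006, nat_lit 13, nat_lit 0, nat_lit 0, nat_lit 0x0, nat_lit 0x0, [nat_lit 83, nat_lit 43]⟩, ⟨nat_lit 0, nat_lit 0x610304005, nat_lit 13, nat_lit 0, nat_lit 0, nat_lit 0x0, nat_lit 0x0, [nat_lit 83, nat_lit 82]⟩, ⟨nat_lit 0, nat_lit 0x2c610304006, nat_lit 13, nat_lit 0, nat_lit 0, nat_lit 0x0, nat_lit 0x0, [nat_lit 82, nat_lit 44]⟩, ⟨nat_lit 0, nat_lit 0x28610304006, nat_lit 13, nat_lit 0, nat_lit 0, nat_lit 0x0, nat_lit 0x0, [nat_lit 82, nat_lit 81]⟩, ⟨nat_lit 0, nat_lit 0xb28610304007, nat_lit 13, nat_lit 0, nat_lit 0, nat_lit 0x0, nat_lit 0x0, [nat_lit 81, nat_lit 45]⟩, ⟨nat_lit 0, nat_lit 0x90c204005, nat_lit 13, nat_lit 0, nat_lit 0, nat_lit 0x0, nat_lit 0x0, [nat_lit 45, nat_lit 44]⟩, ⟨nat_lit 0, nat_lit 0x3090c204006, nat_lit 13, nat_lit 0, nat_lit 0, nat_lit 0x0, nat_lit 0x0, [nat_lit 82, nat_lit 44]⟩, ⟨nat_lit 2, nat_lit 0x4002, nat_lit 13, nat_lit 1, nat_lit 12, nat_lit 0x0, nat_lit 0x1001, []⟩, ⟨nat_lit 2, nat_lit 0xc04003, nat_lit 13, nat_lit 1, nat_lit 12, nat_lit 0x0, nat_lit 0x45002, []⟩, ⟨nat_lit 2, nat_lit 0xa04003, nat_lit 13, nat_lit 1, nat_lit 12, nat_lit 0x0, nat_lit 0x1101, []⟩, ⟨nat_lit 2, nat_lit 0x30a04004, nat_lit 13, nat_lit 1, nat_lit 12, nat_lit 0x0, nat_lit 0x1101, []⟩, ⟨nat_lit 1, nat_lit 0x30904004, nat_lit 13, nat_lit 1, nat_lit 42, nat_lit 0x901, nat_lit 0x1001, []⟩, ⟨nat_lit 1, nat_lit 0xc2c904005, nat_lit 13, nat_lit 1, nat_lit 42, nat_lit 0x901, nat_lit 0x1001, []⟩, ⟨nat_lit 1, nat_lit 0xc28904005, nat_lit 13, nat_lit 1, nat_lit 42, nat_lit 0x901, nat_lit 0x0, []⟩, ⟨nat_lit 1, nat_lit 0x30b28904006, nat_lit 13, nat_lit 1, nat_lit 42, nat_lit 0x901, nat_lit 0x0, []⟩, ⟨nat_lit 2, nat_lit 0x704003, nat_lit 13, nat_lit 1, nat_lit 12, nat_lit 0x0, nat_lit 0x1001, []⟩, ⟨nat_lit 2, nat_lit 0x30704004, nat_lit 13, nat_lit 1, nat_lit 12, nat_lit 0x0, nat_lit 0x45002, []⟩, ⟨nat_lit 2, nat_lit 0x28704004, nat_lit 13, nat_lit 1, nat_lit 12, nat_lit 0x0, nat_lit 0x40f02, []⟩, ⟨nat_lit 2, nat_lit 0xc28704005, nat_lit 13, nat_lit 1, nat_lit 12, nat_lit 0x0, nat_lit 0x40f02, []⟩, ⟨nat_lit 1, nat_lit 0xc24704005, nat_lit 13, nat_lit 1, nat_lit 46, nat_lit 0x901, nat_lit 0x1001, []⟩, ⟨nat_lit 1, nat_lit 0x30b24704006, nat_lit 13, nat_lit 1, nat_lit 46, nat_lit 0x901, nat_lit 0x1001, []⟩, ⟨nat_lit 1, nat_lit 0x30a24704006, nat_lit 13, nat_lit 1, nat_lit 46, nat_lit 0x901, nat_lit 0x0, []⟩, ⟨nat_lit 1, nat_lit 0xc2ca24704007, nat_lit 13, nat_lit 1, nat_lit 46, nat_lit 0x901, nat_lit 0x0, []⟩, ⟨nat_lit 2, nat_lit 0x404003, nat_lit 13, nat_lit 1, nat_lit 12, nat_lit 0x0, nat_lit 0x1001, []⟩, ⟨nat_lit 2, nat_lit 0x30404004, nat_lit 13, nat_lit 1, nat_lit 12, nat_lit 0x0, nat_lit 0x45002, []⟩, ⟨nat_lit 2, nat_lit 0x2c404004, nat_lit 13, nat_lit 1, nat_lit 12, nat_lit 0x0, nat_lit 0x4503cd04, []⟩, ⟨nat_lit 2, nat_lit 0xc2c404005, nat_lit 13, nat_lit 1, nat_lit 12, nat_lit 0x0, nat_lit 0x103cd03, []⟩, ⟨nat_lit 2, nat_lit 0x28404004, nat_lit 13, nat_lit 1, nat_lit 12, nat_lit 0x0, nat_lit 0x44e02, []⟩, ⟨nat_lit 2, nat_lit 0xc28404005, nat_lit 13, nat_lit 1, nat_lit 12, nat_lit 0x0, nat_lit 0x44e02, []⟩, ⟨nat_lit 2, nat_lit 0xb28404005, nat_lit 13, nat_lit 1, nat_lit 12, nat_lit 0x0, nat_lit 0xf38d03, []⟩, ⟨nat_lit 2, nat_lit 0x30b28404006, nat_lit 13, nat_lit 1, nat_lit 12, nat_lit 0x0, nat_lit 0xf38d03, []⟩, ⟨nat_lit 1, nat_lit 0xc24404005, nat_lit 13, nat_lit 1, nat_lit 54, nat_lit 0x901, nat_lit 0x1001, []⟩, ⟨nat_lit 1, nat_lit 0x30b24404006, nat_lit 13, nat_lit 1, nat_lit 54, nat_lit 0x901, nat_lit 0x1001, []⟩, ⟨nat_lit 1, nat_lit 0x30a24404006, nat_lit 13, nat_lit 1, nat_lit 54, nat_lit 0x901, nat_lit 0x0, []⟩, ⟨nat_lit 1, nat_lit 0xc2ca24404007, nat_lit 13, nat_lit 1, nat_lit 54, nat_lit 0x901, nat_lit 0x0, []⟩, ⟨nat_lit 2, nat_lit 0x304003, nat_lit 13, nat_lit 1, nat_lit 12, nat_lit 0x0, nat_lit 0xd01, []⟩, ⟨nat_lit 2, nat_lit 0x30304004, nat_lit 13, nat_lit 1, nat_lit 12, nat_lit 0x0, nat_lit 0x44d02, []⟩, ⟨nat_lit 2, nat_lit 0x2c304004, nat_lit 13, nat_lit 1, nat_lit 12, nat_lit 0x0, nat_lit 0xd01, []⟩, ⟨nat_lit 2, nat_lit 0xc2c304005, nat_lit 13, nat_lit 1, nat_lit 12, nat_lit 0x0, nat_lit 0x44d02, []⟩, ⟨nat_lit 1, nat_lit 0xc1c304005, nat_lit 13, nat_lit 1, nat_lit 58, nat_lit 0x701, nat_lit 0xd01, []⟩, ⟨nat_lit 1, nat_lit 0x30b1c304006, nat_lit 13, nat_lit 1, nat_lit 58, nat_lit 0x701, nat_lit 0xd01, []⟩, ⟨nat_lit 1, nat_lit 0x3091c304006, nat_lit 13, nat_lit 1, nat_lit 58, nat_lit 0x701, nat_lit 0xd01, []⟩, ⟨nat_lit 1, nat_lit 0xc2c91c304007, nat_lit 13, nat_lit 1, nat_lit 58, nat_lit 0x701, nat_lit 0xd01, []⟩, ⟨nat_lit 1, nat_lit 0x30918304006, nat_lit 13, nat_lit 1, nat_lit 54, nat_lit 0x301, nat_lit 0x1001, []⟩, ⟨nat_lit 1, nat_lit 0xc2c918304007, nat_lit 13, nat_lit 1, nat_lit 54, nat_lit 0x301, nat_lit 0x4503cd04, []⟩, ⟨nat_lit 1, nat_lit 0x30818304006, nat_lit 13, nat_lit 1, nat_lit 54, nat_lit 0x401, nat_lit 0x38d02, []⟩, ⟨nat_lit 1, nat_lit 0xc2c818304007, nat_lit 13, nat_lit 1, nat_lit 54, nat_lit 0x401, nat_lit 0x38d02, []⟩, ⟨nat_lit 1, nat_lit 0xc24818304007, nat_lit 13, nat_lit 1, nat_lit 54, nat_lit 0x401, nat_lit 0x38d02, []⟩, ⟨nat_lit 1, nat_lit 0x30718304006, nat_lit 13, nat_lit 1, nat_lit 54, nat_lit 0x601, nat_lit 0xd01, []⟩, ⟨nat_lit 1, nat_lit 0xc20718304007, nat_lit 13, nat_lit 1, nat_lit 54, nat_lit 0x601, nat_lit 0x1001, []⟩, ⟨nat_lit 1, nat_lit 0xc10304005, nat_lit 13, nat_lit 1, nat_lit 52, nat_lit 0x801, nat_lit 0x1140e03, []⟩, ⟨nat_lit 1, nat_lit 0x30b10304006, nat_lit 13, nat_lit 1, nat_lit 52, nat_lit 0x801, nat_lit 0x1140e03, []⟩, ⟨nat_lit 1, nat_lit 0x30a10304006, nat_lit 13, nat_lit 1, nat_lit 52, nat_lit 0x801, nat_lit 0x1140e03, []⟩, ⟨nat_lit 1, nat_lit 0xc2ca10304007, nat_lit 13, nat_lit 1, nat_lit 52, nat_lit 0x801, nat_lit 0x1140e03, []⟩, ⟨nat_lit 2, nat_lit 0x810304005, nat_lit 13, nat_lit 1, nat_lit 12, nat_lit 0x0, nat_lit 0x40e02, []⟩, ⟨nat_lit 2, nat_lit 0x30810304006, nat_lit 13, nat_lit 1, nat_lit 12, nat_lit 0x0, nat_lit 0x40e02, []⟩, ⟨nat_lit 2, nat_lit 0x2c810304006, nat_lit 13, nat_lit 1, nat_lit 12, nat_lit 0x0, nat_lit 0x40e02, []⟩, ⟨nat_lit 2, nat_lit 0xc2c810304007, nat_lit 13, nat_lit 1, nat_lit 12, nat_lit 0x0, nat_lit 0x40e02, []⟩, ⟨nat_lit 1, nat_lit 0x30610304006, nat_lit 13, nat_lit 1, nat_lit 56, nat_lit 0x801, nat_lit 0x1138d03, []⟩, ⟨nat_lit 1, nat_lit 0xc2c610304007, nat_lit 13, nat_lit 1, nat_lit 56, nat_lit 0x801, nat_lit 0x1138d03, []⟩, ⟨nat_lit 1, nat_lit 0xc28610304007, nat_lit 13, nat_lit 1, nat_lit 56, nat_lit 0x801, nat_lit 0x1138d03, []⟩, ⟨nat_lit 1, nat_lit 0x30b28610304008, nat_lit 13, nat_lit 1, nat_lit 56, nat_lit 0x801, nat_lit 0x1138d03, []⟩, ⟨nat_lit 2, nat_lit 0x20610304006, nat_lit 13, nat_lit 1, nat_lit 12, nat_lit 0x0, nat_lit 0x38d02, []⟩, ⟨nat_lit 2, nat_lit 0xc20610304007, nat_lit 13, nat_lit 1, nat_lit 12, nat_lit 0x0, nat_lit 0x38d02, []⟩, ⟨nat_lit 2, nat_lit 0xb20610304007, nat_lit 13, nat_lit 1, nat_lit 12, nat_lit 0x0, nat_lit 0x45038d04, []⟩, ⟨nat_lit 2, nat_lit 0x30b20610304008, nat_lit 13, nat_lit 1, nat_lit 12, nat_lit 0x0, nat_lit 0x45038d04, []⟩, ⟨nat_lit 0, nat_lit 0x80c003, nat_lit 12, nat_lit 0, nat_lit 0, nat_lit 0x0, nat_lit 0x0, [nat_lit 103, nat_lit 102]⟩, ⟨nat_lit 0, nat_lit 0x2040c004, nat_lit 12, nat_lit 0, nat_lit 0, nat_lit 0x0, nat_lit 0x0, [nat_lit 102, nat_lit 101]⟩, ⟨nat_lit 0, nat_lit 0xb2040c005, nat_lit 12, nat_lit 0, nat_lit 0, nat_lit 0x0, nat_lit 0x0, [nat_lit 101, nat_lit 100]⟩, ⟨nat_lit 0, nat_lit 0x4002, nat_lit 12, nat_lit 0, nat_lit 0, nat_lit 0x0, nat_lit 0x0, [nat_lit 61, nat_lit 60]⟩, ⟨nat_lit 0, nat_lit 0xa04003, nat_lit 12, nat_lit 0, nat_lit 0, nat_lit 0x0, nat_lit 0x0, [nat_lit 60, nat_lit 59]⟩, ⟨nat_lit 0, nat_lit 0x904003, nat_lit 12, nat_lit 0, nat_lit 0, nat_lit 0x0, nat_lit 0x0, [nat_lit 102, nat_lit 59]⟩, ⟨nat_lit 0, nat_lit 0x2c904004, nat_lit 12, nat_lit 0, nat_lit 0, nat_lit 0x0, nat_lit 0x0, [nat_lit 102, nat_lit 59]⟩, ⟨nat_lit 0, nat_lit 0x28904004, nat_lit 12, nat_lit 0, nat_lit 0, nat_lit 0x0, nat_lit 0x0, [nat_lit 102, nat_lit 59]⟩, ⟨nat_lit 0, nat_lit 0xb28904005, nat_lit 12, nat_lit 0, nat_lit 0, nat_lit 0x0, nat_lit 0x0, [nat_lit 102, nat_lit 59]⟩, ⟨nat_lit 0, nat_lit 0x704003, nat_lit 12, nat_lit 0, nat_lit 0, nat_lit 0x0, nat_lit 0x0, [nat_lit 59, nat_lit 58]⟩, ⟨nat_lit 0, nat_lit 0x28704004, nat_lit 12, nat_lit 0, nat_lit 0, nat_lit 0x0, nat_lit 0x0, [nat_lit 58, nat_lit 57]⟩, ⟨nat_lit 0, nat_lit 0x24704004, nat_lit 12, nat_lit 0, nat_lit 0, nat_lit 0x0, nat_lit 0x0, [nat_lit 104, nat_lit 57]⟩, ⟨nat_lit 0, nat_lit 0xb24704005, nat_lit 12, nat_lit 0, nat_lit 0, nat_lit 0x0, nat_lit 0x0, [nat_lit 104, nat_lit 57]⟩, ⟨nat_lit 0, nat_lit 0xa24704005, nat_lit 12, nat_lit 0, nat_lit 0, nat_lit 0x0, nat_lit 0x0, [nat_lit 104, nat_lit 57]⟩, ⟨nat_lit 0, nat_lit 0x2ca24704006, nat_lit 12, nat_lit 0, nat_lit 0, nat_lit 0x0, nat_lit 0x0, [nat_lit 104, nat_lit 57]⟩, ⟨nat_lit 0, nat_lit 0x404003, nat_lit 12, nat_lit 0, nat_lit 0, nat_lit 0x0, nat_lit 0x0, [nat_lit 57, nat_lit 56]⟩, ⟨nat_lit 0, nat_lit 0x2c404004, nat_lit 12, nat_lit 0, nat_lit 0, nat_lit 0x0, nat_lit 0x0, [nat_lit 56, nat_lit 55]⟩, ⟨nat_lit 0, nat_lit 0x28404004, nat_lit 12, nat_lit 0, nat_lit 0, nat_lit 0x0, nat_lit 0x0, [nat_lit 55, nat_lit 54]⟩, ⟨nat_lit 0, nat_lit 0xb28404005, nat_lit 12, nat_lit 0, nat_lit 0, nat_lit 0x0, nat_lit 0x0, [nat_lit 54, nat_lit 53]⟩, ⟨nat_lit 0, nat_lit 0x24404004, nat_lit 12, nat_lit 0, nat_lit 0, nat_lit 0x0, nat_lit 0x0, [nat_lit 108, nat_lit 53]⟩, ⟨nat_lit 0, nat_lit 0xb24404005, nat_lit 12, nat_lit 0, nat_lit 0, nat_lit 0x0, nat_lit 0x0, [nat_lit 108, nat_lit 53]⟩, ⟨nat_lit 0, nat_lit 0xa24404005, nat_lit 12, nat_lit 0, nat_lit 0, nat_lit 0x0, nat_lit 0x0, [nat_lit 108, nat_lit 53]⟩, ⟨nat_lit 0, nat_lit 0x2ca24404006, nat_lit 12, nat_lit 0, nat_lit 0, nat_lit 0x0, nat_lit 0x0, [nat_lit 108, nat_lit 53]⟩, ⟨nat_lit 0, nat_lit 0x304003, nat_lit 12, nat_lit 0, nat_lit 0, nat_lit 0x0, nat_lit 0x0, [nat_lit 53, nat_lit 52]⟩, ⟨nat_lit 0, nat_lit 0x2c304004, nat_lit 12, nat_lit 0, nat_lit 0, nat_lit 0x0, nat_lit 0x0, [nat_lit 52, nat_lit 51]⟩, ⟨nat_lit 0, nat_lit 0x1c304004, nat_lit 12, nat_lit 0, nat_lit 0, nat_lit 0x0, nat_lit 0x0, [nat_lit 110, nat_lit 51]⟩, ⟨nat_lit 0, nat_lit 0xb1c304005, nat_lit 12, nat_lit 0, nat_lit 0, nat_lit 0x0, nat_lit 0x0, [nat_lit 110, nat_lit 51]⟩, ⟨nat_lit 0, nat_lit 0x91c304005, nat_lit 12, nat_lit 0, nat_lit 0, nat_lit 0x0, nat_lit 0x0, [nat_lit 110, nat_lit 51]⟩, ⟨nat_lit 0, nat_lit 0x2c91c304006, nat_lit 12, nat_lit 0, nat_lit 0, nat_lit 0x0, nat_lit 0x0, [nat_lit 110, nat_lit 51]⟩, ⟨nat_lit 0, nat_lit 0x18304004, nat_lit 12, nat_lit 0, nat_lit 0, nat_lit 0x0, nat_lit 0x0, [nat_lit 110, nat_lit 109]⟩, ⟨nat_lit 0, nat_lit 0xb18304005, nat_lit 12, nat_lit 0, nat_lit 0, nat_lit 0x0, nat_lit 0x0, [nat_lit 109, nat_lit 108]⟩, ⟨nat_lit 0, nat_lit 0x918304005, nat_lit 12, nat_lit 0, nat_lit 0, nat_lit 0x0, nat_lit 0x0, [nat_lit 108, nat_lit 53]⟩, ⟨nat_lit 0, nat_lit 0x2c918304006, nat_lit 12, nat_lit 0, nat_lit 0, nat_lit 0x0, nat_lit 0x0, [nat_lit 108, nat_lit 53]⟩, ⟨nat_lit 0, nat_lit 0x818304005, nat_lit 12, nat_lit 0, nat_lit 0, nat_lit 0x0, nat_lit 0x0, [nat_lit 108, nat_lit 53]⟩, ⟨nat_lit 0, nat_lit 0x2c818304006, nat_lit 12, nat_lit 0, nat_lit 0, nat_lit 0x0, nat_lit 0x0, [nat_lit 108, nat_lit 53]⟩, ⟨nat_lit 0, nat_lit 0x24818304006, nat_lit 12, nat_lit 0, nat_lit 0, nat_lit 0x0, nat_lit 0x0, [nat_lit 108, nat_lit 53]⟩, ⟨nat_lit 0, nat_lit 0x718304005, nat_lit 12, nat_lit 0, nat_lit 0, nat_lit 0x0, nat_lit 0x0, [nat_lit 108, nat_lit 53]⟩, ⟨nat_lit 0, nat_lit 0x20718304006, nat_lit 12, nat_lit 0, nat_lit 0, nat_lit 0x0, nat_lit 0x0, [nat_lit 108, nat_lit 53]⟩, ⟨nat_lit 0, nat_lit 0x14304004, nat_lit 12, nat_lit 0, nat_lit 0, nat_lit 0x0, nat_lit 0x0, [nat_lit 108, nat_lit 107]⟩, ⟨nat_lit 0, nat_lit 0x10304004, nat_lit 12, nat_lit 0, nat_lit 0, nat_lit 0x0, nat_lit 0x0, [nat_lit 107, nat_lit 54]⟩, ⟨nat_lit 0, nat_lit 0xb10304005, nat_lit 12, nat_lit 0, nat_lit 0, nat_lit 0x0, nat_lit 0x0, [nat_lit 107, nat_lit 54]⟩, ⟨nat_lit 0, nat_lit 0xa10304005, nat_lit 12, nat_lit 0, nat_lit 0, nat_lit 0x0, nat_lit 0x0, [nat_lit 107, nat_lit 54]⟩, ⟨nat_lit 0, nat_lit 0x2ca10304006, nat_lit 12, nat_lit 0, nat_lit 0, nat_lit 0x0, nat_lit 0x0, [nat_lit 107, nat_lit 54]⟩, ⟨nat_lit 0, nat_lit 0x810304005, nat_lit 12, nat_lit 0, nat_lit 0, nat_lit 0x0, nat_lit 0x0, [nat_lit 54, nat_lit 53]⟩, ⟨nat_lit 0, nat_lit 0x2c810304006, nat_lit 12, nat_lit 0, nat_lit 0, nat_lit 0x0, nat_lit 0x0, [nat_lit 53, nat_lit 52]⟩, ⟨nat_lit 0, nat_lit 0x610304005, nat_lit 12, nat_lit 0, nat_lit 0, nat_lit 0x0, nat_lit 0x0, [nat_lit 109, nat_lit 52]⟩, ⟨nat_lit 0, nat_lit 0x2c610304006, nat_lit 12, nat_lit 0, nat_lit 0, nat_lit 0x0, nat_lit 0x0, [nat_lit 109, nat_lit 52]⟩, ⟨nat_lit 0, nat_lit 0x28610304006, nat_lit 12, nat_lit 0, nat_lit 0, nat_lit 0x0, nat_lit 0x0, [nat_lit 109, nat_lit 52]⟩, ⟨nat_lit 0, nat_lit 0xb28610304007, nat_lit 12, nat_lit 0, nat_lit 0, nat_lit 0x0, nat_lit 0x0, [nat_lit 109, nat_lit 52]⟩, ⟨nat_lit 0, nat_lit 0x20610304006, nat_lit 12, nat_lit 0, nat_lit 0, nat_lit 0x0, nat_lit 0x0, [nat_lit 52, nat_lit 51]⟩, ⟨nat_lit 0, nat_lit 0xb20610304007, nat_lit 12, nat_lit 0, nat_lit 0, nat_lit 0x0, nat_lit 0x0, [nat_lit 51, nat_lit 50]⟩, ⟨nat_lit 0, nat_lit 0x90c204005, nat_lit 12, nat_lit 0, nat_lit 0, nat_lit 0x0, nat_lit 0x0, [nat_lit 111, nat_lit 110]⟩, ⟨nat_lit 1, nat_lit 0x2c80c004, nat_lit 12, nat_lit 1, nat_lit 51, nat_lit 0x20502, nat_lit 0x45002, []⟩, ⟨nat_lit 1, nat_lit 0xb04003, nat_lit 12, nat_lit 1, nat_lit 49, nat_lit 0x201, nat_lit 0x44e02, []⟩, ⟨nat_lit 1, nat_lit 0x2ca04004, nat_lit 12, nat_lit 1, nat_lit 49, nat_lit 0x201, nat_lit 0x113ce03, []⟩, ⟨nat_lit 1, nat_lit 0x2c704004, nat_lit 12, nat_lit 1, nat_lit 45, nat_lit 0x201, nat_lit 0x4503ce34c06, []⟩, ⟨nat_lit 1, nat_lit 0xb28704005, nat_lit 12, nat_lit 1, nat_lit 45, nat_lit 0x201, nat_lit 0x40e34c04, []⟩, ⟨nat_lit 1, nat_lit 0xb24818304007, nat_lit 12, nat_lit 1, nat_lit 21, nat_lit 0x8102, nat_lit 0x0, []⟩, ⟨nat_lit 1, nat_lit 0x2c718304006, nat_lit 12, nat_lit 1, nat_lit 21, nat_lit 0x501, nat_lit 0x40f34c04, []⟩, ⟨nat_lit 1, nat_lit 0xb20718304007, nat_lit 12, nat_lit 1, nat_lit 21, nat_lit 0x501, nat_lit 0x4503cc04, []⟩, ⟨nat_lit 1, nat_lit 0xb14304005, nat_lit 12, nat_lit 1, nat_lit 21, nat_lit 0x701, nat_lit 0x40e02, []⟩, ⟨nat_lit 2, nat_lit 0x714304005, nat_lit 12, nat_lit 1, nat_lit 11, nat_lit 0x0, nat_lit 0x40e02, []⟩, ⟨nat_lit 2, nat_lit 0x2c714304006, nat_lit 12, nat_lit 1, nat_lit 11, nat_lit 0x0, nat_lit 0x44e02, []⟩, ⟨nat_lit 2, nat_lit 0xc204004, nat_lit 12, nat_lit 1, nat_lit 11, nat_lit 0x0, nat_lit 0x44c02, []⟩, ⟨nat_lit 2, nat_lit 0xb0c204005, nat_lit 12, nat_lit 1, nat_lit 11, nat_lit 0x0, nat_lit 0xf34c03, []⟩, ⟨nat_lit 1, nat_lit 0x2c90c204006, nat_lit 12, nat_lit 1, nat_lit 13, nat_lit 0x901, nat_lit 0xf34c03, []⟩, ⟨nat_lit 0, nat_lit 0x80c003, nat_lit 11, nat_lit 0, nat_lit 0, nat_lit 0x0, nat_lit 0x0, [nat_lit 65, nat_lit 13]⟩, ⟨nat_lit 0, nat_lit 0x2040c004, nat_lit 11, nat_lit 0, nat_lit 0, nat_lit 0x0, nat_lit 0x0, [nat_lit 65, nat_lit 64]⟩, ⟨nat_lit 0, nat_lit 0x4002, nat_lit 11, nat_lit 0, nat_lit 0, nat_lit 0x0, nat_lit 0x0, [nat_lit 64, nat_lit 14]⟩, ⟨nat_lit 0, nat_lit 0xa04003, nat_lit 11, nat_lit 0, nat_lit 0, nat_lit 0x0, nat_lit 0x0, [nat_lit 64, nat_lit 14]⟩, ⟨nat_lit 0, nat_lit 0x904003, nat_lit 11, nat_lit 0, nat_lit 0, nat_lit 0x0, nat_lit 0x0, [nat_lit 64, nat_lit 63]⟩, ⟨nat_lit 0, nat_lit 0x28904004, nat_lit 11, nat_lit 0, nat_lit 0, nat_lit 0x0, nat_lit 0x0, [nat_lit 63, nat_lit 62]⟩, ⟨nat_lit 0, nat_lit 0x704003, nat_lit 11, nat_lit 0, nat_lit 0, nat_lit 0x0, nat_lit 0x0, [nat_lit 62, nat_lit 16]⟩, ⟨nat_lit 0, nat_lit 0x28704004, nat_lit 11, nat_lit 0, nat_lit 0, nat_lit 0x0, nat_lit 0x0, [nat_lit 62, nat_lit 16]⟩, ⟨nat_lit 0, nat_lit 0x24704004, nat_lit 11, nat_lit 0, nat_lit 0, nat_lit 0x0, nat_lit 0x0, [nat_lit 62, nat_lit 61]⟩, ⟨nat_lit 0, nat_lit 0xa24704005, nat_lit 11, nat_lit 0, nat_lit 0, nat_lit 0x0, nat_lit 0x0, [nat_lit 61, nat_lit 60]⟩, ⟨nat_lit 0, nat_lit 0x404003, nat_lit 11, nat_lit 0, nat_lit 0, nat_lit 0x0, nat_lit 0x0, [nat_lit 60, nat_lit 59]⟩, ⟨nat_lit 0, nat_lit 0x28404004, nat_lit 11, nat_lit 0, nat_lit 0, nat_lit 0x0, nat_lit 0x0, [nat_lit 59, nat_lit 58]⟩, ⟨nat_lit 0, nat_lit 0x24404004, nat_lit 11, nat_lit 0, nat_lit 0, nat_lit 0x0, nat_lit 0x0, [nat_lit 58, nat_lit 57]⟩, ⟨nat_lit 0, nat_lit 0xa24404005, nat_lit 11, nat_lit 0, nat_lit 0, nat_lit 0x0, nat_lit 0x0, [nat_lit 57, nat_lit 56]⟩, ⟨nat_lit 0, nat_lit 0x304003, nat_lit 11, nat_lit 0, nat_lit 0, nat_lit 0x0, nat_lit 0x0, [nat_lit 56, nat_lit 55]⟩, ⟨nat_lit 0, nat_lit 0x1c304004, nat_lit 11, nat_lit 0, nat_lit 0, nat_lit 0x0, nat_lit 0x0, [nat_lit 55, nat_lit 54]⟩, ⟨nat_lit 0, nat_lit 0x91c304005, nat_lit 11, nat_lit 0, nat_lit 0, nat_lit 0x0, nat_lit 0x0, [nat_lit 54, nat_lit 53]⟩, ⟨nat_lit 0, nat_lit 0x18304004, nat_lit 11, nat_lit 0, nat_lit 0, nat_lit 0x0, nat_lit 0x0, [nat_lit 53, nat_lit 52]⟩, ⟨nat_lit 0, nat_lit 0x918304005, nat_lit 11, nat_lit 0, nat_lit 0, nat_lit 0x0, nat_lit 0x0, [nat_lit 52, nat_lit 51]⟩, ⟨nat_lit 0, nat_lit 0x818304005, nat_lit 11, nat_lit 0, nat_lit 0, nat_lit 0x0, nat_lit 0x0, [nat_lit 51, nat_lit 50]⟩, ⟨nat_lit 0, nat_lit 0x24818304006, nat_lit 11, nat_lit 0, nat_lit 0, nat_lit 0x0, nat_lit 0x0, [nat_lit 50, nat_lit 28]⟩, ⟨nat_lit 0, nat_lit 0x718304005, nat_lit 11, nat_lit 0, nat_lit 0, nat_lit 0x0, nat_lit 0x0, [nat_lit 50, nat_lit 28]⟩, ⟨nat_lit 0, nat_lit 0x20718304006, nat_lit 11, nat_lit 0, nat_lit 0, nat_lit 0x0, nat_lit 0x0, [nat_lit 50, nat_lit 28]⟩, ⟨nat_lit 0, nat_lit 0x14304004, nat_lit 11, nat_lit 0, nat_lit 0, nat_lit 0x0, nat_lit 0x0, [nat_lit 50, nat_lit 28]⟩, ⟨nat_lit 0, nat_lit 0x714304005, nat_lit 11, nat_lit 0, nat_lit 0, nat_lit 0x0, nat_lit 0x0, [nat_lit 28, nat_lit 27]⟩, ⟨nat_lit 0, nat_lit 0x10304004, nat_lit 11, nat_lit 0, nat_lit 0, nat_lit 0x0, nat_lit 0x0, [nat_lit 51, nat_lit 50]⟩, ⟨nat_lit 0, nat_lit 0xa10304005, nat_lit 11, nat_lit 0, nat_lit 0, nat_lit 0x0, nat_lit 0x0, [nat_lit 50, nat_lit 49]⟩, ⟨nat_lit 0, nat_lit 0x810304005, nat_lit 11, nat_lit 0, nat_lit 0, nat_lit 0x0, nat_lit 0x0, [nat_lit 49, nat_lit 48]⟩, ⟨nat_lit 0, nat_lit 0x610304005, nat_lit 11, nat_lit 0, nat_lit 0, nat_lit 0x0, nat_lit 0x0, [nat_lit 48, nat_lit 47]⟩, ⟨nat_lit 0, nat_lit 0x28610304006, nat_lit 11, nat_lit 0, nat_lit 0, nat_lit 0x0, nat_lit 0x0, [nat_lit 47, nat_lit 46]⟩, ⟨nat_lit 0, nat_lit 0x20610304006, nat_lit 11, nat_lit 0, nat_lit 0, nat_lit 0x0, nat_lit 0x0, [nat_lit 46, nat_lit 45]⟩, ⟨nat_lit 0, nat_lit 0xc204004, nat_lit 11, nat_lit 0, nat_lit 0, nat_lit 0x0, nat_lit 0x0, [nat_lit 33, nat_lit 32]⟩, ⟨nat_lit 0, nat_lit 0x90c204005, nat_lit 11, nat_lit 0, nat_lit 0, nat_lit 0x0, nat_lit 0x0, [nat_lit 46, nat_lit 32]⟩, ⟨nat_lit 2, nat_lit 0xc002, nat_lit 11, nat_lit 1, nat_lit 10, nat_lit 0x0, nat_lit 0x40c02, []⟩, ⟨nat_lit 2, nat_lit 0xa0c003, nat_lit 11, nat_lit 1, nat_lit 10, nat_lit 0x0, nat_lit 0x45038c04, []⟩, ⟨nat_lit 1, nat_lit 0x2880c004, nat_lit 11, nat_lit 1, nat_lit 34, nat_lit 0x801, nat_lit 0x1138c03, []⟩, ⟨nat_lit 2, nat_lit 0x40c003, nat_lit 11, nat_lit 1, nat_lit 10, nat_lit 0x0, nat_lit 0x1038d03, []⟩, ⟨nat_lit 2, nat_lit 0x2840c004, nat_lit 11, nat_lit 1, nat_lit 10, nat_lit 0x0, nat_lit 0x45038d04, []⟩, ⟨nat_lit 1, nat_lit 0xa2040c005, nat_lit 11, nat_lit 1, nat_lit 36, nat_lit 0x801, nat_lit 0x1138d03, []⟩, ⟨nat_lit 1, nat_lit 0x28304004, nat_lit 11, nat_lit 1, nat_lit 24, nat_lit 0x501, nat_lit 0x44f34b04, []⟩, ⟨nat_lit 1, nat_lit 0xa1c304005, nat_lit 11, nat_lit 1, nat_lit 24, nat_lit 0x501, nat_lit 0x38c02, []⟩, ⟨nat_lit 1, nat_lit 0x2891c304006, nat_lit 11, nat_lit 1, nat_lit 24, nat_lit 0x501, nat_lit 0x3cc02, []⟩, ⟨nat_lit 1, nat_lit 0xa18304005, nat_lit 11, nat_lit 1, nat_lit 24, nat_lit 0x201, nat_lit 0x1138d03, []⟩, ⟨nat_lit 1, nat_lit 0x28918304006, nat_lit 11, nat_lit 1, nat_lit 24, nat_lit 0x201, nat_lit 0xf30b03, []⟩, ⟨nat_lit 1, nat_lit 0x28818304006, nat_lit 11, nat_lit 1, nat_lit 24, nat_lit 0x201, nat_lit 0x45038d04, []⟩, ⟨nat_lit 1, nat_lit 0xa24818304007, nat_lit 11, nat_lit 1, nat_lit 24, nat_lit 0x201, nat_lit 0x40f30b04, []⟩, ⟨nat_lit 1, nat_lit 0x28718304006, nat_lit 11, nat_lit 1, nat_lit 24, nat_lit 0x201, nat_lit 0x1138c03, []⟩, ⟨nat_lit 1, nat_lit 0xa20718304007, nat_lit 11, nat_lit 1, nat_lit 24, nat_lit 0x201, nat_lit 0x1038c03, []⟩, ⟨nat_lit 1, nat_lit 0xa14304005, nat_lit 11, nat_lit 1, nat_lit 24, nat_lit 0x601, nat_lit 0x34b02, []⟩, ⟨nat_lit 1, nat_lit 0x28714304006, nat_lit 11, nat_lit 1, nat_lit 24, nat_lit 0x601, nat_lit 0x44e30b04, []⟩, ⟨nat_lit 2, nat_lit 0x614304005, nat_lit 11, nat_lit 1, nat_lit 10, nat_lit 0x0, nat_lit 0xe30b03, []⟩, ⟨nat_lit 2, nat_lit 0x28614304006, nat_lit 11, nat_lit 1, nat_lit 10, nat_lit 0x0, nat_lit 0x113ce30b05, []⟩, ⟨nat_lit 2, nat_lit 0x1c614304006, nat_lit 11, nat_lit 1, nat_lit 10, nat_lit 0x0, nat_lit 0x1140f38d05, []⟩, ⟨nat_lit 2, nat_lit 0xa1c614304007, nat_lit 11, nat_lit 1, nat_lit 10, nat_lit 0x0, nat_lit 0x44f38d04, []⟩, ⟨nat_lit 1, nat_lit 0x28810304006, nat_lit 11, nat_lit 1, nat_lit 26, nat_lit 0x14102, nat_lit 0x38d02, []⟩, ⟨nat_lit 1, nat_lit 0xa20610304007, nat_lit 11, nat_lit 1, nat_lit 24, nat_lit 0x101, nat_lit 0x103ce34c05, []⟩, ⟨nat_lit 2, nat_lit 0x18204004, nat_lit 11, nat_lit 1, nat_lit 10, nat_lit 0x0, nat_lit 0x1140f03, []⟩, ⟨nat_lit 2, nat_lit 0xa18204005, nat_lit 11, nat_lit 1, nat_lit 10, nat_lit 0x0, nat_lit 0x1140f03, []⟩, ⟨nat_lit 2, nat_lit 0x918204005, nat_lit 11, nat_lit 1, nat_lit 10, nat_lit 0x0, nat_lit 0x113cb03, []⟩, ⟨nat_lit 2, nat_lit 0x28918204006, nat_lit 11, nat_lit 1, nat_lit 10, nat_lit 0x0, nat_lit 0x103cb03, []⟩, ⟨nat_lit 1, nat_lit 0xa0c204005, nat_lit 11, nat_lit 1, nat_lit 28, nat_lit 0x501, nat_lit 0x1140e30b05, []⟩, ⟨nat_lit 1, nat_lit 0x2890c204006, nat_lit 11, nat_lit 1, nat_lit 28, nat_lit 0x501, nat_lit 0x1140f30b05, []⟩, ⟨nat_lit 0, nat_lit 0xc002, nat_lit 10, nat_lit 0, nat_lit 0, nat_lit 0x0, nat_lit 0x0, [nat_lit 28, nat_lit 27]⟩, ⟨nat_lit 0, nat_lit 0x80c003, nat_lit 10, nat_lit 0, nat_lit 0, nat_lit 0x0, nat_lit 0x0, [nat_lit 62, nat_lit 27]⟩, ⟨nat_lit 0, nat_lit 0x40c003, nat_lit 10, nat_lit 0, nat_lit 0, nat_lit 0x0, nat_lit 0x0, [nat_lit 27, nat_lit 26]⟩, ⟨nat_lit 0, nat_lit 0x2040c004, nat_lit 10, nat_lit 0, nat_lit 0, nat_lit 0x0, nat_lit 0x0, [nat_lit 63, nat_lit 26]⟩, ⟨nat_lit 0, nat_lit 0x4002, nat_lit 10, nat_lit 0, nat_lit 0, nat_lit 0x0, nat_lit 0x0, [nat_lit 63, nat_lit 62]⟩, ⟨nat_lit 0, nat_lit 0x904003, nat_lit 10, nat_lit 0, nat_lit 0, nat_lit 0x0, nat_lit 0x0, [nat_lit 62, nat_lit 61]⟩, ⟨nat_lit 0, nat_lit 0x704003, nat_lit 10, nat_lit 0, nat_lit 0, nat_lit 0x0, nat_lit 0x0, [nat_lit 61, nat_lit 60]⟩, ⟨nat_lit 0, nat_lit 0x24704004, nat_lit 10, nat_lit 0, nat_lit 0, nat_lit 0x0, nat_lit 0x0, [nat_lit 60, nat_lit 59]⟩, ⟨nat_lit 0, nat_lit 0x404003, nat_lit 10, nat_lit 0, nat_lit 0, nat_lit 0x0, nat_lit 0x0, [nat_lit 59, nat_lit 58]⟩, ⟨nat_lit 0, nat_lit 0x24404004, nat_lit 10, nat_lit 0, nat_lit 0, nat_lit 0x0, nat_lit 0x0, [nat_lit 58, nat_lit 57]⟩, ⟨nat_lit 0, nat_lit 0x304003, nat_lit 10, nat_lit 0, nat_lit 0, nat_lit 0x0, nat_lit 0x0, [nat_lit 57, nat_lit 32]⟩, ⟨nat_lit 0, nat_lit 0x1c304004, nat_lit 10, nat_lit 0, nat_lit 0, nat_lit 0x0, nat_lit 0x0, [nat_lit 57, nat_lit 32]⟩, ⟨nat_lit 0, nat_lit 0x91c304005, nat_lit 10, nat_lit 0, nat_lit 0, nat_lit 0x0, nat_lit 0x0, [nat_lit 57, nat_lit 32]⟩, ⟨nat_lit 0, nat_lit 0x18304004, nat_lit 10, nat_lit 0, nat_lit 0, nat_lit 0x0, nat_lit 0x0, [nat_lit 57, nat_lit 32]⟩, ⟨nat_lit 0, nat_lit 0x918304005, nat_lit 10, nat_lit 0, nat_lit 0, nat_lit 0x0, nat_lit 0x0, [nat_lit 57, nat_lit 32]⟩, ⟨nat_lit 0, nat_lit 0x818304005, nat_lit 10, nat_lit 0, nat_lit 0, nat_lit 0x0, nat_lit 0x0, [nat_lit 57, nat_lit 32]⟩, ⟨nat_lit 0, nat_lit 0x24818304006, nat_lit 10, nat_lit 0, nat_lit 0, nat_lit 0x0, nat_lit 0x0, [nat_lit 57, nat_lit 32]⟩, ⟨nat_lit 0, nat_lit 0x718304005, nat_lit 10, nat_lit 0, nat_lit 0, nat_lit 0x0, nat_lit 0x0, [nat_lit 57, nat_lit 32]⟩, ⟨nat_lit 0, nat_lit 0x20718304006, nat_lit 10, nat_lit 0, nat_lit 0, nat_lit 0x0, nat_lit 0x0, [nat_lit 57, nat_lit 32]⟩, ⟨nat_lit 0, nat_lit 0x14304004, nat_lit 10, nat_lit 0, nat_lit 0, nat_lit 0x0, nat_lit 0x0, [nat_lit 57, nat_lit 32]⟩, ⟨nat_lit 0, nat_lit 0x714304005, nat_lit 10, nat_lit 0, nat_lit 0, nat_lit 0x0, nat_lit 0x0, [nat_lit 57, nat_lit 32]⟩, ⟨nat_lit 0, nat_lit 0x614304005, nat_lit 10, nat_lit 0, nat_lit 0, nat_lit 0x0, nat_lit 0x0, [nat_lit 32, nat_lit 31]⟩, ⟨nat_lit 0, nat_lit 0x1c614304006, nat_lit 10, nat_lit 0, nat_lit 0, nat_lit 0x0, nat_lit 0x0, [nat_lit 31, nat_lit 30]⟩, ⟨nat_lit 0, nat_lit 0x10304004, nat_lit 10, nat_lit 0, nat_lit 0, nat_lit 0x0, nat_lit 0x0, [nat_lit 59, nat_lit 58]⟩, ⟨nat_lit 0, nat_lit 0x810304005, nat_lit 10, nat_lit 0, nat_lit 0, nat_lit 0x0, nat_lit 0x0, [nat_lit 58, nat_lit 31]⟩, ⟨nat_lit 0, nat_lit 0x610304005, nat_lit 10, nat_lit 0, nat_lit 0, nat_lit 0x0, nat_lit 0x0, [nat_lit 58, nat_lit 57]⟩, ⟨nat_lit 0, nat_lit 0x20610304006, nat_lit 10, nat_lit 0, nat_lit 0, nat_lit 0x0, nat_lit 0x0, [nat_lit 57, nat_lit 32]⟩, ⟨nat_lit 0, nat_lit 0x18204004, nat_lit 10, nat_lit 0, nat_lit 0, nat_lit 0x0, nat_lit 0x0, [nat_lit 32, nat_lit 31]⟩, ⟨nat_lit 0, nat_lit 0x918204005, nat_lit 10, nat_lit 0, nat_lit 0, nat_lit 0x0, nat_lit 0x0, [nat_lit 31, nat_lit 30]⟩, ⟨nat_lit 0, nat_lit 0xc204004, nat_lit 10, nat_lit 0, nat_lit 0, nat_lit 0x0, nat_lit 0x0, [nat_lit 59, nat_lit 30]⟩, ⟨nat_lit 0, nat_lit 0x90c204005, nat_lit 10, nat_lit 0, nat_lit 0, nat_lit 0x0, nat_lit 0x0, [nat_lit 59, nat_lit 30]⟩, ⟨nat_lit 1, nat_lit 0x90c003, nat_lit 10, nat_lit 1, nat_lit 30, nat_lit 0x701, nat_lit 0x4503cd04, []⟩, ⟨nat_lit 1, nat_lit 0x2480c004, nat_lit 10, nat_lit 1, nat_lit 30, nat_lit 0x701, nat_lit 0x1101, []⟩, ⟨nat_lit 2, nat_lit 0x70c003, nat_lit 10, nat_lit 1, nat_lit 9, nat_lit 0x0, nat_lit 0x103cd30a05, []⟩, ⟨nat_lit 2, nat_lit 0x2470c004, nat_lit 10, nat_lit 1, nat_lit 9, nat_lit 0x0, nat_lit 0x40d30a04, []⟩, ⟨nat_lit 2, nat_lit 0x2070c004, nat_lit 10, nat_lit 1, nat_lit 9, nat_lit 0x0, nat_lit 0x1140e03, []⟩, ⟨nat_lit 2, nat_lit 0x92070c005, nat_lit 10, nat_lit 1, nat_lit 9, nat_lit 0x0, nat_lit 0x1140e03, []⟩, ⟨nat_lit 1, nat_lit 0x2440c004, nat_lit 10, nat_lit 1, nat_lit 34, nat_lit 0x701, nat_lit 0x4503cd04, []⟩, ⟨nat_lit 1, nat_lit 0x92040c005, nat_lit 10, nat_lit 1, nat_lit 34, nat_lit 0x701, nat_lit 0x1101, []⟩, ⟨nat_lit 2, nat_lit 0x1c40c004, nat_lit 10, nat_lit 1, nat_lit 9, nat_lit 0x0, nat_lit 0x40f38a04, []⟩, ⟨nat_lit 2, nat_lit 0x91c40c005, nat_lit 10, nat_lit 1, nat_lit 9, nat_lit 0x0, nat_lit 0x1038a03, []⟩, ⟨nat_lit 2, nat_lit 0x81c40c005, nat_lit 10, nat_lit 1, nat_lit 9, nat_lit 0x0, nat_lit 0x1001, []⟩, ⟨nat_lit 2, nat_lit 0x2481c40c006, nat_lit 10, nat_lit 1, nat_lit 9, nat_lit 0x0, nat_lit 0x1001, []⟩, ⟨nat_lit 1, nat_lit 0x24304004, nat_lit 10, nat_lit 1, nat_lit 32, nat_lit 0x101, nat_lit 0x44e34a04, []⟩, ⟨nat_lit 1, nat_lit 0x24718304006, nat_lit 10, nat_lit 1, nat_lit 26, nat_lit 0x101, nat_lit 0xf01, []⟩, ⟨nat_lit 1, nat_lit 0x920718304007, nat_lit 10, nat_lit 1, nat_lit 26, nat_lit 0x101, nat_lit 0x40f38d30a06, []⟩, ⟨nat_lit 1, nat_lit 0x914304005, nat_lit 10, nat_lit 1, nat_lit 26, nat_lit 0x401, nat_lit 0x3cb02, []⟩, ⟨nat_lit 1, nat_lit 0x24714304006, nat_lit 10, nat_lit 1, nat_lit 26, nat_lit 0x401, nat_lit 0x3cb02, []⟩, ⟨nat_lit 1, nat_lit 0x24614304006, nat_lit 10, nat_lit 1, nat_lit 26, nat_lit 0x401, nat_lit 0x38d30b04, []⟩, ⟨nat_lit 1, nat_lit 0x91c614304007, nat_lit 10, nat_lit 1, nat_lit 26, nat_lit 0x401, nat_lit 0x38d30b04, []⟩, ⟨nat_lit 1, nat_lit 0x910304005, nat_lit 10, nat_lit 1, nat_lit 26, nat_lit 0x501, nat_lit 0x4503ce30a06, []⟩, ⟨nat_lit 1, nat_lit 0x24810304006, nat_lit 10, nat_lit 1, nat_lit 26, nat_lit 0x501, nat_lit 0x45038d30a06, []⟩, ⟨nat_lit 1, nat_lit 0x24610304006, nat_lit 10, nat_lit 1, nat_lit 26, nat_lit 0x501, nat_lit 0x1140f38d30b07, []⟩, ⟨nat_lit 1, nat_lit 0x920610304007, nat_lit 10, nat_lit 1, nat_lit 26, nat_lit 0x501, nat_lit 0x40e30b04, []⟩, ⟨nat_lit 2, nat_lit 0x510304005, nat_lit 10, nat_lit 1, nat_lit 9, nat_lit 0x0, nat_lit 0x1140b03, []⟩, ⟨nat_lit 2, nat_lit 0x24510304006, nat_lit 10, nat_lit 1, nat_lit 9, nat_lit 0x0, nat_lit 0xb01, []⟩, ⟨nat_lit 2, nat_lit 0x18510304006, nat_lit 10, nat_lit 1, nat_lit 9, nat_lit 0x0, nat_lit 0x3ce34a04, []⟩, ⟨nat_lit 2, nat_lit 0x918510304007, nat_lit 10, nat_lit 1, nat_lit 9, nat_lit 0x0, nat_lit 0x34a02, []⟩, ⟨nat_lit 0, nat_lit 0xc002, nat_lit 9, nat_lit 0, nat_lit 0, nat_lit 0x0, nat_lit 0x0, [nat_lit 57, nat_lit 26]⟩, ⟨nat_lit 0, nat_lit 0x80c003, nat_lit 9, nat_lit 0, nat_lit 0, nat_lit 0x0, nat_lit 0x0, [nat_lit 57, nat_lit 26]⟩, ⟨nat_lit 0, nat_lit 0x70c003, nat_lit 9, nat_lit 0, nat_lit 0, nat_lit 0x0, nat_lit 0x0, [nat_lit 26, nat_lit 25]⟩, ⟨nat_lit 0, nat_lit 0x2070c004, nat_lit 9, nat_lit 0, nat_lit 0, nat_lit 0x0, nat_lit 0x0, [nat_lit 25, nat_lit 24]⟩, ⟨nat_lit 0, nat_lit 0x40c003, nat_lit 9, nat_lit 0, nat_lit 0, nat_lit 0x0, nat_lit 0x0, [nat_lit 59, nat_lit 24]⟩, ⟨nat_lit 0, nat_lit 0x2040c004, nat_lit 9, nat_lit 0, nat_lit 0, nat_lit 0x0, nat_lit 0x0, [nat_lit 59, nat_lit 24]⟩, ⟨nat_lit 0, nat_lit 0x1c40c004, nat_lit 9, nat_lit 0, nat_lit 0, nat_lit 0x0, nat_lit 0x0, [nat_lit 24, nat_lit 23]⟩, ⟨nat_lit 0, nat_lit 0x81c40c005, nat_lit 9, nat_lit 0, nat_lit 0, nat_lit 0x0, nat_lit 0x0, [nat_lit 23, nat_lit 22]⟩, ⟨nat_lit 0, nat_lit 0x4002, nat_lit 9, nat_lit 0, nat_lit 0, nat_lit 0x0, nat_lit 0x0, [nat_lit 61, nat_lit 60]⟩, ⟨nat_lit 0, nat_lit 0x704003, nat_lit 9, nat_lit 0, nat_lit 0, nat_lit 0x0, nat_lit 0x0, [nat_lit 60, nat_lit 59]⟩, ⟨nat_lit 0, nat_lit 0x404003, nat_lit 9, nat_lit 0, nat_lit 0, nat_lit 0x0, nat_lit 0x0, [nat_lit 59, nat_lit 58]⟩, ⟨nat_lit 0, nat_lit 0x304003, nat_lit 9, nat_lit 0, nat_lit 0, nat_lit 0x0, nat_lit 0x0, [nat_lit 58, nat_lit 25]⟩, ⟨nat_lit 0, nat_lit 0x1c304004, nat_lit 9, nat_lit 0, nat_lit 0, nat_lit 0x0, nat_lit 0x0, [nat_lit 58, nat_lit 57]⟩, ⟨nat_lit 0, nat_lit 0x18304004, nat_lit 9, nat_lit 0, nat_lit 0, nat_lit 0x0, nat_lit 0x0, [nat_lit 57, nat_lit 56]⟩, ⟨nat_lit 0, nat_lit 0x818304005, nat_lit 9, nat_lit 0, nat_lit 0, nat_lit 0x0, nat_lit 0x0, [nat_lit 56, nat_lit 55]⟩, ⟨nat_lit 0, nat_lit 0x718304005, nat_lit 9, nat_lit 0, nat_lit 0, nat_lit 0x0, nat_lit 0x0, [nat_lit 55, nat_lit 28]⟩, ⟨nat_lit 0, nat_lit 0x20718304006, nat_lit 9, nat_lit 0, nat_lit 0, nat_lit 0x0, nat_lit 0x0, [nat_lit 55, nat_lit 28]⟩, ⟨nat_lit 0, nat_lit 0x14304004, nat_lit 9, nat_lit 0, nat_lit 0, nat_lit 0x0, nat_lit 0x0, [nat_lit 55, nat_lit 28]⟩, ⟨nat_lit 0, nat_lit 0x714304005, nat_lit 9, nat_lit 0, nat_lit 0, nat_lit 0x0, nat_lit 0x0, [nat_lit 55, nat_lit 28]⟩, ⟨nat_lit 0, nat_lit 0x614304005, nat_lit 9, nat_lit 0, nat_lit 0, nat_lit 0x0, nat_lit 0x0, [nat_lit 55, nat_lit 28]⟩, ⟨nat_lit 0, nat_lit 0x1c614304006, nat_lit 9, nat_lit 0, nat_lit 0, nat_lit 0x0, nat_lit 0x0, [nat_lit 55, nat_lit 28]⟩, ⟨nat_lit 0, nat_lit 0x10304004, nat_lit 9, nat_lit 0, nat_lit 0, nat_lit 0x0, nat_lit 0x0, [nat_lit 55, nat_lit 28]⟩, ⟨nat_lit 0, nat_lit 0x810304005, nat_lit 9, nat_lit 0, nat_lit 0, nat_lit 0x0, nat_lit 0x0, [nat_lit 55, nat_lit 28]⟩, ⟨nat_lit 0, nat_lit 0x610304005, nat_lit 9, nat_lit 0, nat_lit 0, nat_lit 0x0, nat_lit 0x0, [nat_lit 55, nat_lit 28]⟩, ⟨nat_lit 0, nat_lit 0x20610304006, nat_lit 9, nat_lit 0, nat_lit 0, nat_lit 0x0, nat_lit 0x0, [nat_lit 55, nat_lit 28]⟩, ⟨nat_lit 0, nat_lit 0x510304005, nat_lit 9, nat_lit 0, nat_lit 0, nat_lit 0x0, nat_lit 0x0, [nat_lit 28, nat_lit 27]⟩, ⟨nat_lit 0, nat_lit 0x18510304006, nat_lit 9, nat_lit 0, nat_lit 0, nat_lit 0x0, nat_lit 0x0, [nat_lit 27, nat_lit 26]⟩, ⟨nat_lit 0, nat_lit 0x18204004, nat_lit 9, nat_lit 0, nat_lit 0, nat_lit 0x0, nat_lit 0x0, [nat_lit 57, nat_lit 56]⟩, ⟨nat_lit 0, nat_lit 0xc204004, nat_lit 9, nat_lit 0, nat_lit 0, nat_lit 0x0, nat_lit 0x0, [nat_lit 56, nat_lit 55]⟩, ⟨nat_lit 1, nat_lit 0x804003, nat_lit 9, nat_lit 1, nat_lit 20, nat_lit 0x501, nat_lit 0x40f38a04, []⟩, ⟨nat_lit 1, nat_lit 0x20704004, nat_lit 9, nat_lit 1, nat_lit 20, nat_lit 0x501, nat_lit 0xc2ca03, []⟩, ⟨nat_lit 2, nat_lit 0x504003, nat_lit 9, nat_lit 1, nat_lit 8, nat_lit 0x0, nat_lit 0x3ce34b04, []⟩, ⟨nat_lit 2, nat_lit 0x20504004, nat_lit 9, nat_lit 1, nat_lit 8, nat_lit 0x0, nat_lit 0x1138b03, []⟩, ⟨nat_lit 2, nat_lit 0x1c504004, nat_lit 9, nat_lit 1, nat_lit 8, nat_lit 0x0, nat_lit 0x44c02, []⟩, ⟨nat_lit 2, nat_lit 0x81c504005, nat_lit 9, nat_lit 1, nat_lit 8, nat_lit 0x0, nat_lit 0x103cc03, []⟩, ⟨nat_lit 1, nat_lit 0x20404004, nat_lit 9, nat_lit 1, nat_lit 24, nat_lit 0x501, nat_lit 0x44b28904, []⟩, ⟨nat_lit 2, nat_lit 0x14404004, nat_lit 9, nat_lit 1, nat_lit 8, nat_lit 0x0, nat_lit 0x40f34904, []⟩, ⟨nat_lit 2, nat_lit 0x814404005, nat_lit 9, nat_lit 1, nat_lit 8, nat_lit 0x0, nat_lit 0x40f38d30906, []⟩, ⟨nat_lit 1, nat_lit 0x20304004, nat_lit 9, nat_lit 1, nat_lit 26, nat_lit 0x201, nat_lit 0xf38d30a05, []⟩, ⟨nat_lit 1, nat_lit 0x81c304005, nat_lit 9, nat_lit 1, nat_lit 26, nat_lit 0x201, nat_lit 0x103ce34a05, []⟩, ⟨nat_lit 1, nat_lit 0x814304005, nat_lit 9, nat_lit 1, nat_lit 22, nat_lit 0x301, nat_lit 0x40f34b04, []⟩, ⟨nat_lit 1, nat_lit 0x20714304006, nat_lit 9, nat_lit 1, nat_lit 22, nat_lit 0x301, nat_lit 0x113cd30b05, []⟩, ⟨nat_lit 1, nat_lit 0x20614304006, nat_lit 9, nat_lit 1, nat_lit 22, nat_lit 0x301, nat_lit 0x103cb03, []⟩, ⟨nat_lit 1, nat_lit 0x81c614304007, nat_lit 9, nat_lit 1, nat_lit 22, nat_lit 0x301, nat_lit 0x44f30b04, []⟩, ⟨nat_lit 1, nat_lit 0x20510304006, nat_lit 9, nat_lit 1, nat_lit 18, nat_lit 0x301, nat_lit 0x30b02, []⟩, ⟨nat_lit 1, nat_lit 0x818510304007, nat_lit 9, nat_lit 1, nat_lit 18, nat_lit 0x301, nat_lit 0x44d30b04, []⟩, ⟨nat_lit 2, nat_lit 0x204003, nat_lit 9, nat_lit 1, nat_lit 8, nat_lit 0x0, nat_lit 0x40a02, []⟩, ⟨nat_lit 2, nat_lit 0x20204004, nat_lit 9, nat_lit 1, nat_lit 8, nat_lit 0x0, nat_lit 0x113ca03, []⟩, ⟨nat_lit 1, nat_lit 0x818204005, nat_lit 9, nat_lit 1, nat_lit 20, nat_lit 0x601, nat_lit 0x1140e34c05, []⟩, ⟨nat_lit 1, nat_lit 0x80c204005, nat_lit 9, nat_lit 1, nat_lit 20, nat_lit 0x601, nat_lit 0x103ce34c05, []⟩, ⟨nat_lit 2, nat_lit 0x60c204005, nat_lit 9, nat_lit 1, nat_lit 8, nat_lit 0x0, nat_lit 0x40d30b04, []⟩, ⟨nat_lit 2, nat_lit 0x2060c204006, nat_lit 9, nat_lit 1, nat_lit 8, nat_lit 0x0, nat_lit 0xd30b03, []⟩, ⟨nat_lit 0, nat_lit 0xc002, nat_lit 8, nat_lit 0, nat_lit 0, nat_lit 0x0, nat_lit 0x0, [nat_lit 51, nat_lit 50]⟩, ⟨nat_lit 0, nat_lit 0x70c003, nat_lit 8, nat_lit 0, nat_lit 0, nat_lit 0x0, nat_lit 0x0, [nat_lit 50, nat_lit 49]⟩, ⟨nat_lit 0, nat_lit 0x40c003, nat_lit 8, nat_lit 0, nat_lit 0, nat_lit 0x0, nat_lit 0x0, [nat_lit 49, nat_lit 48]⟩, ⟨nat_lit 0, nat_lit 0x1c40c004, nat_lit 8, nat_lit 0, nat_lit 0, nat_lit 0x0, nat_lit 0x0, [nat_lit 48, nat_lit 47]⟩, ⟨nat_lit 0, nat_lit 0x4002, nat_lit 8, nat_lit 0, nat_lit 0, nat_lit 0x0, nat_lit 0x0, [nat_lit 47, nat_lit 26]⟩, ⟨nat_lit 0, nat_lit 0x704003, nat_lit 8, nat_lit 0, nat_lit 0, nat_lit 0x0, nat_lit 0x0, [nat_lit 47, nat_lit 26]⟩, ⟨nat_lit 0, nat_lit 0x504003, nat_lit 8, nat_lit 0, nat_lit 0, nat_lit 0x0, nat_lit 0x0, [nat_lit 26, nat_lit 25]⟩, ⟨nat_lit 0, nat_lit 0x1c504004, nat_lit 8, nat_lit 0, nat_lit 0, nat_lit 0x0, nat_lit 0x0, [nat_lit 25, nat_lit 24]⟩, ⟨nat_lit 0, nat_lit 0x404003, nat_lit 8, nat_lit 0, nat_lit 0, nat_lit 0x0, nat_lit 0x0, [nat_lit 49, nat_lit 24]⟩, ⟨nat_lit 0, nat_lit 0x14404004, nat_lit 8, nat_lit 0, nat_lit 0, nat_lit 0x0, nat_lit 0x0, [nat_lit 24, nat_lit 23]⟩, ⟨nat_lit 0, nat_lit 0x304003, nat_lit 8, nat_lit 0, nat_lit 0, nat_lit 0x0, nat_lit 0x0, [nat_lit 50, nat_lit 23]⟩, ⟨nat_lit 0, nat_lit 0x1c304004, nat_lit 8, nat_lit 0, nat_lit 0, nat_lit 0x0, nat_lit 0x0, [nat_lit 50, nat_lit 23]⟩, ⟨nat_lit 0, nat_lit 0x18304004, nat_lit 8, nat_lit 0, nat_lit 0, nat_lit 0x0, nat_lit 0x0, [nat_lit 50, nat_lit 49]⟩, ⟨nat_lit 0, nat_lit 0x718304005, nat_lit 8, nat_lit 0, nat_lit 0, nat_lit 0x0, nat_lit 0x0, [nat_lit 49, nat_lit 48]⟩, ⟨nat_lit 0, nat_lit 0x14304004, nat_lit 8, nat_lit 0, nat_lit 0, nat_lit 0x0, nat_lit 0x0, [nat_lit 48, nat_lit 25]⟩, ⟨nat_lit 0, nat_lit 0x714304005, nat_lit 8, nat_lit 0, nat_lit 0, nat_lit 0x0, nat_lit 0x0, [nat_lit 48, nat_lit 25]⟩, ⟨nat_lit 0, nat_lit 0x614304005, nat_lit 8, nat_lit 0, nat_lit 0, nat_lit 0x0, nat_lit 0x0, [nat_lit 48, nat_lit 25]⟩, ⟨nat_lit 0, nat_lit 0x1c614304006, nat_lit 8, nat_lit 0, nat_lit 0, nat_lit 0x0, nat_lit 0x0, [nat_lit 48, nat_lit 25]⟩, ⟨nat_lit 0, nat_lit 0x10304004, nat_lit 8, nat_lit 0, nat_lit 0, nat_lit 0x0, nat_lit 0x0, [nat_lit 48, nat_lit 47]⟩, ⟨nat_lit 0, nat_lit 0x610304005, nat_lit 8, nat_lit 0, nat_lit 0, nat_lit 0x0, nat_lit 0x0, [nat_lit 47, nat_lit 46]⟩, ⟨nat_lit 0, nat_lit 0x510304005, nat_lit 8, nat_lit 0, nat_lit 0, nat_lit 0x0, nat_lit 0x0, [nat_lit 46, nat_lit 27]⟩, ⟨nat_lit 0, nat_lit 0x18510304006, nat_lit 8, nat_lit 0, nat_lit 0, nat_lit 0x0, nat_lit 0x0, [nat_lit 46, nat_lit 27]⟩, ⟨nat_lit 0, nat_lit 0x204003, nat_lit 8, nat_lit 0, nat_lit 0, nat_lit 0x0, nat_lit 0x0, [nat_lit 27, nat_lit 26]⟩, ⟨nat_lit 0, nat_lit 0x18204004, nat_lit 8, nat_lit 0, nat_lit 0, nat_lit 0x0, nat_lit 0x0, [nat_lit 47, nat_lit 26]⟩, ⟨nat_lit 0, nat_lit 0xc204004, nat_lit 8, nat_lit 0, nat_lit 0, nat_lit 0x0, nat_lit 0x0, [nat_lit 47, nat_lit 26]⟩, ⟨nat_lit 0, nat_lit 0x60c204005, nat_lit 8, nat_lit 0, nat_lit 0, nat_lit 0x0, nat_lit 0x0, [nat_lit 26, nat_lit 25]⟩, ⟨nat_lit 1, nat_lit 0x1c404004, nat_lit 8, nat_lit 1, nat_lit 17, nat_lit 0x201, nat_lit 0x1030b03, []⟩, ⟨nat_lit 1, nat_lit 0x714404005, nat_lit 8, nat_lit 1, nat_lit 17, nat_lit 0x201, nat_lit 0xf34c03, []⟩, ⟨nat_lit 1, nat_lit 0x710304005, nat_lit 8, nat_lit 1, nat_lit 9, nat_lit 0x201, nat_lit 0x1134c28805, []⟩, ⟨nat_lit 1, nat_lit 0x1c610304006, nat_lit 8, nat_lit 1, nat_lit 9, nat_lit 0x201, nat_lit 0x40f38d30a06, []⟩, ⟨nat_lit 1, nat_lit 0x1c510304006, nat_lit 8, nat_lit 1, nat_lit 9, nat_lit 0x201, nat_lit 0xd30b28805, []⟩, ⟨nat_lit 1, nat_lit 0x718510304007, nat_lit 8, nat_lit 1, nat_lit 9, nat_lit 0x201, nat_lit 0x3ce34c2ca06, []⟩, ⟨nat_lit 1, nat_lit 0x1c204004, nat_lit 8, nat_lit 1, nat_lit 9, nat_lit 0x401, nat_lit 0x44f38c04, []⟩, ⟨nat_lit 1, nat_lit 0x718204005, nat_lit 8, nat_lit 1, nat_lit 9, nat_lit 0x401, nat_lit 0x1140c03, []⟩, ⟨nat_lit 2, nat_lit 0x10204004, nat_lit 8, nat_lit 1, nat_lit 7, nat_lit 0x0, nat_lit 0x40e34c28806, []⟩, ⟨nat_lit 2, nat_lit 0x710204005, nat_lit 8, nat_lit 1, nat_lit 7, nat_lit 0x0, nat_lit 0x1138d28805, []⟩, ⟨nat_lit 2, nat_lit 0x610204005, nat_lit 8, nat_lit 1, nat_lit 7, nat_lit 0x0, nat_lit 0x103cd30a05, []⟩, ⟨nat_lit 2, nat_lit 0x1c610204006, nat_lit 8, nat_lit 1, nat_lit 7, nat_lit 0x0, nat_lit 0x40e30a04, []⟩, ⟨nat_lit 1, nat_lit 0x70c204005, nat_lit 8, nat_lit 1, nat_lit 13, nat_lit 0x401, nat_lit 0x44f38c04, []⟩, ⟨nat_lit 1, nat_lit 0x1c60c204006, nat_lit 8, nat_lit 1, nat_lit 13, nat_lit 0x401, nat_lit 0x1140c03, []⟩, ⟨nat_lit 2, nat_lit 0x40c204005, nat_lit 8, nat_lit 1, nat_lit 7, nat_lit 0x0, nat_lit 0xf38b03, []⟩, ⟨nat_lit 2, nat_lit 0x1c40c204006, nat_lit 8, nat_lit 1, nat_lit 7, nat_lit 0x0, nat_lit 0x103ce34b05, []⟩, ⟨nat_lit 2, nat_lit 0x1840c204006, nat_lit 8, nat_lit 1, nat_lit 7, nat_lit 0x0, nat_lit 0x103cd2c805, []⟩, ⟨nat_lit 2, nat_lit 0x71840c204007, nat_lit 8, nat_lit 1, nat_lit 7, nat_lit 0x0, nat_lit 0x1140e34c2c807, []⟩, ⟨nat_lit 0, nat_lit 0xc002, nat_lit 7, nat_lit 0, nat_lit 0, nat_lit 0x0, nat_lit 0x0, [nat_lit 43, nat_lit 42]⟩, ⟨nat_lit 0, nat_lit 0x40c003, nat_lit 7, nat_lit 0, nat_lit 0, nat_lit 0x0, nat_lit 0x0, [nat_lit 42, nat_lit 41]⟩, ⟨nat_lit 0, nat_lit 0x4002, nat_lit 7, nat_lit 0, nat_lit 0, nat_lit 0x0, nat_lit 0x0, [nat_lit 41, nat_lit 40]⟩, ⟨nat_lit 0, nat_lit 0x504003, nat_lit 7, nat_lit 0, nat_lit 0, nat_lit 0x0, nat_lit 0x0, [nat_lit 40, nat_lit 39]⟩, ⟨nat_lit 0, nat_lit 0x404003, nat_lit 7, nat_lit 0, nat_lit 0, nat_lit 0x0, nat_lit 0x0, [nat_lit 39, nat_lit 21]⟩, ⟨nat_lit 0, nat_lit 0x14404004, nat_lit 7, nat_lit 0, nat_lit 0, nat_lit 0x0, nat_lit 0x0, [nat_lit 39, nat_lit 21]⟩, ⟨nat_lit 0, nat_lit 0x304003, nat_lit 7, nat_lit 0, nat_lit 0, nat_lit 0x0, nat_lit 0x0, [nat_lit 39, nat_lit 38]⟩, ⟨nat_lit 0, nat_lit 0x18304004, nat_lit 7, nat_lit 0, nat_lit 0, nat_lit 0x0, nat_lit 0x0, [nat_lit 38, nat_lit 37]⟩, ⟨nat_lit 0, nat_lit 0x14304004, nat_lit 7, nat_lit 0, nat_lit 0, nat_lit 0x0, nat_lit 0x0, [nat_lit 37, nat_lit 36]⟩, ⟨nat_lit 0, nat_lit 0x614304005, nat_lit 7, nat_lit 0, nat_lit 0, nat_lit 0x0, nat_lit 0x0, [nat_lit 36, nat_lit 35]⟩, ⟨nat_lit 0, nat_lit 0x10304004, nat_lit 7, nat_lit 0, nat_lit 0, nat_lit 0x0, nat_lit 0x0, [nat_lit 35, nat_lit 25]⟩, ⟨nat_lit 0, nat_lit 0x610304005, nat_lit 7, nat_lit 0, nat_lit 0, nat_lit 0x0, nat_lit 0x0, [nat_lit 35, nat_lit 25]⟩, ⟨nat_lit 0, nat_lit 0x510304005, nat_lit 7, nat_lit 0, nat_lit 0, nat_lit 0x0, nat_lit 0x0, [nat_lit 35, nat_lit 25]⟩, ⟨nat_lit 0, nat_lit 0x18510304006, nat_lit 7, nat_lit 0, nat_lit 0, nat_lit 0x0, nat_lit 0x0, [nat_lit 35, nat_lit 25]⟩, ⟨nat_lit 0, nat_lit 0x204003, nat_lit 7, nat_lit 0, nat_lit 0, nat_lit 0x0, nat_lit 0x0, [nat_lit 35, nat_lit 25]⟩, ⟨nat_lit 0, nat_lit 0x18204004, nat_lit 7, nat_lit 0, nat_lit 0, nat_lit 0x0, nat_lit 0x0, [nat_lit 35, nat_lit 25]⟩, ⟨nat_lit 0, nat_lit 0x10204004, nat_lit 7, nat_lit 0, nat_lit 0, nat_lit 0x0, nat_lit 0x0, [nat_lit 25, nat_lit 24]⟩, ⟨nat_lit 0, nat_lit 0x610204005, nat_lit 7, nat_lit 0, nat_lit 0, nat_lit 0x0, nat_lit 0x0, [nat_lit 24, nat_lit 23]⟩, ⟨nat_lit 0, nat_lit 0xc204004, nat_lit 7, nat_lit 0, nat_lit 0, nat_lit 0x0, nat_lit 0x0, [nat_lit 37, nat_lit 23]⟩, ⟨nat_lit 0, nat_lit 0x60c204005, nat_lit 7, nat_lit 0, nat_lit 0, nat_lit 0x0, nat_lit 0x0, [nat_lit 37, nat_lit 23]⟩, ⟨nat_lit 0, nat_lit 0x40c204005, nat_lit 7, nat_lit 0, nat_lit 0, nat_lit 0x0, nat_lit 0x0, [nat_lit 23, nat_lit 22]⟩, ⟨nat_lit 0, nat_lit 0x1840c204006, nat_lit 7, nat_lit 0, nat_lit 0, nat_lit 0x0, nat_lit 0x0, [nat_lit 22, nat_lit 21]⟩, ⟨nat_lit 2, nat_lit 0x1, nat_lit 7, nat_lit 1, nat_lit 6, nat_lit 0x0, nat_lit 0x1140e28920707, []⟩, ⟨nat_lit 2, nat_lit 0x18002, nat_lit 7, nat_lit 1, nat_lit 6, nat_lit 0x0, nat_lit 0x40f38c20706, []⟩, ⟨nat_lit 2, nat_lit 0x10002, nat_lit 7, nat_lit 1, nat_lit 6, nat_lit 0x0, nat_lit 0x45028920706, []⟩, ⟨nat_lit 2, nat_lit 0x610003, nat_lit 7, nat_lit 1, nat_lit 6, nat_lit 0x0, nat_lit 0x1140f38d20707, []⟩, ⟨nat_lit 1, nat_lit 0x60c003, nat_lit 7, nat_lit 1, nat_lit 25, nat_lit 0x301, nat_lit 0x1140e30920707, []⟩, ⟨nat_lit 1, nat_lit 0x1840c004, nat_lit 7, nat_lit 1, nat_lit 25, nat_lit 0x301, nat_lit 0x45034920706, []⟩, ⟨nat_lit 1, nat_lit 0x604003, nat_lit 7, nat_lit 1, nat_lit 25, nat_lit 0x101, nat_lit 0x1138920705, []⟩, ⟨nat_lit 1, nat_lit 0x18504004, nat_lit 7, nat_lit 1, nat_lit 25, nat_lit 0x101, nat_lit 0x1140f30920707, []⟩, ⟨nat_lit 1, nat_lit 0x18404004, nat_lit 7, nat_lit 1, nat_lit 25, nat_lit 0x101, nat_lit 0x920703, []⟩, ⟨nat_lit 1, nat_lit 0x614404005, nat_lit 7, nat_lit 1, nat_lit 25, nat_lit 0x101, nat_lit 0x3ce30920706, []⟩, ⟨nat_lit 0, nat_lit 0x1, nat_lit 6, nat_lit 0, nat_lit 0, nat_lit 0x0, nat_lit 0x0, [nat_lit 9, nat_lit 8]⟩, ⟨nat_lit 0, nat_lit 0x10002, nat_lit 6, nat_lit 0, nat_lit 0, nat_lit 0x0, nat_lit 0x0, [nat_lit 8, nat_lit 7]⟩, ⟨nat_lit 0, nat_lit 0xc002, nat_lit 6, nat_lit 0, nat_lit 0, nat_lit 0x0, nat_lit 0x0, [nat_lit 33, nat_lit 7]⟩, ⟨nat_lit 0, nat_lit 0x40c003, nat_lit 6, nat_lit 0, nat_lit 0, nat_lit 0x0, nat_lit 0x0, [nat_lit 33, nat_lit 7]⟩, ⟨nat_lit 0, nat_lit 0x4002, nat_lit 6, nat_lit 0, nat_lit 0, nat_lit 0x0, nat_lit 0x0, [nat_lit 33, nat_lit 7]⟩, ⟨nat_lit 0, nat_lit 0x504003, nat_lit 6, nat_lit 0, nat_lit 0, nat_lit 0x0, nat_lit 0x0, [nat_lit 33, nat_lit 7]⟩, ⟨nat_lit 0, nat_lit 0x404003, nat_lit 6, nat_lit 0, nat_lit 0, nat_lit 0x0, nat_lit 0x0, [nat_lit 33, nat_lit 7]⟩, ⟨nat_lit 0, nat_lit 0x14404004, nat_lit 6, nat_lit 0, nat_lit 0, nat_lit 0x0, nat_lit 0x0, [nat_lit 33, nat_lit 7]⟩, ⟨nat_lit 0, nat_lit 0x304003, nat_lit 6, nat_lit 0, nat_lit 0, nat_lit 0x0, nat_lit 0x0, [nat_lit 33, nat_lit 32]⟩, ⟨nat_lit 0, nat_lit 0x14304004, nat_lit 6, nat_lit 0, nat_lit 0, nat_lit 0x0, nat_lit 0x0, [nat_lit 32, nat_lit 31]⟩, ⟨nat_lit 0, nat_lit 0x10304004, nat_lit 6, nat_lit 0, nat_lit 0, nat_lit 0x0, nat_lit 0x0, [nat_lit 31, nat_lit 30]⟩, ⟨nat_lit 0, nat_lit 0x510304005, nat_lit 6, nat_lit 0, nat_lit 0, nat_lit 0x0, nat_lit 0x0, [nat_lit 30, nat_lit 29]⟩, ⟨nat_lit 0, nat_lit 0x204003, nat_lit 6, nat_lit 0, nat_lit 0, nat_lit 0x0, nat_lit 0x0, [nat_lit 29, nat_lit 28]⟩, ⟨nat_lit 0, nat_lit 0x10204004, nat_lit 6, nat_lit 0, nat_lit 0, nat_lit 0x0, nat_lit 0x0, [nat_lit 28, nat_lit 27]⟩, ⟨nat_lit 0, nat_lit 0xc204004, nat_lit 6, nat_lit 0, nat_lit 0, nat_lit 0x0, nat_lit 0x0, [nat_lit 27, nat_lit 26]⟩, ⟨nat_lit 0, nat_lit 0x40c204005, nat_lit 6, nat_lit 0, nat_lit 0, nat_lit 0x0, nat_lit 0x0, [nat_lit 26, nat_lit 25]⟩, ⟨nat_lit 1, nat_lit 0x14002, nat_lit 6, nat_lit 1, nat_lit 15, nat_lit 0x201, nat_lit 0x3ce34904, []⟩, ⟨nat_lit 1, nat_lit 0x510003, nat_lit 6, nat_lit 1, nat_lit 15, nat_lit 0x201, nat_lit 0x44e34704, []⟩, ⟨nat_lit 1, nat_lit 0x50c003, nat_lit 6, nat_lit 1, nat_lit 15, nat_lit 0x201, nat_lit 0x1138d28905, []⟩, ⟨nat_lit 1, nat_lit 0x1440c004, nat_lit 6, nat_lit 1, nat_lit 15, nat_lit 0x201, nat_lit 0xd28703, []⟩, ⟨nat_lit 2, nat_lit 0x8002, nat_lit 6, nat_lit 1, nat_lit 5, nat_lit 0x0, nat_lit 0x3cd1c604, []⟩, ⟨nat_lit 2, nat_lit 0x508003, nat_lit 6, nat_lit 1, nat_lit 5, nat_lit 0x0, nat_lit 0x1140f38c2c81c609, []⟩, ⟨nat_lit 2, nat_lit 0x408003, nat_lit 6, nat_lit 1, nat_lit 5, nat_lit 0x0, nat_lit 0x4503cd30606, []⟩, ⟨nat_lit 2, nat_lit 0x14408004, nat_lit 6, nat_lit 1, nat_lit 5, nat_lit 0x0, nat_lit 0x4503c920606, []⟩, ⟨nat_lit 2, nat_lit 0x308003, nat_lit 6, nat_lit 1, nat_lit 5, nat_lit 0x0, nat_lit 0x40f38d30a24808, []⟩, ⟨nat_lit 2, nat_lit 0x14308004, nat_lit 6, nat_lit 1, nat_lit 5, nat_lit 0x0, nat_lit 0x1038a24805, []⟩, ⟨nat_lit 2, nat_lit 0x10308004, nat_lit 6, nat_lit 1, nat_lit 5, nat_lit 0x0, nat_lit 0xe28920705, []⟩, ⟨nat_lit 2, nat_lit 0x510308005, nat_lit 6, nat_lit 1, nat_lit 5, nat_lit 0x0, nat_lit 0x113ce2ca20707, []⟩, ⟨nat_lit 1, nat_lit 0x14204004, nat_lit 6, nat_lit 1, nat_lit 15, nat_lit 0x101, nat_lit 0x40f3091c606, []⟩, ⟨nat_lit 1, nat_lit 0x510204005, nat_lit 6, nat_lit 1, nat_lit 15, nat_lit 0x101, nat_lit 0x44f30b1c606, []⟩, ⟨nat_lit 1, nat_lit 0x50c204005, nat_lit 6, nat_lit 1, nat_lit 15, nat_lit 0x101, nat_lit 0x44e34c2ca06, []⟩, ⟨nat_lit 1, nat_lit 0x1440c204006, nat_lit 6, nat_lit 1, nat_lit 15, nat_lit 0x101, nat_lit 0x28902, []⟩, ⟨nat_lit 0, nat_lit 0x1, nat_lit 5, nat_lit 0, nat_lit 0, nat_lit 0x0, nat_lit 0x0, [nat_lit 31, nat_lit 15]⟩, ⟨nat_lit 0, nat_lit 0x10002, nat_lit 5, nat_lit 0, nat_lit 0, nat_lit 0x0, nat_lit 0x0, [nat_lit 31, nat_lit 15]⟩, ⟨nat_lit 0, nat_lit 0xc002, nat_lit 5, nat_lit 0, nat_lit 0, nat_lit 0x0, nat_lit 0x0, [nat_lit 31, nat_lit 15]⟩, ⟨nat_lit 0, nat_lit 0x40c003, nat_lit 5, nat_lit 0, nat_lit 0, nat_lit 0x0, nat_lit 0x0, [nat_lit 31, nat_lit 15]⟩, ⟨nat_lit 0, nat_lit 0x8002, nat_lit 5, nat_lit 0, nat_lit 0, nat_lit 0x0, nat_lit 0x0, [nat_lit 15, nat_lit 14]⟩, ⟨nat_lit 0, nat_lit 0x408003, nat_lit 5, nat_lit 0, nat_lit 0, nat_lit 0x0, nat_lit 0x0, [nat_lit 14, nat_lit 13]⟩, ⟨nat_lit 0, nat_lit 0x308003, nat_lit 5, nat_lit 0, nat_lit 0, nat_lit 0x0, nat_lit 0x0, [nat_lit 13, nat_lit 12]⟩, ⟨nat_lit 0, nat_lit 0x10308004, nat_lit 5, nat_lit 0, nat_lit 0, nat_lit 0x0, nat_lit 0x0, [nat_lit 12, nat_lit 11]⟩, ⟨nat_lit 0, nat_lit 0x4002, nat_lit 5, nat_lit 0, nat_lit 0, nat_lit 0x0, nat_lit 0x0, [nat_lit 35, nat_lit 34]⟩, ⟨nat_lit 0, nat_lit 0x404003, nat_lit 5, nat_lit 0, nat_lit 0, nat_lit 0x0, nat_lit 0x0, [nat_lit 34, nat_lit 33]⟩, ⟨nat_lit 0, nat_lit 0x304003, nat_lit 5, nat_lit 0, nat_lit 0, nat_lit 0x0, nat_lit 0x0, [nat_lit 33, nat_lit 32]⟩, ⟨nat_lit 0, nat_lit 0x10304004, nat_lit 5, nat_lit 0, nat_lit 0, nat_lit 0x0, nat_lit 0x0, [nat_lit 32, nat_lit 31]⟩, ⟨nat_lit 0, nat_lit 0x204003, nat_lit 5, nat_lit 0, nat_lit 0, nat_lit 0x0, nat_lit 0x0, [nat_lit 31, nat_lit 15]⟩, ⟨nat_lit 0, nat_lit 0x10204004, nat_lit 5, nat_lit 0, nat_lit 0, nat_lit 0x0, nat_lit 0x0, [nat_lit 31, nat_lit 15]⟩, ⟨nat_lit 0, nat_lit 0xc204004, nat_lit 5, nat_lit 0, nat_lit 0, nat_lit 0x0, nat_lit 0x0, [nat_lit 31, nat_lit 15]⟩, ⟨nat_lit 0, nat_lit 0x40c204005, nat_lit 5, nat_lit 0, nat_lit 0, nat_lit 0x0, nat_lit 0x0, [nat_lit 31, nat_lit 15]⟩, ⟨nat_lit 0, nat_lit 0x1, nat_lit 4, nat_lit 0, nat_lit 0, nat_lit 0x0, nat_lit 0x0, [nat_lit 15, nat_lit 14]⟩, ⟨nat_lit 0, nat_lit 0xc002, nat_lit 4, nat_lit 0, nat_lit 0, nat_lit 0x0, nat_lit 0x0, [nat_lit 14, nat_lit 13]⟩, ⟨nat_lit 0, nat_lit 0x8002, nat_lit 4, nat_lit 0, nat_lit 0, nat_lit 0x0, nat_lit 0x0, [nat_lit 13, nat_lit 12]⟩, ⟨nat_lit 0, nat_lit 0x308003, nat_lit 4, nat_lit 0, nat_lit 0, nat_lit 0x0, nat_lit 0x0, [nat_lit 12, nat_lit 11]⟩, ⟨nat_lit 0, nat_lit 0x4002, nat_lit 4, nat_lit 0, nat_lit 0, nat_lit 0x0, nat_lit 0x0, [nat_lit 11, nat_lit 10]⟩, ⟨nat_lit 0, nat_lit 0x304003, nat_lit 4, nat_lit 0, nat_lit 0, nat_lit 0x0, nat_lit 0x0, [nat_lit 10, nat_lit 9]⟩, ⟨nat_lit 0, nat_lit 0x204003, nat_lit 4, nat_lit 0, nat_lit 0, nat_lit 0x0, nat_lit 0x0, [nat_lit 9, nat_lit 8]⟩, ⟨nat_lit 0, nat_lit 0xc204004, nat_lit 4, nat_lit 0, nat_lit 0, nat_lit 0x0, nat_lit 0x0, [nat_lit 8, nat_lit 7]⟩, ⟨nat_lit 0, nat_lit 0x1, nat_lit 3, nat_lit 0, nat_lit 0, nat_lit 0x0, nat_lit 0x0, [nat_lit 7, nat_lit 6]⟩, ⟨nat_lit 0, nat_lit 0x8002, nat_lit 3, nat_lit 0, nat_lit 0, nat_lit 0x0, nat_lit 0x0, [nat_lit 6, nat_lit 5]⟩, ⟨nat_lit 0, nat_lit 0x4002, nat_lit 3, nat_lit 0, nat_lit 0, nat_lit 0x0, nat_lit 0x0, [nat_lit 5, nat_lit 4]⟩, ⟨nat_lit 0, nat_lit 0x204003, nat_lit 3, nat_lit 0, nat_lit 0, nat_lit 0x0, nat_lit 0x0, [nat_lit 4, nat_lit 3]⟩, ⟨nat_lit 0, nat_lit 0x1, nat_lit 2, nat_lit 0, nat_lit 0, nat_lit 0x0, nat_lit 0x0, [nat_lit 3, nat_lit 2]⟩, ⟨nat_lit 0, nat_lit 0x4002, nat_lit 2, nat_lit 0, nat_lit 0, nat_lit 0x0, nat_lit 0x0, [nat_lit 2, nat_lit 1]⟩, ⟨nat_lit 0, nat_lit 0x1, nat_lit 1, nat_lit 0, nat_lit 0, nat_lit 0x0, nat_lit 0x0, [nat_lit 1, nat_lit 0]⟩, ⟨nat_lit 0, nat_lit 0x0, nat_lit 0, nat_lit 0, nat_lit 0, nat_lit 0x0, nat_lit 0x0, [nat_lit 926, nat_lit 0]⟩]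
theorem oS_tr : trRun oS.eqW 2 0 18 18 18 [] oS_t (hasN [([], 0)]) (([], 1) :: lvs 18 oS_l) = true := by decide +kernel
theorem oS_lv : allZ (fun n w => anyL (fun r => LA22.eqW (cc n (fl oS_W w)) (cc r n)) [o_s, o_s ++ [3], o_s ++ [3] ++ o_b]) [[nat_lit 10, nat_lit 8, nat_lit 9, nat_lit 0, nat_lit 9, nat_lit 3, nat_lit 7, nat_lit 2, nat_lit 1, nat_lit 5, nat_lit 6, nat_lit 3, nat_lit 7, nat_lit 4, nat_lit 3, nat_lit 2, nat_lit 0, nat_lit 7, nat_lit 3, nat_lit 7, nat_lit 2, nat_lit 1, nat_lit 0, nat_lit 1, nat_lit 2, nat_lit 9, nat_lit 4, nat_lit 3, nat_lit 4, nat_lit 7, nat_lit 6, nat_lit 7, nat_lit 1, nat_lit 3, nat_lit 5, nat_lit 2, nat_lit 1, nat_lit 2, nat_lit 5, nat_lit 6, nat_lit 7, nat_lit 3, nat_lit 7, nat_lit 4, nat_lit 3, nat_lit 9, nat_lit 2, nat_lit 1, nat_lit 0, nat_lit 1, nat_lit 2, nat_lit 9, nat_lit 8, nat_lit 9, nat_lit 5, nat_lit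 1, nat_lit 0, nat_lit 1, nat_lit 5, nat_lit 9, nat_lit 6, nat_lit 7, nat_lit 3, nat_lit 8, nat_lit 7, nat_lit 9, nat_lit 3, nat_lit 2, nat_lit 1, nat_lit 0, nat_lit 1, nat_lit 2, nat_lit 3, nat_lit 9, nat_lit 6, nat_lit 7, nat_lit 4, nat_lit 6], [nat_lit 7, nat_lit 3, nat_lit 7, nat_lit 2, nat_lit 1, nat_lit 2, nat_lit 5, nat_lit 6, nat_lit 3, nat_lit 7, nat_lit 4, nat_lit 3, nat_lit 2, nat_lit 0, nat_lit 3, nat_lit 2, nat_lit 1, nat_lit 0, nat_lit 1, nat_lit 2, nat_lit 9, nat_lit 7, nat_lit 4, nat_lit 3, nat_lit 4, nat_lit 7, nat_lit 6, nat_lit 7, nat_lit 1, nat_lit 3, nat_lit 5, nat_lit 2, nat_lit 1, nat_lit 2, nat_lit 5, nat_lit 9, nat_lit 5, nat_lit 1, nat_lit 0, nat_lit 1, nat_lit 5, nat_lit 2, nat_lit 1, nat_lit 0, nat_lit 1, nat_lit 2, nat_lit 9], [nat_lit 5, nat_lit 9, nat_lit 7, nat_lit 3, nat_lit 2, nat_lit 1, nat_lit 0, nat_lit 1, nat_lit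 2, nat_lit 3, nat_lit 7, nat_lit 9, nat_lit 8, nat_lit 5, nat_lit 6, nat_lit 1, nat_lit 5, nat_lit 2, nat_lit 1, nat_lit 0, nat_lit 1, nat_lit 2, nat_lit 5, nat_lit 1, nat_lit 6, nat_lit 5, nat_lit 9, nat_lit 3, nat_lit 2, nat_lit 1, nat_lit 0, nat_lit 1, nat_lit 2, nat_lit 3, nat_lit 9, nat_lit 8, nat_lit 3, nat_lit 5, nat_lit 2, nat_lit 1, nat_lit 2, nat_lit 5, nat_lit 3, nat_lit 6, nat_lit 7, nat_lit 5, nat_lit 2, nat_lit 1, nat_lit 2, nat_lit 5, nat_lit 3, nat_lit 6, nat_lit 4, nat_lit 3, nat_lit 7, nat_lit 9, nat_lit 3, nat_lit 2, nat_lit 1, nat_lit 0, nat_lit 1, nat_lit 2, nat_lit 3, nat_lit 0, nat_lit 2, nat_lit 3, nat_lit 4, nat_lit 5, nat_lit 7, nat_lit 3, nat_lit 6, nat_lit 5, nat_lit 1, nat_lit 5, nat_lit 9], [nat_lit 8, nat_lit 4, nat_lit 3, nat_lit 1, nat_lit 2, nat_lit 9, nat_lit 1, nat_lit 7, nat_lit 4, nat_lit 5, nat_lit 3, nat_lit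 2, nat_lit 1, nat_lit 2, nat_lit 3, nat_lit 5, nat_lit 7, nat_lit 6, nat_lit 3, nat_lit 7, nat_lit 4, nat_lit 3, nat_lit 5, nat_lit 2, nat_lit 1, nat_lit 2, nat_lit 5, nat_lit 6, nat_lit 9, nat_lit 5, nat_lit 1, nat_lit 0, nat_lit 1, nat_lit 5, nat_lit 9, nat_lit 3, nat_lit 7, nat_lit 4, nat_lit 3, nat_lit 6, nat_lit 7, nat_lit 5, nat_lit 6, nat_lit 1, nat_lit 5, nat_lit 2, nat_lit 1, nat_lit 0, nat_lit 1, nat_lit 2, nat_lit 5, nat_lit 1, nat_lit 6, nat_lit 5, nat_lit 9, nat_lit 4, nat_lit 3, nat_lit 2, nat_lit 1, nat_lit 0, nat_lit 1, nat_lit 2, nat_lit 3, nat_lit 4, nat_lit 9, nat_lit 6], [nat_lit 6, nat_lit 9, nat_lit 4, nat_lit 3, nat_lit 2, nat_lit 1, nat_lit 0, nat_lit 1, nat_lit 2, nat_lit 3, nat_lit 4, nat_lit 9, nat_lit 8, nat_lit 4, nat_lit 9, nat_lit 5, nat_lit 1, nat_lit 0, nat_lit 1, nat_lit 5, nat_lit 9, nat_lit 6, nat_lit 7, nat_lit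 3, nat_lit 4, nat_lit 9, nat_lit 2, nat_lit 1, nat_lit 0, nat_lit 1, nat_lit 2, nat_lit 9, nat_lit 3, nat_lit 2, nat_lit 1, nat_lit 0, nat_lit 1, nat_lit 2, nat_lit 0, nat_lit 5, nat_lit 6, nat_lit 7, nat_lit 3, nat_lit 2, nat_lit 1, nat_lit 9, nat_lit 0, nat_lit 4, nat_lit 3, nat_lit 2, nat_lit 1, nat_lit 5, nat_lit 8, nat_lit 7, nat_lit 6, nat_lit 7], [nat_lit 9, nat_lit 7, nat_lit 3, nat_lit 2, nat_lit 3, nat_lit 1, nat_lit 6, nat_lit 5, nat_lit 6, nat_lit 7, nat_lit 4, nat_lit 3, nat_lit 2, nat_lit 0, nat_lit 8, nat_lit 9, nat_lit 5, nat_lit 1, nat_lit 0, nat_lit 1, nat_lit 5, nat_lit 6, nat_lit 7, nat_lit 3, nat_lit 5, nat_lit 2, nat_lit 1, nat_lit 2, nat_lit 5, nat_lit 3, nat_lit 4, nat_lit 9, nat_lit 3, nat_lit 2, nat_lit 1, nat_lit 0, nat_lit 1, nat_lit 2, nat_lit 3, nat_lit 9, nat_lit 5, nat_lit 6, nat_lit 1, nat_lit 5, nat_lit 2, nat_lit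 1, nat_lit 0, nat_lit 1, nat_lit 2, nat_lit 5, nat_lit 1, nat_lit 6, nat_lit 5, nat_lit 8, nat_lit 9, nat_lit 4, nat_lit 3, nat_lit 2, nat_lit 1, nat_lit 0, nat_lit 1, nat_lit 2, nat_lit 3, nat_lit 4, nat_lit 9, nat_lit 6], [nat_lit 4, nat_lit 8, nat_lit 9, nat_lit 1, nat_lit 6, nat_lit 5, nat_lit 6, nat_lit 3, nat_lit 7, nat_lit 4, nat_lit 3, nat_lit 2, nat_lit 0, nat_lit 8, nat_lit 4, nat_lit 9, nat_lit 2, nat_lit 1, nat_lit 0, nat_lit 1, nat_lit 2, nat_lit 9, nat_lit 6, nat_lit 3, nat_lit 7, nat_lit 6, nat_lit 4, nat_lit 3, nat_lit 5, nat_lit 2, nat_lit 1, nat_lit 2, nat_lit 5, nat_lit 3, nat_lit 7, nat_lit 4, nat_lit 3, nat_lit 5, nat_lit 6, nat_lit 1, nat_lit 5, nat_lit 2, nat_lit 1, nat_lit 0, nat_lit 1, nat_lit 2, nat_lit 5, nat_lit 1, nat_lit 6, nat_lit 5, nat_lit 4, nat_lit 9, nat_lit 4, nat_lit 3, nat_lit 2, nat_lit 1, nat_lit 0, nat_lit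 1, nat_lit 2, nat_lit 3, nat_lit 4, nat_lit 9, nat_lit 6, nat_lit 8, nat_lit 1, nat_lit 7], [nat_lit 10, nat_lit 7, nat_lit 9, nat_lit 7, nat_lit 3, nat_lit 2, nat_lit 1, nat_lit 0, nat_lit 1, nat_lit 2, nat_lit 3, nat_lit 7, nat_lit 3, nat_lit 2, nat_lit 1, nat_lit 0, nat_lit 1, nat_lit 2, nat_lit 3, nat_lit 9, nat_lit 3, nat_lit 7, nat_lit 9, nat_lit 5, nat_lit 1, nat_lit 0, nat_lit 1, nat_lit 5, nat_lit 9, nat_lit 6, nat_lit 8, nat_lit 5, nat_lit 2, nat_lit 1, nat_lit 2, nat_lit 5, nat_lit 3, nat_lit 4, nat_lit 1, nat_lit 7, nat_lit 3, nat_lit 6, nat_lit 5, nat_lit 2, nat_lit 1, nat_lit 2, nat_lit 5, nat_lit 6, nat_lit 3, nat_lit 0, nat_lit 2, nat_lit 3, nat_lit 4, nat_lit 5, nat_lit 7, nat_lit 3, nat_lit 2, nat_lit 9, nat_lit 8, nat_lit 5, nat_lit 7], [nat_lit 3, nat_lit 7, nat_lit 8, nat_lit 6, nat_lit 9, nat_lit 7, nat_lit 3, nat_lit 2, nat_lit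 1, nat_lit 0, nat_lit 1, nat_lit 2, nat_lit 3, nat_lit 7, nat_lit 9, nat_lit 4, nat_lit 3, nat_lit 4, nat_lit 7, nat_lit 3, nat_lit 6, nat_lit 9, nat_lit 5, nat_lit 1, nat_lit 0, nat_lit 1, nat_lit 5, nat_lit 9, nat_lit 8, nat_lit 9, nat_lit 2, nat_lit 1, nat_lit 0, nat_lit 1, nat_lit 2, nat_lit 9, nat_lit 8, nat_lit 3, nat_lit 7, nat_lit 4, nat_lit 6, nat_lit 5, nat_lit 2, nat_lit 1, nat_lit 2, nat_lit 5, nat_lit 3, nat_lit 4, nat_lit 1, nat_lit 2, nat_lit 1, nat_lit 3, nat_lit 2, nat_lit 7], [nat_lit 10, nat_lit 7, nat_lit 4, nat_lit 2, nat_lit 3, nat_lit 1, nat_lit 2, nat_lit 3, nat_lit 7, nat_lit 6, nat_lit 5, nat_lit 2, nat_lit 1, nat_lit 2, nat_lit 5, nat_lit 4, nat_lit 3, nat_lit 4, nat_lit 7, nat_lit 6, nat_lit 3, nat_lit 5, nat_lit 2, nat_lit 1, nat_lit 2, nat_lit 5, nat_lit 6, nat_lit 9, nat_lit 5, nat_lit 1, nat_lit 0, nat_lit 1, nat_lit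 5, nat_lit 2, nat_lit 1, nat_lit 0, nat_lit 1, nat_lit 2, nat_lit 9, nat_lit 7, nat_lit 9, nat_lit 7, nat_lit 3, nat_lit 2, nat_lit 1, nat_lit 0, nat_lit 1, nat_lit 2, nat_lit 3, nat_lit 7, nat_lit 9], [nat_lit 8, nat_lit 9, nat_lit 7, nat_lit 3, nat_lit 2, nat_lit 0, nat_lit 8, nat_lit 5, nat_lit 1, nat_lit 0, nat_lit 1, nat_lit 5, nat_lit 9, nat_lit 4, nat_lit 3, nat_lit 4, nat_lit 7, nat_lit 6, nat_lit 5, nat_lit 2, nat_lit 1, nat_lit 2, nat_lit 5, nat_lit 3, nat_lit 7, nat_lit 6, nat_lit 4, nat_lit 3, nat_lit 5, nat_lit 2, nat_lit 1, nat_lit 2, nat_lit 5, nat_lit 9, nat_lit 2, nat_lit 1, nat_lit 0, nat_lit 1, nat_lit 2, nat_lit 9, nat_lit 6, nat_lit 3, nat_lit 7, nat_lit 4, nat_lit 3, nat_lit 9, nat_lit 3, nat_lit 2, nat_lit 1, nat_lit 0, nat_lit 1, nat_lit 2, nat_lit 3, nat_lit 9, nat_lit 7, nat_lit 4], [nat_lit 6, nat_lit 5, nat_lit 6, nat_lit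 7, nat_lit 4, nat_lit 3, nat_lit 2, nat_lit 9, nat_lit 3, nat_lit 2, nat_lit 1, nat_lit 0, nat_lit 1, nat_lit 2, nat_lit 3, nat_lit 8, nat_lit 9, nat_lit 4, nat_lit 2, nat_lit 1, nat_lit 0, nat_lit 1, nat_lit 2, nat_lit 7, nat_lit 3, nat_lit 7, nat_lit 6, nat_lit 5, nat_lit 2, nat_lit 1, nat_lit 2, nat_lit 5, nat_lit 8, nat_lit 6, nat_lit 9, nat_lit 5, nat_lit 1, nat_lit 0, nat_lit 1, nat_lit 5, nat_lit 9, nat_lit 3, nat_lit 7, nat_lit 4, nat_lit 3, nat_lit 7, nat_lit 6, nat_lit 8], [nat_lit 10, nat_lit 8, nat_lit 9, nat_lit 4, nat_lit 3, nat_lit 2, nat_lit 1, nat_lit 0, nat_lit 1, nat_lit 2, nat_lit 3, nat_lit 4, nat_lit 7, nat_lit 3, nat_lit 2, nat_lit 1, nat_lit 0, nat_lit 1, nat_lit 2, nat_lit 3, nat_lit 7, nat_lit 9, nat_lit 6, nat_lit 4, nat_lit 7, nat_lit 3, nat_lit 4, nat_lit 7, nat_lit 6, nat_lit 2, nat_lit 1, nat_lit 0, nat_lit 1, nat_lit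 2, nat_lit 3, nat_lit 4, nat_lit 0, nat_lit 2, nat_lit 3, nat_lit 4, nat_lit 7, nat_lit 3, nat_lit 6, nat_lit 5, nat_lit 1, nat_lit 9, nat_lit 0, nat_lit 2, nat_lit 7, nat_lit 9, nat_lit 8, nat_lit 3], [nat_lit 2, nat_lit 5, nat_lit 8, nat_lit 4, nat_lit 9, nat_lit 5, nat_lit 1, nat_lit 0, nat_lit 1, nat_lit 5, nat_lit 9, nat_lit 6, nat_lit 7, nat_lit 3, nat_lit 7, nat_lit 4, nat_lit 6, nat_lit 8, nat_lit 2, nat_lit 1, nat_lit 0, nat_lit 1, nat_lit 2, nat_lit 3, nat_lit 4, nat_lit 7, nat_lit 0, nat_lit 2, nat_lit 3, nat_lit 4, nat_lit 7, nat_lit 3, nat_lit 6, nat_lit 5, nat_lit 7, nat_lit 2, nat_lit 1, nat_lit 2, nat_lit 3, nat_lit 9, nat_lit 8, nat_lit 4, nat_lit 3], [nat_lit 10, nat_lit 8, nat_lit 9, nat_lit 0, nat_lit 9, nat_lit 1, nat_lit 5, nat_lit 6, nat_lit 3, nat_lit 7, nat_lit 4, nat_lit 3, nat_lit 2, nat_lit 0, nat_lit 5, nat_lit 1, nat_lit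 0, nat_lit 1, nat_lit 5, nat_lit 9, nat_lit 7, nat_lit 6, nat_lit 5, nat_lit 2, nat_lit 1, nat_lit 2, nat_lit 5, nat_lit 4, nat_lit 3, nat_lit 4, nat_lit 7, nat_lit 6, nat_lit 3, nat_lit 5, nat_lit 2, nat_lit 1, nat_lit 2, nat_lit 5, nat_lit 9, nat_lit 5, nat_lit 1, nat_lit 0, nat_lit 1, nat_lit 5, nat_lit 9, nat_lit 6, nat_lit 7, nat_lit 4, nat_lit 3, nat_lit 6, nat_lit 7, nat_lit 8], [nat_lit 5, nat_lit 4, nat_lit 3, nat_lit 1, nat_lit 2, nat_lit 6, nat_lit 7, nat_lit 3, nat_lit 7, nat_lit 5, nat_lit 2, nat_lit 1, nat_lit 2, nat_lit 5, nat_lit 6, nat_lit 1, nat_lit 4, nat_lit 3, nat_lit 5, nat_lit 2, nat_lit 1, nat_lit 2, nat_lit 5, nat_lit 4, nat_lit 9, nat_lit 3, nat_lit 2, nat_lit 1, nat_lit 0, nat_lit 1, nat_lit 2, nat_lit 3, nat_lit 9, nat_lit 8, nat_lit 9, nat_lit 6, nat_lit 5, nat_lit 1, nat_lit 0, nat_lit 1, nat_lit 5, nat_lit 6, nat_lit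 9, nat_lit 7, nat_lit 4, nat_lit 3, nat_lit 9, nat_lit 7, nat_lit 3, nat_lit 2, nat_lit 1, nat_lit 0, nat_lit 1, nat_lit 2, nat_lit 3, nat_lit 7, nat_lit 9, nat_lit 3, nat_lit 9], [nat_lit 9, nat_lit 8, nat_lit 4, nat_lit 0, nat_lit 9, nat_lit 1, nat_lit 2, nat_lit 3, nat_lit 7, nat_lit 6, nat_lit 5, nat_lit 4, nat_lit 3, nat_lit 2, nat_lit 0, nat_lit 5, nat_lit 3, nat_lit 2, nat_lit 1, nat_lit 2, nat_lit 3, nat_lit 5, nat_lit 8, nat_lit 9, nat_lit 2, nat_lit 1, nat_lit 0, nat_lit 1, nat_lit 2, nat_lit 9, nat_lit 3, nat_lit 7, nat_lit 6, nat_lit 4, nat_lit 3, nat_lit 5, nat_lit 2, nat_lit 1, nat_lit 2, nat_lit 5, nat_lit 7, nat_lit 6, nat_lit 9, nat_lit 5, nat_lit 1, nat_lit 0, nat_lit 1, nat_lit 5, nat_lit 9, nat_lit 4, nat_lit 8, nat_lit 9, nat_lit 7, nat_lit 3, nat_lit 2, nat_lit 1, nat_lit 0, nat_lit 1, nat_lit 2, nat_lit 3, nat_lit 7, nat_lit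 4, nat_lit 3, nat_lit 2, nat_lit 1, nat_lit 0, nat_lit 1, nat_lit 2, nat_lit 3, nat_lit 4, nat_lit 9, nat_lit 1], [nat_lit 9, nat_lit 2, nat_lit 3, nat_lit 7, nat_lit 1, nat_lit 2, nat_lit 0, nat_lit 9, nat_lit 5, nat_lit 1, nat_lit 5, nat_lit 6, nat_lit 2, nat_lit 3, nat_lit 7, nat_lit 4, nat_lit 3, nat_lit 2, nat_lit 0, nat_lit 8, nat_lit 9, nat_lit 3, nat_lit 2, nat_lit 1, nat_lit 0, nat_lit 1, nat_lit 2, nat_lit 4, nat_lit 3, nat_lit 7, nat_lit 6, nat_lit 5, nat_lit 2, nat_lit 1, nat_lit 2, nat_lit 5, nat_lit 4, nat_lit 3, nat_lit 7, nat_lit 9, nat_lit 7, nat_lit 3, nat_lit 2, nat_lit 1, nat_lit 0, nat_lit 1, nat_lit 2, nat_lit 3, nat_lit 7, nat_lit 9, nat_lit 2, nat_lit 5], [nat_lit 9, nat_lit 7, nat_lit 3, nat_lit 2, nat_lit 1, nat_lit 0, nat_lit 1, nat_lit 2, nat_lit 3, nat_lit 7, nat_lit 9, nat_lit 6, nat_lit 8, nat_lit 9, nat_lit 3, nat_lit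 2, nat_lit 1, nat_lit 0, nat_lit 1, nat_lit 2, nat_lit 3, nat_lit 9, nat_lit 3, nat_lit 4, nat_lit 9, nat_lit 5, nat_lit 1, nat_lit 0, nat_lit 1, nat_lit 5, nat_lit 9, nat_lit 6, nat_lit 8, nat_lit 5, nat_lit 2, nat_lit 1, nat_lit 2, nat_lit 5, nat_lit 3, nat_lit 1, nat_lit 6, nat_lit 7, nat_lit 4, nat_lit 3, nat_lit 4, nat_lit 9, nat_lit 2, nat_lit 1, nat_lit 0, nat_lit 1, nat_lit 2, nat_lit 9, nat_lit 0, nat_lit 2, nat_lit 3, nat_lit 4, nat_lit 5, nat_lit 1, nat_lit 9, nat_lit 0, nat_lit 2, nat_lit 3, nat_lit 6, nat_lit 5, nat_lit 7, nat_lit 6, nat_lit 5], [nat_lit 10, nat_lit 6, nat_lit 7, nat_lit 5, nat_lit 3, nat_lit 4, nat_lit 1, nat_lit 2, nat_lit 3, nat_lit 7, nat_lit 6, nat_lit 5, nat_lit 0, nat_lit 3, nat_lit 2, nat_lit 1, nat_lit 0, nat_lit 1, nat_lit 2, nat_lit 1, nat_lit 6, nat_lit 3, nat_lit 4, nat_lit 9, nat_lit 2, nat_lit 1, nat_lit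 0, nat_lit 1, nat_lit 2, nat_lit 9, nat_lit 8, nat_lit 9, nat_lit 5, nat_lit 1, nat_lit 0, nat_lit 1, nat_lit 5, nat_lit 9, nat_lit 3, nat_lit 9, nat_lit 3, nat_lit 2, nat_lit 1, nat_lit 0, nat_lit 1, nat_lit 2, nat_lit 3, nat_lit 4, nat_lit 3, nat_lit 2, nat_lit 1, nat_lit 0, nat_lit 1, nat_lit 2, nat_lit 3, nat_lit 4, nat_lit 9, nat_lit 6], [nat_lit 9, nat_lit 6, nat_lit 7, nat_lit 3, nat_lit 2, nat_lit 1, nat_lit 0, nat_lit 1, nat_lit 2, nat_lit 3, nat_lit 7, nat_lit 6, nat_lit 9, nat_lit 4, nat_lit 7, nat_lit 3, nat_lit 7, nat_lit 6, nat_lit 9, nat_lit 5, nat_lit 1, nat_lit 0, nat_lit 1, nat_lit 5, nat_lit 9, nat_lit 5, nat_lit 2, nat_lit 1, nat_lit 2, nat_lit 5, nat_lit 3, nat_lit 4, nat_lit 7, nat_lit 3, nat_lit 6, nat_lit 5, nat_lit 2, nat_lit 1, nat_lit 2, nat_lit 5, nat_lit 6, nat_lit 3, nat_lit 9, nat_lit 8, nat_lit 0, nat_lit 2, nat_lit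 3, nat_lit 4, nat_lit 5, nat_lit 1, nat_lit 6, nat_lit 7, nat_lit 3, nat_lit 9, nat_lit 8, nat_lit 6, nat_lit 5, nat_lit 6], [nat_lit 3, nat_lit 7, nat_lit 4, nat_lit 3, nat_lit 2, nat_lit 6, nat_lit 5, nat_lit 1, nat_lit 0, nat_lit 1, nat_lit 5, nat_lit 6, nat_lit 5, nat_lit 3, nat_lit 2, nat_lit 1, nat_lit 2, nat_lit 3, nat_lit 5, nat_lit 6, nat_lit 7, nat_lit 4, nat_lit 3, nat_lit 2, nat_lit 1, nat_lit 0, nat_lit 1, nat_lit 2, nat_lit 1, nat_lit 8, nat_lit 9, nat_lit 5, nat_lit 1, nat_lit 0, nat_lit 1, nat_lit 5, nat_lit 9, nat_lit 8, nat_lit 7, nat_lit 6, nat_lit 9, nat_lit 5, nat_lit 1, nat_lit 0, nat_lit 1, nat_lit 5, nat_lit 9, nat_lit 3, nat_lit 7, nat_lit 4, nat_lit 3, nat_lit 9, nat_lit 3, nat_lit 2, nat_lit 1, nat_lit 0, nat_lit 1, nat_lit 2, nat_lit 3, nat_lit 9, nat_lit 6, nat_lit 7, nat_lit 4, nat_lit 6, nat_lit 9, nat_lit 7, nat_lit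 3, nat_lit 2, nat_lit 1, nat_lit 0, nat_lit 1, nat_lit 2, nat_lit 3, nat_lit 7, nat_lit 9], [nat_lit 6, nat_lit 4, nat_lit 2, nat_lit 3, nat_lit 7, nat_lit 1, nat_lit 2, nat_lit 0, nat_lit 9, nat_lit 1, nat_lit 5, nat_lit 6, nat_lit 3, nat_lit 7, nat_lit 4, nat_lit 3, nat_lit 2, nat_lit 0, nat_lit 3, nat_lit 5, nat_lit 2, nat_lit 1, nat_lit 2, nat_lit 5, nat_lit 7, nat_lit 6, nat_lit 3, nat_lit 5, nat_lit 2, nat_lit 1, nat_lit 2, nat_lit 5, nat_lit 9, nat_lit 5, nat_lit 1, nat_lit 0, nat_lit 1, nat_lit 5, nat_lit 9, nat_lit 7, nat_lit 4, nat_lit 3, nat_lit 4, nat_lit 7, nat_lit 8, nat_lit 9, nat_lit 6, nat_lit 5, nat_lit 1, nat_lit 0, nat_lit 1, nat_lit 5, nat_lit 6, nat_lit 9, nat_lit 7, nat_lit 3, nat_lit 5, nat_lit 6, nat_lit 1, nat_lit 5, nat_lit 2, nat_lit 1, nat_lit 0, nat_lit 1, nat_lit 2, nat_lit 5, nat_lit 1, nat_lit 6, nat_lit 5, nat_lit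 7, nat_lit 4, nat_lit 8, nat_lit 9, nat_lit 6, nat_lit 7, nat_lit 3, nat_lit 2, nat_lit 1, nat_lit 0, nat_lit 1, nat_lit 2, nat_lit 3, nat_lit 7, nat_lit 6, nat_lit 9, nat_lit 8, nat_lit 4], [nat_lit 7, nat_lit 5, nat_lit 3, nat_lit 4, nat_lit 1, nat_lit 2, nat_lit 3, nat_lit 7, nat_lit 6, nat_lit 5, nat_lit 0, nat_lit 5, nat_lit 2, nat_lit 1, nat_lit 2, nat_lit 5, nat_lit 7, nat_lit 4, nat_lit 3, nat_lit 4, nat_lit 7, nat_lit 6, nat_lit 8, nat_lit 9, nat_lit 7, nat_lit 1, nat_lit 3, nat_lit 5, nat_lit 2, nat_lit 1, nat_lit 2, nat_lit 5, nat_lit 8, nat_lit 7, nat_lit 6, nat_lit 3, nat_lit 7, nat_lit 4, nat_lit 3, nat_lit 9, nat_lit 2, nat_lit 1, nat_lit 0, nat_lit 1, nat_lit 2, nat_lit 9, nat_lit 8, nat_lit 7, nat_lit 9, nat_lit 6, nat_lit 5, nat_lit 1, nat_lit 0, nat_lit 1, nat_lit 5, nat_lit 6, nat_lit 9, nat_lit 3, nat_lit 7, nat_lit 4, nat_lit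 3, nat_lit 8, nat_lit 9, nat_lit 7, nat_lit 3, nat_lit 2, nat_lit 1, nat_lit 0, nat_lit 1, nat_lit 2, nat_lit 3, nat_lit 7, nat_lit 9], [nat_lit 1, nat_lit 9, nat_lit 7, nat_lit 3, nat_lit 2, nat_lit 1, nat_lit 0, nat_lit 1, nat_lit 2, nat_lit 3, nat_lit 7, nat_lit 9, nat_lit 6, nat_lit 8, nat_lit 9, nat_lit 7, nat_lit 3, nat_lit 2, nat_lit 1, nat_lit 0, nat_lit 1, nat_lit 2, nat_lit 3, nat_lit 7, nat_lit 3, nat_lit 2, nat_lit 1, nat_lit 0, nat_lit 1, nat_lit 2, nat_lit 3, nat_lit 9, nat_lit 3, nat_lit 4, nat_lit 7, nat_lit 3, nat_lit 6, nat_lit 7, nat_lit 9, nat_lit 2, nat_lit 1, nat_lit 0, nat_lit 1, nat_lit 2, nat_lit 9, nat_lit 3, nat_lit 9, nat_lit 5, nat_lit 1, nat_lit 0, nat_lit 1, nat_lit 5, nat_lit 9, nat_lit 4, nat_lit 1, nat_lit 5, nat_lit 1, nat_lit 0, nat_lit 1, nat_lit 5, nat_lit 6, nat_lit 7, nat_lit 3, nat_lit 5, nat_lit 2, nat_lit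 1, nat_lit 2, nat_lit 5, nat_lit 4, nat_lit 3, nat_lit 0, nat_lit 2, nat_lit 3, nat_lit 4, nat_lit 5, nat_lit 1, nat_lit 9, nat_lit 0, nat_lit 6, nat_lit 5, nat_lit 7, nat_lit 3, nat_lit 2, nat_lit 3, nat_lit 1], [nat_lit 9, nat_lit 5, nat_lit 6, nat_lit 7, nat_lit 4, nat_lit 3, nat_lit 2, nat_lit 0, nat_lit 9, nat_lit 2, nat_lit 1, nat_lit 0, nat_lit 1, nat_lit 2, nat_lit 9, nat_lit 6, nat_lit 3, nat_lit 5, nat_lit 2, nat_lit 1, nat_lit 2, nat_lit 5, nat_lit 7, nat_lit 6, nat_lit 4, nat_lit 3, nat_lit 5, nat_lit 2, nat_lit 1, nat_lit 2, nat_lit 5, nat_lit 8, nat_lit 7, nat_lit 6, nat_lit 9, nat_lit 5, nat_lit 1, nat_lit 0, nat_lit 1, nat_lit 5, nat_lit 9, nat_lit 3, nat_lit 7, nat_lit 4, nat_lit 3, nat_lit 5, nat_lit 6, nat_lit 1, nat_lit 5, nat_lit 2, nat_lit 1, nat_lit 0, nat_lit 1, nat_lit 2, nat_lit 5, nat_lit 1, nat_lit 6, nat_lit 5, nat_lit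 6, nat_lit 7, nat_lit 6, nat_lit 8], [nat_lit 10, nat_lit 6, nat_lit 4, nat_lit 3, nat_lit 2, nat_lit 1, nat_lit 0, nat_lit 1, nat_lit 2, nat_lit 3, nat_lit 4, nat_lit 9, nat_lit 5, nat_lit 6, nat_lit 1, nat_lit 5, nat_lit 2, nat_lit 1, nat_lit 0, nat_lit 1, nat_lit 2, nat_lit 5, nat_lit 1, nat_lit 6, nat_lit 5, nat_lit 7, nat_lit 6, nat_lit 3, nat_lit 4, nat_lit 7, nat_lit 3, nat_lit 6, nat_lit 7, nat_lit 9, nat_lit 5, nat_lit 1, nat_lit 0, nat_lit 1, nat_lit 5, nat_lit 9, nat_lit 8, nat_lit 9, nat_lit 2, nat_lit 1, nat_lit 0, nat_lit 1, nat_lit 2, nat_lit 9, nat_lit 8, nat_lit 3, nat_lit 4, nat_lit 7, nat_lit 6, nat_lit 5, nat_lit 2, nat_lit 1, nat_lit 2, nat_lit 5, nat_lit 3, nat_lit 4, nat_lit 6, nat_lit 7, nat_lit 3, nat_lit 9, nat_lit 2, nat_lit 1, nat_lit 0, nat_lit 1, nat_lit 2, nat_lit 5, nat_lit 2, nat_lit 1, nat_lit 2, nat_lit 5, nat_lit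 3, nat_lit 0, nat_lit 2, nat_lit 3, nat_lit 5, nat_lit 6, nat_lit 7, nat_lit 9, nat_lit 8]] oS_l = true := by decide +kernel

section
variable {G : Type*} [Group G] [Finite G]

theorem card_of_quot {H : Type*} [Group H] {C N : Subgroup G} (h : N ≤ C) (φ : C →* H)
    (h1 : Function.Surjective φ) (h2 : φ.ker = N.subgroupOf C) : Nat.card C = Nat.card N * Nat.card H := by
  rw [← φ.ker.card_mul_index, index_ker, MonoidHom.range_eq_top.2 h1, card_top, h2,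
    Nat.card_congr (subgroupOfEquivOfLe h).toEquiv]

/-- the fixed points of an automorphism -/
def fixA (u : MulAut G) : Subgroup G := (centralizer {u}).comap MulAut.conj

theorem mem_fixA (hc : center G = ⊥) {u : MulAut G} {x : G} : x ∈ fixA u ↔ u x = x :=
  mem_cent_one.trans ((Commute.symm_iff).trans (commute_conj_aut hc))

theorem card_fixA (hc : center G = ⊥) (i2 : (MulAut.conj : G →* MulAut G).range.index = 2) {u : MulAut G}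
    (hu : u ∉ (MulAut.conj : G →* MulAut G).range) : Nat.card (fixA u) * 2 = Nat.card (centralizer {u}) := by
  rw [← card_inf_two i2 (mem_cent_one.2 (Commute.refl u)) hu, ← map_comap_eq,
    card_map_of_injective (conj_injective hc)]
  rfl

theorem card_cent_isConj {a b : G} (h : IsConj a b) :
    Nat.card (centralizer ({a} : Set G)) = Nat.card (centralizer ({b} : Set G)) := by
  obtain ⟨x, rfl⟩ := isConj_iff.1 h
  rw [← card_map_of_injective (f := (MulAut.conj x).toMonoidHom) (MulAut.conj x).injective]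
  congr 2
  ext y
  rw [mem_map_equiv, mem_cent_one, mem_cent_one, ← commute_map_iff (MulAut.conj x).toMonoidHom
    (MulAut.conj x).injective, MulEquiv.coe_toMonoidHom, MulEquiv.apply_symm_apply, MulAut.conj_apply]

variable {L : LD} {g t : ℕ → G}

theorem LA.sign (h : LA L g t) (X : ℕ) (e : an (blt 0 L.n) (allN (fun i => allN (fun p =>
    nt (beqB (tb X (L.tab i p)) (tb X p))) L.n) L.r) = true) :
    ∃ ε : KG g L.r →* Multiplicative (ZMod 2), ∀ i < L.r, ∀ hx, ε ⟨g i, hx⟩ ≠ 1 := by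
  simp only [an_iff, blt_iff, allN_iff, nt_iff] at e
  obtain ⟨ε, -, h2⟩ := h.hom (fun _ => Multiplicative.ofAdd (1 : ZMod 2)) (fun p => tb X p)
    (fun x l => xor l (decide (x ≠ 1))) (by decide) (by decide) (fun i hi p hp => by
      have := e.2 i hi p hp
      revert this
      cases tb X (L.tab i p) <;> cases tb X p <;> decide) fun y _ hy => by
      have := hy 0 e.1
      by_contra h1
      simp [h1] at this
  refine ⟨ε, fun i hi hx => ?_⟩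
  have := h2 [i] (by simpa using hi)
  simp only [ev_cons, ev_nil, mul_one] at this
  rw [this]; decide

/-- the only point of an invariant view commuting with all others is fixed -/
theorem Cx.fix_center {σ : ℕ → ℕ} {n : ℕ} {DB : List (ℕ × ℕ)} {K : Subgroup G}
    (h : Cx L g t σ n DB (ones n) K) {q : ℕ} {a : Cw} {Φ : List (ℕ × Cw)}
    (e : an (blt q n) (an (L.ptOK (σ q, a)) (an (allL (fun f => an (blt f.1 n) (L.ptOK (σ f.1, f.2))) Φ)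
      (allN (fun p => an (L.mp (cw a) (σ p) (σ p)) (orr (Nat.beq p q)
        (anyL (fun f => nt (L.mp (cw f.2) (σ p) (σ p))) Φ))) n))) = true) :
    ∀ x ∈ K, Commute x (t (σ q)) := fun x hx => by
  simp only [an_iff, blt_iff, allL_iff, allN_iff, orr_iff, anyL_iff, beq_iff, nt_iff] at e
  obtain ⟨e1, e2, e3, e4⟩ := e
  have m : ∀ p < n, t (σ p) ∈ ms (fun q => t (σ q)) n (ones n) := fun p hp =>
    ⟨p, hp, by rw [testBit_ones]; exact decide_eq_true hp, rfl⟩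
  obtain ⟨p, hp, -, k⟩ := h.X0 x hx _ (m q e1)
  rcases (e4 p hp).2 with rfl | ⟨f, hf, k2⟩
  · exact conj_eq_iff_commute.1 k.symm
  · obtain ⟨b1, -, b3⟩ := h.la.ptOK (e3 f hf).2
    obtain ⟨r, hr, -, k3⟩ := h.X0 _ (inv_mem hx) _ (m _ (e3 f hf).1)
    have c := h.la.mp_fix (e4 r hr).1
    rw [← (h.la.ptOK e2).2.2, show t (σ r) = _ from k3] at c
    have c2 : Commute (ev g (cw f.2)) (t (σ p)) := by
      rw [← b3, show t (σ p) = _ from k]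
      simpa [mul_assoc] using (c.conj x).symm
    have lt := h.view.1 p hp
    rw [h.la.commute_iff (h.la.cw_lt b1) lt] at c2
    rw [LD.mp, wOK_iff.2 (h.la.cw_lt b1), blt_iff.2 lt, c2, beq_iff.2 rfl] at k2
    cases k2

/-- classes of involutions outside a normal subgroup from a class tree -/
theorem classes_of_tree {H : Subgroup G} [H.Normal] {b : ℕ} (pc : PC g 2 0 b b)
    (hG : ¬ 2 ^ (b + 1) ∣ Nat.card G) (hH : ∀ i, 1 ≤ i → i < b → g i ∈ H) {eq : List ℕ → List ℕ → Bool}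
    (heq : ∀ u v, eq u v = true → ev g u = ev g v) {R : Set G} {l : List (List ℕ)}
    (hl : ∀ w ∈ l, ∃ r ∈ R, IsConj (ev g w) r) {st : List TS}
    (e : trRun eq 2 0 b b b [] st (hasN [([], 0)]) (([], 1) :: lvs b l) = true) :
    ∀ y, y ^ 2 = 1 → y ∉ H → ∃ r ∈ R, IsConj y r := by
  have hQ : QH (fun y => y ^ 2 = 1 → y ∉ H → ∃ r ∈ R, IsConj y r) 2 ⊤ :=
    ⟨fun _ h => absurd (one_mem _) h, fun _ h h' => absurd h' h, fun n _ y h h1 h2 =>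
      (h (by rw [conj_pow, h1]; simp) fun e => h2 (by simpa [mul_assoc] using ‹H.Normal›.conj_mem _ e n⁻¹)).imp
        fun r k => ⟨k.1, (isConj_iff.2 ⟨n, rfl⟩).trans k.2⟩, fun e h1 h2 y h => by
      obtain rfl : e = 1 := by omega
      rwa [pow_one] at h⟩
  have k := Nd.root (pc.tr heq hQ (fun _ _ => mem_top _) (B := []) (by simp) st
    (List.forall_mem_cons.2 ⟨fun k hk _ h => absurd (by
      simpa using (closure_le _).2 (by rintro _ ⟨i, hi, rfl⟩; exact hH i hi.1 hi.2) hk) h,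
      Nd.lvs fun w hw _ _ => hl w hw⟩) e)
  intro y hy
  obtain ⟨x, hx⟩ := exists_conj_le Nat.prime_two (pc.card 0 le_rfl (Nat.zero_le _)) hG (X := zpowers y)
    (fun z => ⟨1, Subtype.ext (by
      rcases (mem_zp2 ((pow_two y).symm.trans hy)).1 z.2 with e | e <;> simp [e, hy])⟩)
  obtain ⟨z, hz, e⟩ := hx (mem_zpowers y)
  exact hQ.cj x⁻¹ (mem_top _) y (by rw [← e]; simpa [mul_assoc] using k z hz) hy

theorem ev_inn {s : MulAut G} {w : List ℕ} (h : wOK 10 w = true) :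
    ev (gx 10 (fun i => MulAut.conj (g i)) s) w = MulAut.conj (ev g w) := by
  rw [ev_gx (wOK_iff.1 h), ev, ev, map_list_prod, List.map_map]; rfl

variable {D : Set G}

theorem out_main (h : Model S22 D t) (hG : Nat.card G = 64561751654400)
    (hD : ∀ s : MulAut G, ∀ x ∈ D, s x ∈ D) :
    ∃ (s : MulAut G) (a b : G), orderOf s = 2 ∧ s ∉ (MulAut.conj : G →* MulAut G).range ∧
      Nonempty (fixA s ≃* MulAut Om8) ∧ a ∈ D ∧ b ∈ D ∧ a ≠ b ∧ Commute a b ∧ s a = a ∧ s b = b ∧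
      (∀ u : MulAut G, orderOf u = 2 → u ∉ (MulAut.conj : G →* MulAut G).range →
        IsConj u s ∨ IsConj u (s * MulAut.conj a) ∨ IsConj u (s * MulAut.conj (a * b))) ∧
      ¬ IsConj s (s * MulAut.conj a) ∧ ¬ IsConj s (s * MulAut.conj (a * b)) ∧
      ¬ IsConj (s * MulAut.conj a) (s * MulAut.conj (a * b)) ∧
      fixA (s * MulAut.conj a) = fixA s ⊓ centralizer {a} ∧
      Nonempty (fixA (s * MulAut.conj a) ≃* Multiplicative (ZMod 2) × Sp6) ∧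
      ∃ O : Subgroup G, IsElementaryAbelian 2 O ∧ Nat.card O = 64 ∧ O ≤ fixA (s * MulAut.conj (a * b)) ∧
        ∃ φ : fixA (s * MulAut.conj (a * b)) →* O6, Function.Surjective φ ∧ φ.ker = O.subgroupOf _ := by
  obtain ⟨π, -, -, hπ, lm⟩ := exists_out22 h hG
  have la := lm.toLA
  have m0 := lm22 h hG
  have l0 := m0.toLA
  have hc := h.center
  obtain ⟨i2, cA, -⟩ := aut_eq_of_le hc (hG ▸ card_aut22 h hD) hπ
  have c0 := h.cxA hD LP22.bs hF22 og_A_ok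
  have og : Cx LA22 _ _ _ _ _ _ _ := ⟨la, c0.view, c0.DB, c0.X0⟩
  have := Fact.mk Nat.prime_two
  have hs := lm.card_zp Nat.prime_two (x := o_s) (q := 2) (by decide +kernel)
  set gA := gx 10 (fun i => MulAut.conj (Model.g S22 t i)) π with hgA
  have inn : ∀ {w : List ℕ}, wOK 10 w = true → ev gA w = MulAut.conj (ev (Model.g S22 t) w) := ev_inn
  have out : ∀ w : List ℕ, wOK 10 w = true → ev gA (10 :: w) ∉ (MulAut.conj : G →* MulAut G).range :=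
    fun w hw e => hπ (by
      rw [ev_cons, inn hw, hgA, gx_self] at e
      exact (mul_mem_cancel_right (MonoidHom.mem_range.2 ⟨_, rfl⟩)).1 e)
  have e2 : ev gA o_s * MulAut.conj (ev (Model.g S22 t) [3]) = ev gA (o_s ++ [3]) := by
    rw [ev_append, inn (w := [3]) rfl]
  have e3 : ev gA o_s * MulAut.conj (ev (Model.g S22 t) [3] * ev (Model.g S22 t) o_b) =
      ev gA (o_s ++ [3] ++ o_b) := by
    rw [ev_append, map_mul, ← mul_assoc, e2, inn (w := o_b) rfl]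
  have le : ∀ {u : List ℕ} {W : List (List ℕ)}, allL (fun w => an (wOK 10 w) (LA22.cmW u w)) W = true →
      KW (Model.g S22 t) W ≤ fixA (ev gA u) := fun e => KW_le.2 fun w hw => by
    have := an_iff.1 (allL_iff.1 e w hw)
    exact mem_cent_one.2 (inn this.1 ▸ (lm.cmW this.2).symm)
  have o1 := card_fixA hc i2 (out (3 :: o_b) rfl)
  have o2 := card_fixA hc i2 (out (3 :: o_b ++ [3]) rfl)
  have o3 := card_fixA hc i2 (out (3 :: o_b ++ [3] ++ o_b) rfl)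
  have oac := la.cxFix og.X0 (view_of_chk oa_sg_vw) (la.db (view_of_chk oa_sg_vw) _ oac_DB0_ok) oa_fx
  have obc := la.cxFix og.X0 (view_of_chk ob_sg_vw) (la.db (view_of_chk ob_sg_vw) _ obc_DB0_ok) ob_fx
  have occ := la.cxFix og.X0 (view_of_chk oc_sg_vw) (la.db (view_of_chk oc_sg_vw) _ occ_DB0_ok) oc_fx
  have fa := obc.fix_center (q := 2) (a := ([], 3)) (Φ := [(nat_lit 0, ([], nat_lit 0)), (nat_lit 1, ([], nat_lit 1)), (nat_lit 3, ([], nat_lit 5)), (nat_lit 16, ([], nat_lit 9)), (nat_lit 9, ([nat_lit 7, nat_lit 4], nat_lit 3)), (nat_lit 20, ([nat_lit 8, nat_lit 9, nat_lit 6, nat_lit 5, nat_lit 1], nat_lit 0))]) (by decide +kernel)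
  have ta : t (ob_sg 2) = ev (Model.g S22 t) [3] := (l0.ptOK (e := (ob_sg 2, [], 3)) (by decide +kernel)).2.2
  have b1 : Nat.card (centralizer {ev gA o_s}) ≤ 1 * 1045094400 * 2 := by
    rw [← CZ_one]
    have hZ := le_refl (CZ gA [o_s])
    have u9 := (lm.fin (M := ⊤) hZ _ oau_fin).ub
    have u8 := oac.ub hZ inf_le_left oau_v8 Ex.zero oau_v8_ok u9
    have u7 := og.ub hZ le_top oau_v7 Ex.zero oau_v7_ok u8
    have u6 := oac.ub hZ inf_le_left oau_v6 Ex.zero oau_v6_ok u7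
    have u5 := oac.ub hZ inf_le_left oau_v5 Ex.zero oau_v5_ok u6
    have u4 := oac.ub hZ inf_le_left oau_v4 Ex.zero oau_v4_ok u5
    have u3 := oac.ub hZ inf_le_left oau_v3 Ex.zero oau_v3_ok u4
    have u2 := oac.ub hZ inf_le_left oau_v2 Ex.zero oau_v2_ok u3
    have u1 := oac.ub hZ inf_le_left oau_v1 Ex.zero oau_v1_ok u2
    have u0 := oac.ub hZ inf_le_left oau_v0 Ex.zero oau_v0_ok u1
    exact u0.nil.trans (by decide +kernel)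
  have b2 : Nat.card (centralizer {ev gA (o_s ++ [3])}) ≤ 2 * 1451520 * 2 := by
    rw [← CZ_one]
    have hZ := le_refl (CZ gA [o_s ++ [3]])
    have u8 := (lm.fin (M := ⊤) hZ _ obu_fin).ub
    have u7 := og.ub hZ le_top obu_v7 Ex.zero obu_v7_ok u8
    have u6 := og.ub hZ le_top obu_v6 Ex.zero obu_v6_ok u7
    have u5 := obc.ub hZ inf_le_left obu_v5 Ex.zero obu_v5_ok u6
    have u4 := obc.ub hZ inf_le_left obu_v4 Ex.zero obu_v4_ok u5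
    have u3 := obc.ub hZ inf_le_left obu_v3 Ex.zero obu_v3_ok u4
    have u2 := obc.ub hZ inf_le_left obu_v2 Ex.zero obu_v2_ok u3
    have u1 := obc.ub hZ inf_le_left obu_v1 Ex.zero obu_v1_ok u2
    have u0 := obc.ub hZ inf_le_left obu_v0 Ex.zero obu_v0_ok u1
    rw [Ub, inf_eq_left.2 fun x hx => mem_CP.2 (List.forall_mem_singleton.2 (fa x hx))] at u0
    exact u0.trans (by decide +kernel)
  have b3 : Nat.card (centralizer {ev gA (o_s ++ [3] ++ o_b)}) ≤ 64 * 51840 * 2 := by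
    rw [← CZ_one]
    have hZ := le_refl (CZ gA [o_s ++ [3] ++ o_b])
    have u8 := (lm.fin (M := ⊤) hZ _ ocu_fin).ub
    have u7 := og.ub hZ le_top ocu_v7 Ex.zero ocu_v7_ok u8
    have u6 := og.ub hZ le_top ocu_v6 Ex.zero ocu_v6_ok u7
    have u5 := occ.ub hZ inf_le_left ocu_v5 Ex.zero ocu_v5_ok u6
    have u4 := occ.ub hZ inf_le_left ocu_v4 Ex.zero ocu_v4_ok u5
    have u3 := occ.ub hZ inf_le_left ocu_v3 Ex.zero ocu_v3_ok u4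
    have u2 := occ.ub hZ inf_le_left ocu_v2 Ex.zero ocu_v2_ok u3
    have u1 := occ.ub hZ inf_le_left ocu_v1 Ex.zero ocu_v1_ok u2
    have u0 := occ.ub hZ inf_le_left ocu_v0 Ex.zero ocu_v0_ok u1
    exact u0.nil.trans (by decide +kernel)
  obtain ⟨g1, t1, k1, k2, k3⟩ := exists_A360
  obtain ⟨-, -, φ1, p1, p2, -⟩ := (l0.sub (L' := oaL) (view_of_chk oa_sg_vw) oaL_s _ oaL_p).quot rfl k1 k2 oa_h _ oa_b (an_iff.1 oa_q).1 (le (an_iff.1 oa_q).2)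
    (N := ⊥) bot_le (by rw [card_bot, k3]; exact Nat.le_of_mul_le_mul_right (o1.trans_le b1) two_pos)
  have ha := m0.card_zp Nat.prime_two (x := [3]) (q := 2) (by decide +kernel)
  have ca := card_zpowers_prime Nat.prime_two ha.1 ha.2
  have a2 := (pow_two _).symm.trans ha.1
  obtain ⟨q0, q1, φ2, q2, q3, -⟩ := (l0.sub (L' := obL) (view_of_chk ob_sh_vw) obL_s _ obL_p).quot rfl lm63.1 lm63.2 ob_h _ ob_b (an_iff.1 ob_q).1
    (le (an_iff.1 ob_q).2) (N := zpowers _) (KW_single _ [3]).ge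
    (by rw [ca, card_Sp6]; exact Nat.le_of_mul_le_mul_right (o2.trans_le b2) two_pos)
  have ol0 := Lb.nil (t := t) (KW (Model.g S22 t) oc_V)
  have ol1 := l0.lb (View.id _) (fun _ => mem_KW) ol_v0 ol_v0_ok ol0
  have ol2 := l0.lb (View.id _) (fun _ => mem_KW) ol_v1 ol_v1_ok ol1
  have ol3 := l0.lb (View.id _) (fun _ => mem_KW) ol_v2 ol_v2_ok ol2
  have ol4 := l0.lb (View.id _) (fun _ => mem_KW) ol_v3 ol_v3_ok ol3
  have ol5 := l0.lb (View.id _) (fun _ => mem_KW) ol_v4 ol_v4_ok ol4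
  obtain ⟨r0, r1⟩ := m0.ea Nat.prime_two (by decide +kernel) ol5 (k := 64) (by decide +kernel)
  obtain ⟨-, r2, φ3, r3, r4, -⟩ := (l0.sub (L' := ocL) (view_of_chk oc_sg_vw) ocL_s _ ocL_p).quot rfl lm36.1 lm36.2 oc_h _ oc_b (an_iff.1 oc_q).1
    (le (an_iff.1 oc_q).2) le_rfl
    (by rw [r1, card_O6]; exact Nat.le_of_mul_le_mul_right (o3.trans_le b3) two_pos)
  have n1 := card_of_quot bot_le φ1 p1 p2
  have n2 := card_of_quot q1 φ2 q2 q3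
  have n3 := card_of_quot r2 φ3 r3 r4
  rw [card_bot, k3] at n1
  rw [ca, card_Sp6] at n2
  rw [r1, card_O6] at n3
  have n1 := n1 ▸ o1
  have n2 := n2 ▸ o2
  have n3 := n3 ▸ o3
  obtain ⟨ε, hε⟩ := (l0.sub (L' := oeL) (view_of_chk oe_sg_vw) oeL_s _ oeL_p).sign (nat_lit 0x8007fffffff800000000003fffffffffff8000000007fff8801ffffe0007) (by decide +kernel)
  have q4 : KG _ oeL.r = _ := (KG_sub _ obL_W).trans q0
  have ls := (la.sub (L' := oS) (view_of_chk os_sg_vw) oS_s _ oS_p)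
  have lS := lm.sub ls _ _ oS_b
  have os0 := ls.lb0
  have os1 := ls.lb (View.id _) lets_mem os_v0 os_v0_ok os0
  have os2 := ls.lb (View.id _) lets_mem os_v1 os_v1_ok os1
  have os3 := ls.lb (View.id _) lets_mem os_v2 os_v2_ok os2
  have os4 := ls.lb (View.id _) lets_mem os_v3 os_v3_ok os3
  have os5 := ls.lb (View.id _) lets_mem os_v4 os_v4_ok os4
  have os6 := ls.lb (View.id _) lets_mem os_v5 os_v5_ok os5
  have pc := (PC0.of_chk (fun _ _ => lS.eqW) Nat.prime_two _ _ oS_pc).pc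
    (by rw [KR_zero]; exact (beq_iff.1 (by decide +kernel)).ge.trans os6.le)
  have hN := normal_of_index_eq_two i2
  have cl := classes_of_tree (H := (MulAut.conj : G →* MulAut G).range) pc (by rw [cA, hG]; decide +kernel)
    (fun i h1 h2 => ⟨_, (inn ((orr_iff.1 (allN_iff.1 (by decide +kernel :
      allN (fun i => orr (Nat.beq i 0) (wOK 10 (nth [] oS_W i))) 18 = true) i h2)).resolve_left
        (by rw [beq_iff]; omega))).symm⟩) (fun _ _ => lS.eqW)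
    (R := {y | ∃ r ∈ [o_s, o_s ++ [3], o_s ++ [3] ++ o_b], y = ev gA r}) (fun w hw => by
      obtain ⟨n, -, e⟩ := allZ_sound oS_lv w hw
      obtain ⟨r, hr, e⟩ := anyL_iff.1 e
      exact ⟨_, ⟨r, hr, rfl⟩, ev_fl gA oS_W w ▸ isConj_iff.2 ⟨_, lm.conj_eq e⟩⟩) oS_tr
  have tb : t 107 = ev (Model.g S22 t) o_b := (l0.ptOK (e := (nat_lit 107, ([nat_lit 7, nat_lit 4], nat_lit 3))) (by decide +kernel)).2.2
  refine ⟨ev gA o_s, ev (Model.g S22 t) [3], ev (Model.g S22 t) o_b, orderOf_eq_prime hs.1 hs.2,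
    out (3 :: o_b) rfl, ⟨MulEquiv.ofBijective φ1 ⟨φ1.ker_eq_bot_iff.1 (p2.trans (bot_subgroupOf _)), p1⟩⟩,
    ta ▸ h.mem (by decide +kernel), tb ▸ h.mem (by decide +kernel), l0.neW (p := 2) (by decide +kernel),
    m0.cmW (by decide +kernel), (mem_fixA hc).1 (le (W := [[3]]) (by decide +kernel) (mem_KW (by simp))),
    (mem_fixA hc).1 (le (W := [o_b]) (by decide +kernel) (mem_KW (by simp))), ?_⟩
  refine ⟨fun u h1 h2 => ?_, fun e => ?_, fun e => ?_, fun e => ?_, ?_, ?_, ?_⟩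
  · obtain ⟨_, ⟨r, hr, rfl⟩, e⟩ := cl u (h1 ▸ pow_orderOf_eq_one u) h2
    rw [e2, e3]
    simp only [List.mem_cons, List.not_mem_nil, or_false] at hr
    rcases hr with rfl | rfl | rfl
    exacts [Or.inl e, Or.inr (Or.inl e), Or.inr (Or.inr e)]
  · exact absurd (n1.trans ((card_cent_isConj (e2 ▸ e)).trans n2.symm)) (by norm_num)
  · exact absurd (n1.trans ((card_cent_isConj (e3 ▸ e)).trans n3.symm)) (by norm_num)
  · exact absurd (n2.trans ((card_cent_isConj (e2 ▸ e3 ▸ e)).trans n3.symm)) (by norm_num)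
  · ext x
    have k : Commute x (ev (Model.g S22 t) [3]) → (x ∈ fixA (ev gA o_s * MulAut.conj (ev (Model.g S22 t) [3])) ↔
        x ∈ fixA (ev gA o_s)) := fun c => by
      rw [mem_fixA hc, mem_fixA hc, MulAut.mul_apply, MulAut.conj_apply, conj_eq_iff_commute.2 c.symm]
    refine ⟨fun hx => ?_, fun hx => (k (mem_cent_one.1 hx.2)).2 hx.1⟩
    have := (commute_map_iff _ (conj_injective hc)).1 (ta ▸ fa _ ((CZ_one gA (o_s ++ [3])).ge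
      (show MulAut.conj x ∈ centralizer {ev gA (o_s ++ [3])} from e2 ▸ hx)))
    exact ⟨(k this).1 hx, mem_cent_one.2 this⟩
  · rw [e2]
    refine prod_of_sign φ2 q2 (a := ⟨_, q1 (mem_zpowers _)⟩) (q3.trans (SetLike.ext fun x => ?_))
      (Subtype.ext a2) (ε.comp (inclusion q4.ge)) (hε 7 (by decide) _)
    rw [mem_subgroupOf, mem_zp2 a2, mem_zp2 (Subtype.ext a2), Subtype.ext_iff, Subtype.ext_iff]
    rfl
  · rw [e3]
    exact ⟨_, r0, r1, r2, φ3, r3, r4⟩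

end

end CA.Fs
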